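import Cfsg.Agent.Lib.MathieuTwentyTwo.ModelCounts

/-!
# The 2-rank of `M₂₂` is at most four

An involution other than the central one commutes with at most 27 involutions of an involution
centraliser, so there is no elementary abelian subgroup of order 32.
-/

set_option autoImplicit false
set_option maxRecDepth 100000
set_option linter.unusedSectionVars false
set_option linter.style.haveILetI false

namespace CfsgLib.J4Cover

open Subgroup CfsgLib.Golay CfsgLib.FusionMathieu CfsgLib.MathieuBlocks CfsgLib.MathieuBlocks.Data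
open CfsgLib.MathieuTwentyTwo CfsgLib.MathieuTwentyTwo.Model

/-- The image list squares to the identity. -/
def sqOne (l : List ℕ) : Bool := CfsgLib.Golay.comp l l == List.range 24

/-- The involutions of the centraliser list. -/
def invList : List (List ℕ) := zList.filter fun l => sqOne l && !(l == List.range 24)

/-- Commutation of image lists. -/
def commB (a b : List ℕ) : Bool := CfsgLib.Golay.comp a b == CfsgLib.Golay.comp b a

theorem degree_check : (invList.all fun a =>
    (a == m22AZ) || decide ((invList.filter (commB a)).length ≤ 27)) = true := by decide +kernel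

/-- `M₂₂` has no elementary abelian subgroup of order 32. -/
theorem no_elem32 (B : Subgroup ↥Cfsg.Spor.M22) (hB : Cfsg.IsElementaryAbelian 2 B) :
    Nat.card B ≠ 32 := by
  classical
  intro hcard
  haveI : Nontrivial ↥B := Finite.one_lt_card_iff_nontrivial.1 (by omega)
  obtain ⟨z, hz, hz2, hconj, -, hmem⟩ := two_data
  obtain ⟨⟨t, htB⟩, ht1⟩ := exists_ne (1 : ↥B)
  have ht1' : t ≠ 1 := fun h => ht1 (Subtype.ext h)
  obtain ⟨c, hc⟩ := isConj_iff.1 (hconj t (orderOf_eq_prime (hB.2 t htB) ht1'))
  let B' : Subgroup ↥Cfsg.Spor.M22 := B.map (MulAut.conj c⁻¹).toMonoidHom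
  have hcard' : Nat.card B' = 32 := by
    rw [Subgroup.card_map_of_injective (MulAut.conj c⁻¹).injective, hcard]
  have hzB : z ∈ B' := ⟨t, htB, by
    show c⁻¹ * t * c⁻¹⁻¹ = z
    rw [← hc]; group⟩
  have hab : ∀ a ∈ B', ∀ b ∈ B', a * b = b * a := by
    rintro _ ⟨a, ha, rfl⟩ _ ⟨b, hb, rfl⟩
    rw [← map_mul, ← map_mul]
    exact congrArg _ (congrArg Subtype.val (hB.1.is_comm.comm ⟨a, ha⟩ ⟨b, hb⟩))
  have hsq : ∀ a ∈ B', a * a = 1 := by
    rintro _ ⟨a, ha, rfl⟩
    rw [← map_mul, ← pow_two, hB.2 a ha, map_one]
  have hinv : ∀ b ∈ B', b ≠ 1 → toList b.1 ∈ invList := by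
    intro b hb hb1
    refine List.mem_filter.2 ⟨(hmem b).1 (mem_centralizer_singleton_iff.2 (hab b hb z hzB)), ?_⟩
    have h1 : CfsgLib.Golay.comp (toList b.1) (toList b.1) = List.range 24 := by
      rw [← toList_mul, ← toList_one]
      exact congrArg (fun g : ↥Cfsg.Spor.M22 => toList g.1) (hsq b hb)
    have h2 : toList b.1 ≠ List.range 24 := fun h => hb1 (Subtype.ext (toList_injective (by
      rw [h, ← toList_one]; rfl)))
    simp [sqOne, h1, h2]
  obtain ⟨a, ha, ha1, haz⟩ : ∃ a ∈ B', a ≠ 1 ∧ a ≠ z := by
    by_contra h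
    push Not at h
    have hsub : (B' : Set ↥Cfsg.Spor.M22) ⊆ {1, z} := fun a ha => by
      by_cases h1 : a = 1
      · exact Or.inl h1
      · exact Or.inr (h a ha h1)
    have := (Set.ncard_le_ncard hsub (Set.toFinite _)).trans (Set.ncard_insert_le _ _)
    rw [Set.ncard_singleton, ← Nat.card_coe_set_eq] at this
    change Nat.card B' ≤ 2 at this
    omega
  have hdeg : (invList.filter (commB (toList a.1))).length ≤ 27 := by
    have h := List.all_eq_true.1 degree_check _ (hinv a ha ha1)
    rw [Bool.or_eq_true] at h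
    rcases h with h | h
    · refine absurd (Subtype.ext (toList_injective ?_)) haz
      rw [beq_iff_eq] at h
      rw [h, hz]
    · exact of_decide_eq_true h
  let f : {b : ↥B' // b ≠ 1} → (invList.filter (commB (toList a.1))).toFinset := fun b =>
    ⟨toList (b.1.1).1, List.mem_toFinset.2 (List.mem_filter.2
      ⟨hinv _ b.1.2 (fun h => b.2 (Subtype.ext h)), by
        show commB _ _ = true
        simp only [commB, beq_iff_eq]
        rw [← toList_mul, ← toList_mul]
        exact congrArg (fun g : ↥Cfsg.Spor.M22 => toList g.1) (hab a ha _ b.1.2)⟩)⟩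
  have hf : Function.Injective f := fun x y h =>
    Subtype.ext (Subtype.ext (Subtype.ext (toList_injective (congrArg Subtype.val h))))
  have h31 := Nat.card_le_card_of_injective f hf
  rw [Nat.card_eq_fintype_card (α := {x // x ∈ (invList.filter (commB (toList a.1))).toFinset}),
    Fintype.card_coe] at h31
  have h32 : Nat.card {b : ↥B' // b ≠ 1} = 31 := by
    haveI := Fintype.ofFinite ↥B'
    rw [Nat.card_eq_fintype_card, Fintype.card_subtype_compl, Fintype.card_subtype_eq,
      ← Nat.card_eq_fintype_card, hcard']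
  have := (List.toFinset_card_le (invList.filter (commB (toList a.1)))).trans hdeg
  omega

end CfsgLib.J4Cover
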