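import Cfsg.Agent.Lib.J4Cover.Quot
import Cfsg.Agent.Lib.J4Cover.RankFour

/-!
`E` is extraspecial.
-/

set_option autoImplicit false
set_option linter.unusedSectionVars false

namespace CfsgLib.J4Cover

open Subgroup
open scoped commutatorElement

universe u

namespace Setup

variable {G : Type u} [Group G] [Finite G] (M : Setup G)

variable (hchar : Cfsg.IsCharacteristicTwoType G)

include hchar in
theorem core_not_abelian : ∃ a ∈ M.core, ∃ b ∈ M.core, ¬ Commute a b := by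
  haveI : Fact (Nat.Prime 2) := ⟨Nat.prime_two⟩
  by_contra hcon
  push Not at hcon
  obtain ⟨-, hE5, hsq⟩ := M.core_card hchar
  -- squares are trivial
  let K0 : Subgroup G :=
    { carrier := {a | a ∈ M.core ∧ a * a = 1}
      one_mem' := ⟨one_mem _, one_mul 1⟩
      mul_mem' := fun {a b} ha hb => ⟨mul_mem ha.1 hb.1, by
        rw [(hcon b hb.1 a ha.1).mul_mul_mul_comm, ha.2, hb.2, one_mul]⟩
      inv_mem' := fun {a} ha => ⟨inv_mem ha.1, by rw [← mul_inv_rev, ha.2, inv_one]⟩ }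
  have hz2 : M.z * M.z = 1 := by rw [← pow_two, ← M.hz, pow_orderOf_eq_one]
  have hel : ∀ a ∈ M.core, a * a = 1 := by
    intro a ha
    set a' := M.x * a * M.x⁻¹ with ha'
    have ha'E : a' ∈ M.core := M.core_conj M.x_mem ha
    have hzx : M.x * (a * a) * M.x⁻¹ = a * a := by
      obtain ⟨i, hi⟩ := mem_zpowers_iff.1 (hsq a ha)
      rw [← hi, ((M.hzx.symm).zpow_right i).eq, mul_inv_cancel_right]
    have hm : a⁻¹ * a' ∈ K0 := ⟨mul_mem (inv_mem ha) ha'E, by
      rw [(hcon a' ha'E a⁻¹ (inv_mem ha)).mul_mul_mul_comm,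
        show a' * a' = M.x * (a * a) * M.x⁻¹ by rw [ha']; group, hzx]
      group⟩
    obtain ⟨b, hb, hc⟩ := exists_fixed_in_coset M.hx (B := K0) (M.core_two.to_le (show K0 ≤ M.core from fun _ h => h.1))
      (fun b hb => ⟨M.core_conj M.x_mem hb.1, by
        calc M.x * b * M.x⁻¹ * (M.x * b * M.x⁻¹) = M.x * (b * b) * M.x⁻¹ := by group
          _ = 1 := by rw [hb.2]; group⟩) hm
    obtain ⟨i, hi⟩ := mem_zpowers_iff.1 (M.fixed_x (mul_mem ha hb.1) hc.symm)
    have hab : a * b * (a * b) = 1 := by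
      rw [← hi, ← (Commute.refl M.z).mul_zpow, hz2, one_zpow]
    rwa [(hcon b hb.1 a ha).mul_mul_mul_comm, hb.2, mul_one] at hab
  -- `C_E(y)` embeds in `M22`
  obtain ⟨π, -, -, hπ1, -⟩ := M.exists_projY
  set A := M.core ⊓ cC M.y
  let f : A →* ↥Cfsg.Spor.M22 := π.comp (Subgroup.inclusion inf_le_right)
  have hf : Function.Injective f := by
    rw [← MonoidHom.ker_eq_bot_iff, eq_bot_iff]
    intro a ha
    rw [Subgroup.mem_bot]
    have hcent : ∀ d ∈ cC M.y, Commute (a : G) d := fun d hd =>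
      congrArg Subtype.val (hπ1 ⟨a, a.2.2⟩ ha ⟨d, hd⟩)
    obtain ⟨i, hi⟩ := mem_zpowers_iff.1 (M.fixed_x a.2.1 (hcent M.x (mem_cC.2 M.hxy)))
    rw [← zpow_mod_orderOf, M.hz] at hi
    rcases Int.emod_two_eq_zero_or_one i with e | e
    · exact Subtype.ext (by rw [← hi]; norm_num [e])
    · exfalso
      have haz : (a : G) = M.z := by rw [← hi]; norm_num [e]
      exact M.z_not_central_y hchar fun d hd => haz ▸ hcent d hd
  refine no_elem32 f.range ⟨⟨⟨?_⟩⟩, ?_⟩ ?_
  · rintro ⟨_, a, rfl⟩ ⟨_, b, rfl⟩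
    refine Subtype.ext ?_
    show f a * f b = f b * f a
    rw [← map_mul, ← map_mul]
    exact congrArg f (Subtype.ext (hcon a a.2.1 b b.2.1).eq)
  · rintro _ ⟨a, rfl⟩
    rw [← map_pow, show a ^ 2 = 1 from Subtype.ext (by
      show (a : G) ^ 2 = 1
      rw [pow_two]; exact hel a a.2.1), map_one]
  · rw [← Nat.card_congr (MonoidHom.ofInjective hf).toEquiv]
    simpa using hE5

include hchar in
/-- The core is extraspecial. -/
theorem core_extraspecial : Cfsg.IsExtraspecial 2 M.core := by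
  haveI : Fact (Nat.Prime 2) := ⟨Nat.prime_two⟩
  obtain ⟨a0, ha0, b0, hb0, hab0⟩ := M.core_not_abelian hchar
  obtain ⟨hcard, -, hsq⟩ := M.core_card hchar
  set zE : M.core := ⟨M.z, M.z_mem⟩
  have hzo : orderOf zE = 2 := by rw [← Subgroup.orderOf_coe]; exact M.hz
  have hz : ∀ a : M.core, (a : G) ∈ zpowers M.z ↔ a ∈ zpowers zE := fun a => by
    rw [mem_zpowers_iff, mem_zpowers_iff]
    exact exists_congr fun i => ⟨fun h => Subtype.ext h, fun h => congrArg Subtype.val h⟩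
  -- the centre
  have hzc : zpowers zE ≤ center M.core := zpowers_le.2 (mem_center_iff.2 fun a =>
    Subtype.ext (mem_cC.1 (M.core_le a.2)).eq)
  set A := (center M.core).map M.core.subtype
  have hA : ∀ h ∈ cC M.z, ∀ a ∈ A, h * a * h⁻¹ ∈ A := by
    rintro h hh _ ⟨c, hc, rfl⟩
    refine ⟨⟨h * c * h⁻¹, M.core_conj hh c.2⟩, mem_center_iff.2 fun b => Subtype.ext ?_, rfl⟩
    have hb : h⁻¹ * b * h ∈ M.core := by simpa using M.core_conj (inv_mem hh) b.2
    have e : h⁻¹ * b * h * c = c * (h⁻¹ * b * h) :=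
      congrArg Subtype.val (mem_center_iff.1 hc ⟨_, hb⟩)
    show (b : G) * (h * c * h⁻¹) = h * c * h⁻¹ * b
    calc (b : G) * (h * c * h⁻¹) = h * (h⁻¹ * b * h * c) * h⁻¹ := by group
      _ = _ := by rw [e]; group
  have hAE : A ≤ M.core := map_subtype_le _
  have hzA : zpowers M.z ≤ A := zpowers_le.2 ⟨zE, hzc (mem_zpowers _), rfl⟩
  have hcenter : center M.core = zpowers zE := by
    refine le_antisymm (fun a ha => ?_) hzc
    by_contra hn
    have hlt : zpowers M.z < A := lt_of_le_of_ne hzA fun e => hn ((hz a).1 (e ▸ ⟨a, ha, rfl⟩))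
    have hzconj : ∀ h ∈ cC M.z, ∀ a ∈ zpowers M.z, h * a * h⁻¹ ∈ zpowers M.z := fun h hh a ha => by
      obtain ⟨i, rfl⟩ := mem_zpowers_iff.1 ha
      rw [((mem_cC.1 hh).zpow_right i).eq, mul_inv_cancel_right]
      exact zpow_mem (mem_zpowers _) i
    obtain ⟨h1, -⟩ := M.section_card le_rfl hlt hAE hA hzconj fun a ha => hsq a (hAE ha)
    have hAcard : Nat.card M.core ≤ Nat.card A := by
      rw [← card_mul_rel hzA, h1, Nat.card_zpowers, M.hz, hcard]
      norm_num
    have hEA := eq_of_le_of_card_ge hAE hAcard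
    refine hab0 ?_
    obtain ⟨c, hc, hca⟩ := hEA.ge ha0
    exact (hca ▸ (congrArg Subtype.val (mem_center_iff.1 hc ⟨b0, hb0⟩) : b0 * (c : G) = c * b0) :
      b0 * a0 = a0 * b0).symm
  -- commutators
  have hcl : commutator M.core ≤ zpowers zE := by
    rw [commutator_eq_closure, closure_le]
    rintro _ ⟨p, q, rfl⟩
    refine (hz _).1 ?_
    show (p : G) * q * (p : G)⁻¹ * (q : G)⁻¹ ∈ zpowers M.z
    obtain ⟨i, hi⟩ := mem_zpowers_iff.1 (M.comm_core hchar p.2 q.2)
    refine mem_zpowers_iff.2 ⟨i, ?_⟩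
    calc M.z ^ i = (q : G) * M.z ^ i * (q : G)⁻¹ := by
          rw [((mem_cC.1 (M.core_le q.2)).zpow_right i).eq, mul_inv_cancel_right]
      _ = _ := by rw [hi]; group
  have hcne : commutator M.core = zpowers zE := by
    refine eq_of_le_of_card_ge hcl ?_
    rw [Nat.card_zpowers, hzo]
    refine Nat.succ_le_of_lt (Finite.one_lt_card_iff_nontrivial.2 ?_)
    rw [Subgroup.nontrivial_iff_ne_bot]
    intro e
    refine hab0 ?_
    have hm : ⁅(⟨a0, ha0⟩ : M.core), (⟨b0, hb0⟩ : M.core)⁆ ∈ (⊥ : Subgroup M.core) := by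
      rw [← e, _root_.commutator_def]
      exact commutator_mem_commutator (mem_top _) (mem_top _)
    rw [Subgroup.mem_bot, commutatorElement_eq_one_iff_commute] at hm
    exact congrArg Subtype.val hm.eq
  refine ⟨⟨M.core_two, ?_, by rw [hcne, hcenter]⟩, by rw [hcenter, Nat.card_zpowers, hzo]⟩
  rw [hcenter]
  refine le_antisymm (CfsgLib.PGroup.frattini_le_of (p := 2) _ hcl fun a => (hz _).1 ?_)
    (hcne ▸ CfsgLib.PGroup.commutator_le_frattini M.core_two)
  show (a : G) ^ 2 ∈ zpowers M.z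
  rw [pow_two]
  exact hsq a a.2

end Setup

end CfsgLib.J4Cover
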