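import Cfsg.Agent.Lib.J4Cover.Normal
import Cfsg.Agent.Lib.J4Cover.Extra

/-!
The set-up gives the Janko-four type.
-/

set_option autoImplicit false
set_option linter.unusedSectionVars false

namespace CfsgLib.J4Cover

open Subgroup

universe u

namespace Setup

variable {G : Type u} [Group G] [Finite G] (M : Setup G)

theorem centralizer_zpowers_x : centralizer ((zpowers M.x : Subgroup G) : Set G) = cC M.x := by
  rw [zpowers_eq_closure, centralizer_closure]

theorem inf_centralizer_x : cC M.z ⊓ centralizer ((zpowers M.x : Subgroup G) : Set G) = cC M.x := by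
  rw [centralizer_zpowers_x, inf_eq_right]
  exact M.le_cen_z

variable (hchar : Cfsg.IsCharacteristicTwoType G)

include hchar in
theorem exists_N : ∃ N : Subgroup G, M.core ≤ N ∧ N ≤ cC M.z ∧ cC M.z ≤ normalizer (N : Set G) ∧
    Nat.card N = 3 * Nat.card M.core ∧
    (∃ _ : (N.subgroupOf (cC M.z)).Normal,
      Nonempty (↥(cC M.z) ⧸ N.subgroupOf (cC M.z) ≃* MulAut ↥Cfsg.Spor.M22)) ∧
    zpowers M.x ≤ N := by
  haveI := M.zpowers_xq_normal hchar
  obtain ⟨e⟩ := M.quot_iso hchar
  set N' : Subgroup (cC M.z) := (zpowers M.xq).comap M.mq with hN'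
  set N := N'.map (cC M.z).subtype with hN
  have hsub : N.subgroupOf (cC M.z) = N' := comap_map_eq_self_of_injective (subtype_injective _) N'
  haveI hn : (N.subgroupOf (cC M.z)).Normal := hsub ▸ (inferInstance : ((zpowers M.xq).comap M.mq).Normal)
  have hle : N ≤ cC M.z := map_subtype_le _
  refine ⟨N, ?_, hle, (normal_subgroupOf_iff_le_normalizer hle).1 hn, ?_, ⟨hn, ⟨?_⟩⟩, ?_⟩
  · rintro a ha
    refine ⟨⟨a, M.core_le ha⟩, ?_, rfl⟩
    rw [hN', SetLike.mem_coe, mem_comap, show M.mq ⟨a, M.core_le ha⟩ = 1 from (QuotientGroup.eq_one_iff _).2 (M.mem_coreH.2 ha)]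
    exact one_mem _
  · rw [hN, card_map_of_injective (subtype_injective _)]
    have hE : Nat.card M.coreH = Nat.card M.core :=
      (card_map_of_injective (subtype_injective _)).symm
    have e1 := card_eq_card_quotient_mul_card_subgroup M.coreH
    have e2 := N'.card_mul_index
    have e3 := (zpowers M.xq).card_mul_index
    rw [hN', index_comap_of_surjective _ (QuotientGroup.mk'_surjective _)] at e2
    rw [Nat.card_zpowers, M.xq_order] at e3
    rw [e1, hE, ← e3, mul_right_comm, Nat.mul_left_inj index_ne_zero_of_finite] at e2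
    exact e2
  · let f : cC M.z →* M.Qt ⧸ zpowers M.xq := (QuotientGroup.mk' _).comp M.mq
    have hf : Function.Surjective f :=
      (QuotientGroup.mk'_surjective _).comp (QuotientGroup.mk'_surjective _)
    have hk : N.subgroupOf (cC M.z) = f.ker := by
      rw [hsub, hN', ← MonoidHom.comap_ker, QuotientGroup.ker_mk']
    exact ((QuotientGroup.quotientMulEquivOfEq hk).trans
      (QuotientGroup.quotientKerEquivOfSurjective f hf)).trans e
  · refine zpowers_le.2 ⟨M.xH, ?_, rfl⟩
    rw [hN', SetLike.mem_coe, mem_comap]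
    exact mem_zpowers _

include hchar in
theorem jankoFour : Cfsg.IsOfJankoFourTypeWith M.z (zpowers M.x) := by
  refine ⟨M.hz, M.core_extraspecial hchar, (M.core_card hchar).1, ?_, M.exists_N hchar,
    by rw [Nat.card_zpowers, M.hx], ?_, ?_, ?_⟩
  · intro h hh
    exact M.self_cent hchar hh.1 fun e he => ((mem_centralizer_iff.1 hh.2) e he).symm
  · refine le_antisymm (fun a ha => ?_) (le_inf M.zpowers_z_le (zpowers_le.2 ?_))
    · exact M.fixed_x ha.1 (mem_centralizer_iff.1 ha.2 M.x (mem_zpowers _)).symm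
    · rw [centralizer_zpowers_x]
      exact mem_cC.2 M.hzx
  · intro he
    obtain ⟨w, hw, hwx, -⟩ := M.exists_inverter
    have hwn : w ∈ normalizer ((zpowers M.x : Subgroup G) : Set G) := by
      refine CfsgLib.MathieuTwentyTwo.mem_normalizer_of_conj_mem fun b hb => ?_
      obtain ⟨i, rfl⟩ := mem_zpowers_iff.1 hb
      rw [← conj_zpow, hwx]
      exact zpow_mem (inv_mem (mem_zpowers _)) i
    have hmem : w ∈ cC M.z ⊓ centralizer ((zpowers M.x : Subgroup G) : Set G) := he.le ⟨hw, hwn⟩
    rw [inf_centralizer_x, mem_cC] at hmem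
    rw [hmem.eq, mul_inv_cancel_right] at hwx
    have h2 : M.x ^ 2 = 1 := by
      rw [pow_two]
      nth_rw 1 [hwx]
      exact inv_mul_cancel _
    have := orderOf_dvd_of_pow_eq_one h2
    rw [M.hx] at this
    norm_num at this
  · rw [inf_centralizer_x, ← Subgroup.map_subtype_commutator, M.hcov.perfect, ← MonoidHom.range_eq_map,
      range_subtype]
    exact zpowers_le.2 (mem_cC.2 rfl)

end Setup

end CfsgLib.J4Cover
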