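import Cfsg.Agent.Lib.MathieuAut22.Main

/-!
# A group with a normal subgroup of order three over `Aut M22`

If `x` has order 3, `⟨x⟩` is normal in `Q`, and the centraliser `C` of `x` has index 2, is perfect
and covers `M22` with kernel `⟨x⟩`, then `Q / ⟨x⟩` is isomorphic to `Aut M22`.
-/

set_option autoImplicit false

universe u

namespace CfsgLib.J4Cover

open Cfsg Subgroup

namespace AutQuot

variable {Q : Type u} [Group Q] {M : Type*} [Group M]

/-- A group element centralising a perfect group modulo its centre centralises it. -/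
theorem commute_of_commutator_mem {C X : Subgroup Q} (hperf : commutator C = ⊤)
    (hX : ∀ z ∈ X, ∀ c ∈ C, Commute z c) (hXC : X ≤ C) {q : Q}
    (h : ∀ c ∈ C, q * c * q⁻¹ * c⁻¹ ∈ X) : ∀ c ∈ C, Commute q c := by
  have hcomm : ∀ y z : X, Commute y z := fun y z => Subtype.ext (hX y y.2 z (hXC z.2))
  let f : C →* X :=
    { toFun := fun c => ⟨q * c * q⁻¹ * (c : Q)⁻¹, h c c.2⟩
      map_one' := Subtype.ext (by simp)
      map_mul' := fun a b => Subtype.ext (by
        show q * (a * b : Q) * q⁻¹ * (a * b : Q)⁻¹ =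
          (q * a * q⁻¹ * (a : Q)⁻¹) * (q * b * q⁻¹ * (b : Q)⁻¹)
        have e : Commute (q * b * q⁻¹ * (b : Q)⁻¹) (a : Q)⁻¹ :=
          hX _ (h b b.2) _ (inv_mem a.2)
        calc q * (a * b : Q) * q⁻¹ * (a * b : Q)⁻¹
            = q * a * q⁻¹ * ((q * b * q⁻¹ * (b : Q)⁻¹) * (a : Q)⁻¹) := by group
          _ = q * a * q⁻¹ * ((a : Q)⁻¹ * (q * b * q⁻¹ * (b : Q)⁻¹)) := by rw [e.eq]
          _ = _ := by group) }
  have hker : f.ker = ⊤ := by
    rw [eq_top_iff, ← hperf, commutator_def]
    refine commutator_le.mpr fun a _ b _ => ?_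
    rw [MonoidHom.mem_ker, map_commutatorElement]
    exact commutatorElement_eq_one_iff_commute.mpr (hcomm (f a) (f b))
  intro c hc
  have h1 : f ⟨c, hc⟩ = 1 := MonoidHom.mem_ker.mp (hker ▸ Subgroup.mem_top _)
  have h2 : q * c * q⁻¹ * c⁻¹ = 1 := congrArg Subtype.val h1
  exact mul_inv_eq_iff_eq_mul.mp (mul_inv_eq_one.mp h2)

/-- The automorphism of a quotient of a normal subgroup induced by conjugation. -/
theorem exists_induced (C : Subgroup Q) [C.Normal] (φ : C →* M) (hφ : Function.Surjective φ)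
    (hinv : ∀ (q : Q) (c : C), φ c = 1 → φ (MulAut.conjNormal q c) = 1) :
    ∃ ψ : Q →* MulAut M, ∀ q c, ψ q (φ c) = φ (MulAut.conjNormal q c) := by
  let s := Function.surjInv hφ
  have hs : ∀ m, φ (s m) = m := Function.surjInv_eq hφ
  let θ : Q → M → M := fun q m => φ (MulAut.conjNormal q (s m))
  have hθ : ∀ q c, θ q (φ c) = φ (MulAut.conjNormal q c) := by
    intro q c
    have h1 : φ (c⁻¹ * s (φ c)) = 1 := by rw [map_mul, map_inv, hs, inv_mul_cancel]
    have h2 := hinv q _ h1
    rw [map_mul, map_inv, map_mul, map_inv, inv_mul_eq_one] at h2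
    exact h2.symm
  have hmul : ∀ q m n, θ q (m * n) = θ q m * θ q n := by
    intro q m n
    obtain ⟨a, rfl⟩ := hφ m
    obtain ⟨b, rfl⟩ := hφ n
    rw [← map_mul, hθ, hθ, hθ, map_mul, map_mul]
  have hcomp : ∀ p q m, θ (p * q) m = θ p (θ q m) := by
    intro p q m
    obtain ⟨a, rfl⟩ := hφ m
    rw [hθ (p * q) a, hθ q a, hθ p, map_mul]
    rfl
  have hone : ∀ m, θ 1 m = m := by
    intro m
    obtain ⟨a, rfl⟩ := hφ m
    rw [hθ, map_one]
    rfl
  let e : Q → MulAut M := fun q =>
    { toFun := θ q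
      invFun := θ q⁻¹
      left_inv := fun m => by rw [← hcomp, inv_mul_cancel, hone]
      right_inv := fun m => by rw [← hcomp, mul_inv_cancel, hone]
      map_mul' := hmul q }
  exact ⟨MonoidHom.mk' e fun p q => MulEquiv.ext (hcomp p q), hθ⟩

end AutQuot

open AutQuot in
/-- The quotient by `⟨x⟩` is the automorphism group of `M22`. -/
theorem nonempty_quot_equiv_mulAut {Q : Type u} [Group Q] [Finite Q] (x : Q) (hx : orderOf x = 3)
    (C : Subgroup Q) (hC : C = centralizer {x}) (hidx : C.index = 2) [(zpowers x).Normal]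
    (hperf : commutator C = ⊤) (φ : C →* Spor.M22) (hφ : Function.Surjective φ)
    (hker : ∀ c : C, φ c = 1 ↔ (c : Q) ∈ zpowers x) :
    Nonempty (Q ⧸ zpowers x ≃* MulAut Spor.M22) := by
  haveI : C.Normal := normal_of_index_eq_two hidx
  have hxC : x ∈ C := by rw [hC]; exact mem_centralizer_singleton_iff.mpr rfl
  have hX : ∀ z ∈ zpowers x, ∀ c ∈ C, Commute z c := by
    intro z hz c hc
    obtain ⟨k, rfl⟩ := mem_zpowers_iff.mp hz
    rw [hC] at hc
    exact (Commute.zpow_left (mem_centralizer_singleton_iff.mp hc).symm k)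
  have hXC : zpowers x ≤ C := zpowers_le.mpr hxC
  obtain ⟨ψ, hψ⟩ := exists_induced C φ hφ (fun q c hc => by
    rw [hker] at hc ⊢
    rw [MulAut.conjNormal_apply]
    exact Normal.conj_mem inferInstance _ hc q)
  have hψC : ∀ c : C, ψ (c : Q) = MulAut.conj (φ c) := by
    intro c
    refine MulEquiv.ext fun m => ?_
    obtain ⟨a, rfl⟩ := hφ m
    rw [hψ, MulAut.conj_apply]
    rw [show MulAut.conjNormal (c : Q) a = c * a * c⁻¹ from
      Subtype.ext (by rw [MulAut.conjNormal_apply]; rfl), map_mul, map_mul, map_inv]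
  have hkerψ : ψ.ker = zpowers x := by
    ext q
    rw [MonoidHom.mem_ker]
    constructor
    · intro hq
      have hcc : ∀ c ∈ C, q * c * q⁻¹ * c⁻¹ ∈ zpowers x := by
        intro c hc
        have h1 := hψ q ⟨c, hc⟩
        rw [hq] at h1
        have h2 : φ (MulAut.conjNormal q ⟨c, hc⟩ * ⟨c, hc⟩⁻¹) = 1 := by
          rw [map_mul, map_inv, ← h1, MulAut.one_apply, mul_inv_cancel]
        have h3 := (hker _).mp h2
        rwa [Subgroup.coe_mul, Subgroup.coe_inv, MulAut.conjNormal_apply] at h3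
      have hqC : q ∈ C := by
        rw [hC]
        exact mem_centralizer_singleton_iff.mpr
          (commute_of_commutator_mem hperf hX hXC hcc x hxC).eq
      have h1 := hψC ⟨q, hqC⟩
      rw [hq] at h1
      have h2 : φ ⟨q, hqC⟩ = 1 := MathieuAut22.conj_injective (by rw [← h1, map_one])
      exact (hker _).mp h2
    · intro hq
      have h1 := hψC ⟨q, hXC hq⟩
      rw [(hker ⟨q, hXC hq⟩).mpr hq, map_one] at h1
      exact h1
  have hk : φ.ker = (zpowers x).subgroupOf C := by
    ext c
    rw [MonoidHom.mem_ker, hker, mem_subgroupOf]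
  have hcardC : Nat.card C = Nat.card (zpowers x) * 443520 := by
    rw [← φ.ker.card_mul_index, index_ker, hk,
      Nat.card_congr (subgroupOfEquivOfLe hXC).toEquiv,
      MonoidHom.range_eq_top.mpr hφ, card_top, Golay.natCard_sporM22]
  have hcardQ : Nat.card Q = Nat.card C * 2 := by rw [← hidx, C.card_mul_index]
  have hquot : Nat.card (Q ⧸ zpowers x) = 887040 := by
    have h := (zpowers x).card_mul_index
    rw [hcardQ, hcardC, Nat.card_zpowers, hx] at h
    rw [← index_eq_card]
    omega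
  let e0 : Q ⧸ zpowers x →* MulAut Spor.M22 :=
    QuotientGroup.lift (zpowers x) ψ (le_of_eq hkerψ.symm)
  have hinj : Function.Injective e0 := by
    intro a b hab
    induction a using QuotientGroup.induction_on with
    | _ a =>
      induction b using QuotientGroup.induction_on with
      | _ b =>
        rw [QuotientGroup.eq, ← hkerψ, MonoidHom.mem_ker, map_mul, map_inv]
        exact inv_mul_eq_one.mpr hab
  exact ⟨MulEquiv.ofBijective e0 ((Nat.bijective_iff_injective_and_card _).mpr
    ⟨hinj, by rw [hquot, MathieuAut22.natCard_mulAut_sporM22]⟩)⟩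

end CfsgLib.J4Cover
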