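import Cfsg.Agent.Lib.J4Cover.Cover

/-!
A nontrivial action of the perfect sixfold cover of `M22` on a 2-group needs at least `2 ^ 10` points.
-/

set_option autoImplicit false

namespace CfsgLib.J4Cover

open Subgroup

universe u v

theorem two_pow_mod_eleven : ∀ i < 10, ∀ j < 10, 2 ^ i % 11 = 2 ^ j % 11 → i = j := by
  decide

theorem card_ge_of_nontrivial {C : Type u} [Group C] [Finite C] (h : Cover C) {W : Type v} [Group W]
    [Finite W] (hW : IsPGroup 2 W) (phi : C →* MulAut W) {c : C} (hc : phi c ≠ 1) :
    2 ^ 10 ≤ Nat.card W := by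
  classical
  have : Fact (Nat.Prime 2) := ⟨Nat.prime_two⟩
  have : Fact (Nat.Prime 11) := ⟨by norm_num⟩
  by_contra hlt
  obtain ⟨j, hj⟩ := IsPGroup.iff_card.1 hW
  obtain ⟨d, hd⟩ := exists_prime_orderOf_dvd_card' (G := C) 11 (by rw [h.card]; norm_num)
  -- the element of order eleven acts trivially
  let F : Subgroup W :=
    { carrier := {w | phi d w = w}
      one_mem' := map_one _
      mul_mem' := fun {a b} ha hb => by
        show phi d (a * b) = a * b
        rw [map_mul, show phi d a = a from ha, show phi d b = b from hb]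
      inv_mem' := fun {a} ha => by
        show phi d a⁻¹ = a⁻¹
        rw [map_inv, show phi d a = a from ha] }
  let f : Function.End W := fun w => phi d w
  have hf : f ^ 11 ^ 1 = 1 := by
    have hpow : ∀ n : ℕ, f ^ n = fun w => phi (d ^ n) w := by
      intro n
      induction n with
      | zero => funext w; simp [Function.End.one_def]
      | succ n ih =>
        funext w
        rw [pow_succ, pow_succ, map_mul, MulAut.mul_apply, ih]
        rfl
    rw [hpow, pow_one, ← hd, pow_orderOf_eq_one]
    funext w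
    simp [Function.End.one_def]
  have : Fintype W := Fintype.ofFinite W
  have hfix := Equiv.Perm.card_fixedPoints_modEq hf
  obtain ⟨i, hi⟩ := IsPGroup.iff_card.1 (hW.to_subgroup F)
  have hF : Fintype.card f.fixedPoints = Nat.card F := by
    rw [← Nat.card_eq_fintype_card]
    rfl
  rw [hF, hi, ← Nat.card_eq_fintype_card, hj] at hfix
  have hj10 : j < 10 := (Nat.pow_lt_pow_iff_right (show 1 < 2 by norm_num)).1 (hj ▸ not_le.1 hlt)
  have hi10 : i < 10 := by
    refine lt_of_le_of_lt ((Nat.pow_le_pow_iff_right (show 1 < 2 by norm_num)).1 ?_) hj10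
    rw [← hi, ← hj]
    exact Subgroup.card_le_card_group F
  have hFtop : F = ⊤ := Subgroup.eq_top_of_card_eq F (by
    rw [hi, hj, two_pow_mod_eleven i hi10 j hj10 hfix.symm])
  have hdK : d ∈ phi.ker := MulEquiv.ext fun w => by
    have : w ∈ F := hFtop ▸ mem_top w
    exact this
  -- hence everything does
  have hdZ : h.proj d ≠ 1 := fun e => by
    have h6 := orderOf_dvd_of_pow_eq_one (h.center_pow (h.mem_ker.1 e))
    rw [hd] at h6
    norm_num at h6
  have := CfsgLib.J4Cover.m22.isSimple
  have htop : phi.ker.map h.proj = ⊤ :=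
    ((inferInstance : phi.ker.Normal).map h.proj h.proj_surjective).eq_bot_or_eq_top.resolve_left
      fun e => hdZ ((Subgroup.eq_bot_iff_forall _).1 e _ (mem_map_of_mem _ hdK))
  have hsplit : ∀ a : C, ∃ k ∈ phi.ker, ∃ z ∈ center C, a = k * z := fun a => by
    obtain ⟨k, hk, hka⟩ := htop.symm ▸ mem_top (h.proj a)
    exact ⟨k, hk, k⁻¹ * a, h.mem_ker.1 (by rw [map_mul, map_inv, hka, inv_mul_cancel]), by group⟩
  have hle : commutator C ≤ phi.ker := by
    rw [commutator_def, Subgroup.commutator_le]
    intro a _ b _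
    obtain ⟨k, hk, z, hz, rfl⟩ := hsplit a
    obtain ⟨k', hk', z', hz', rfl⟩ := hsplit b
    rw [MonoidHom.mem_ker, commutatorElement_def]
    simp only [map_mul, map_inv, MonoidHom.mem_ker.1 hk, MonoidHom.mem_ker.1 hk', one_mul]
    rw [← map_inv, ← map_inv, ← map_mul, ← map_mul, ← map_mul,
      (mem_center_iff.1 hz z').symm, mul_inv_cancel_right, mul_inv_cancel, map_one]
  exact hc (hle (by rw [h.perfect]; exact mem_top c))

end CfsgLib.J4Cover
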