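import Mathlib

/-!
A commuting pair of automorphisms of order three of a group of exponent two, the first one
fixed-point-free, splits it into the fixed groups of the three other lines.
-/

set_option autoImplicit false
set_option linter.unusedSectionVars false

namespace CfsgLib.J4Cover

variable {W : Type*} [AddCommGroup W]

/-- The fixed group of an automorphism. -/
def fixedPart (y : W ≃+ W) : AddSubgroup W where
  carrier := {v | y v = v}
  add_mem' := fun {a b} ha hb => by show y (a + b) = a + b; rw [map_add, ha, hb]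
  zero_mem' := map_zero y
  neg_mem' := fun {a} ha => by show y (-a) = -a; rw [map_neg, ha]

theorem mem_fixedPart {y : W ≃+ W} {v : W} : v ∈ fixedPart y ↔ y v = v := Iff.rfl

/-- A fixed-point-free automorphism of order three has vanishing trace. -/
theorem trace_eq_zero (x : W ≃+ W) (h3 : ∀ v, x (x (x v)) = v) (hfree : ∀ v, x v = v → v = 0) (v : W) :
    v + x v + x (x v) = 0 :=
  hfree _ (by rw [map_add, map_add, h3]; abel)

/-- The trace of `y`. -/
def traceOf (y : W ≃+ W) (v : W) : W := v + y v + y (y v)

theorem traceOf_add (y : W ≃+ W) (a b : W) : traceOf y (a + b) = traceOf y a + traceOf y b := by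
  simp only [traceOf, map_add]; abel

theorem traceOf_mem {y : W ≃+ W} (h3 : ∀ v, y (y (y v)) = v) (v : W) : traceOf y v ∈ fixedPart y := by
  rw [mem_fixedPart, traceOf, map_add, map_add, h3]; abel

theorem traceOf_self (h2 : ∀ v : W, v + v = 0) {y : W ≃+ W} {v : W} (hv : y v = v) : traceOf y v = v := by
  rw [traceOf, hv, hv, h2 v, zero_add]

/-- `y` and `x y` have no common trace. -/
theorem traceOf_other (x y : W ≃+ W) (hxy : ∀ v, x (y v) = y (x v)) (h3x : ∀ v, x (x (x v)) = v)
    (hfree : ∀ v, x v = v → v = 0) {v : W} (hv : y v = x v ∨ y v = x (x v)) :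
    traceOf y v = 0 := by
  rcases hv with e | e
  · rw [traceOf, e, ← hxy, e]; exact trace_eq_zero x h3x hfree v
  · rw [traceOf, e, ← hxy, ← hxy, e, h3x, add_assoc, add_comm (x (x v)) (x v), ← add_assoc]
    exact trace_eq_zero x h3x hfree v

/-- The product `x y`. -/
def lineTwo (x y : W ≃+ W) : W ≃+ W := y.trans x

/-- The product `x x y`. -/
def lineThree (x y : W ≃+ W) : W ≃+ W := (y.trans x).trans x

theorem lineTwo_apply (x y : W ≃+ W) (v : W) : lineTwo x y v = x (y v) := rfl

theorem lineThree_apply (x y : W ≃+ W) (v : W) : lineThree x y v = x (x (y v)) := rfl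

variable (x y : W ≃+ W) (hxy : ∀ v, x (y v) = y (x v)) (h3x : ∀ v, x (x (x v)) = v)
  (h3y : ∀ v, y (y (y v)) = v) (hfree : ∀ v, x v = v → v = 0) (h2 : ∀ v : W, v + v = 0)

include hxy h3x h3y hfree h2

theorem sum_traces (v : W) :
    traceOf y v + traceOf (lineTwo x y) v + traceOf (lineThree x y) v = v := by
  have t0 := trace_eq_zero x h3x hfree
  simp only [traceOf, lineTwo_apply, lineThree_apply, ← hxy, h3x]
  have a := t0 (y v)
  have b := t0 (y (y v))
  calc (v + y v + y (y v)) + (v + x (y v) + x (x (y (y v)))) + (v + x (x (y v)) + x (y (y v)))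
      = (v + v) + v + (y v + x (y v) + x (x (y v))) + (y (y v) + x (y (y v)) + x (x (y (y v)))) := by abel
    _ = v := by rw [h2 v, a, b, zero_add, add_zero, add_zero]

theorem lineTwo_cube (v : W) : lineTwo x y (lineTwo x y (lineTwo x y v)) = v := by
  simp only [lineTwo_apply, ← hxy, h3x, h3y]

theorem lineThree_cube (v : W) : lineThree x y (lineThree x y (lineThree x y v)) = v := by
  simp only [lineThree_apply, ← hxy, h3x, h3y]

theorem decomp_unique {a b c : W} (ha : a ∈ fixedPart y) (hb : b ∈ fixedPart (lineTwo x y))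
    (hc : c ∈ fixedPart (lineThree x y)) : traceOf y (a + b + c) = a := by
  rw [mem_fixedPart, lineTwo_apply] at hb
  rw [mem_fixedPart, lineThree_apply] at hc
  have eb : y b = x (x b) := by
    conv_rhs => rw [← hb]
    rw [h3x]
  have ec : y c = x c := by
    conv_rhs => rw [← hc]
    rw [h3x]
  rw [traceOf_add, traceOf_add, traceOf_self h2 ha, traceOf_other x y hxy h3x hfree (Or.inr eb),
    traceOf_other x y hxy h3x hfree (Or.inl ec), add_zero, add_zero]

/-- The splitting into the three fixed groups, compatible with maps commuting with `x` and `y`. -/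
theorem exists_split :
    ∃ e : W ≃ fixedPart y × fixedPart (lineTwo x y) × fixedPart (lineThree x y),
      ∀ v, ((e v).1 : W) = traceOf y v ∧ ((e v).2.1 : W) = traceOf (lineTwo x y) v ∧
        ((e v).2.2 : W) = traceOf (lineThree x y) v := by
  have hy2 : ∀ v, x (lineTwo x y v) = lineTwo x y (x v) := fun v => by
    simp only [lineTwo_apply, hxy]
  have hy3 : ∀ v, x (lineThree x y v) = lineThree x y (x v) := fun v => by
    simp only [lineThree_apply, hxy]
  refine ⟨
    { toFun := fun v => (⟨traceOf y v, traceOf_mem h3y v⟩,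
        ⟨traceOf (lineTwo x y) v, traceOf_mem (lineTwo_cube x y hxy h3x h3y hfree h2) v⟩,
        ⟨traceOf (lineThree x y) v, traceOf_mem (lineThree_cube x y hxy h3x h3y hfree h2) v⟩)
      invFun := fun p => p.1.1 + p.2.1.1 + p.2.2.1
      left_inv := fun v => sum_traces x y hxy h3x h3y hfree h2 v
      right_inv := ?_ }, fun v => ⟨rfl, rfl, rfl⟩⟩
  rintro ⟨⟨a, ha⟩, ⟨b, hb⟩, ⟨c, hc⟩⟩
  have ha' : a ∈ fixedPart (lineThree x (lineTwo x y)) := by
    rw [mem_fixedPart] at ha ⊢
    rw [lineThree_apply, lineTwo_apply, h3x, ha]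
  have ha'' : a ∈ fixedPart (lineTwo x (lineThree x y)) := by
    rw [mem_fixedPart] at ha ⊢
    rw [lineTwo_apply, lineThree_apply, h3x, ha]
  have hb' : b ∈ fixedPart (lineThree x (lineThree x y)) := by
    rw [mem_fixedPart] at hb ⊢
    rw [lineThree_apply, lineThree_apply, h3x]
    exact hb
  have hc' : c ∈ fixedPart (lineTwo x (lineTwo x y)) := by
    rw [mem_fixedPart] at hc ⊢
    exact hc
  refine Prod.ext (Subtype.ext ?_) (Prod.ext (Subtype.ext ?_) (Subtype.ext ?_))
  · exact decomp_unique x y hxy h3x h3y hfree h2 ha hb hc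
  · show traceOf (lineTwo x y) (a + b + c) = b
    rw [show a + b + c = b + c + a by abel]
    exact decomp_unique x (lineTwo x y) hy2 h3x (lineTwo_cube x y hxy h3x h3y hfree h2) hfree h2 hb hc' ha'
  · show traceOf (lineThree x y) (a + b + c) = c
    rw [show a + b + c = c + a + b by abel]
    exact decomp_unique x (lineThree x y) hy3 h3x (lineThree_cube x y hxy h3x h3y hfree h2) hfree h2 hc ha'' hb'

theorem card_split [Finite W] : Nat.card W =
    Nat.card (fixedPart y) * Nat.card (fixedPart (lineTwo x y)) * Nat.card (fixedPart (lineThree x y)) := by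
  obtain ⟨e, -⟩ := exists_split x y hxy h3x h3y hfree h2
  rw [Nat.card_congr e, Nat.card_prod, Nat.card_prod, mul_assoc]

end CfsgLib.J4Cover
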