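import Mathlib

/-!
Linear algebra over the field with two elements in the presence of a fixed-point-free automorphism
of order three: subgroups invariant under it have order a power of four.
-/

set_option autoImplicit false

namespace CfsgLib.J4Cover

variable {V : Type*} [AddCommGroup V] [Finite V]

omit [Finite V] in
/-- The three translates of a vector under a fixed-point-free automorphism of order three sum to zero. -/
theorem fpf_three_sum (x : V ≃+ V) (hx : ∀ v, x v = v → v = 0) (hx3 : ∀ v, x (x (x v)) = v) (v : V) :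
    v + x v + x (x v) = 0 := by
  apply hx
  rw [map_add, map_add, hx3]
  abel

omit [Finite V] in
/-- Second power of the automorphism in an elementary abelian 2-group. -/
theorem fpf_three_sq (h2 : ∀ v : V, v + v = 0) (x : V ≃+ V) (hx : ∀ v, x v = v → v = 0)
    (hx3 : ∀ v, x (x (x v)) = v) (v : V) : x (x v) = v + x v := by
  have h := fpf_three_sum x hx hx3 v
  calc x (x v) = (v + x v) + (v + x v + x (x v)) := by
        rw [← add_assoc, h2 (v + x v), zero_add]
    _ = v + x v := by rw [h, add_zero]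

/-- An invariant subgroup has order a power of four. -/
theorem even_dim (h2 : ∀ v : V, v + v = 0) (x : V ≃+ V) (hx : ∀ v, x v = v → v = 0)
    (hx3 : ∀ v, x (x (x v)) = v) (W : AddSubgroup V) (hW : ∀ v ∈ W, x v ∈ W) :
    ∃ k : ℕ, Nat.card W = 4 ^ k := by
  classical
  have hp : IsPGroup 2 (Multiplicative W) := fun w => ⟨1, by
    show Multiplicative.ofAdd ((2 : ℕ) ^ 1 • w.toAdd) = 1
    rw [pow_one, two_nsmul]
    exact congrArg Multiplicative.ofAdd (Subtype.ext (h2 w.toAdd))⟩
  obtain ⟨n, hn⟩ := hp.exists_card_eq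
  rw [Nat.card_congr Multiplicative.toAdd] at hn
  let f : Function.End W := fun w => ⟨x w, hW _ w.2⟩
  have hf : f ^ 3 ^ 1 = 1 := funext fun w => Subtype.ext (hx3 w)
  have : Fact (Nat.Prime 3) := ⟨Nat.prime_three⟩
  have : Fintype W := Fintype.ofFinite W
  have h := Equiv.Perm.card_fixedPoints_modEq hf
  have h1 : Fintype.card f.fixedPoints = 1 := by
    rw [Fintype.card_eq_one_iff]
    refine ⟨⟨0, Subtype.ext (by show x ((0 : W) : V) = _; simp)⟩, ?_⟩
    rintro ⟨w, hw⟩
    exact Subtype.ext (Subtype.ext (hx _ (congrArg Subtype.val hw)))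
  rw [h1, ← Nat.card_eq_fintype_card, hn] at h
  obtain ⟨k, rfl⟩ | ⟨k, rfl⟩ := Nat.even_or_odd n
  · exact ⟨k, by rw [hn, ← two_mul, pow_mul]; norm_num⟩
  · have h4 : 4 ^ k % 3 = 1 := by rw [Nat.pow_mod]; simp
    rw [Nat.ModEq, pow_succ, pow_mul, Nat.mul_mod] at h
    norm_num [h4] at h

omit [Finite V] in
/-- The order of a subgroup is the product of its image and its part of the kernel. -/
theorem card_eq_map_mul_ker (f : V →+ V) (W : AddSubgroup V) :
    Nat.card W = Nat.card (W.map f) * Nat.card (f.ker ⊓ W : AddSubgroup V) := by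
  let g : W →+ V := f.comp W.subtype
  have h := AddSubgroup.card_eq_card_quotient_mul_card_addSubgroup g.ker
  have h1 : Nat.card (W ⧸ g.ker) = Nat.card (W.map f) := by
    rw [Nat.card_congr (QuotientAddGroup.quotientKerEquivRange g).toEquiv]
    exact congrArg (fun S : AddSubgroup V => Nat.card S) (by
      show (f.comp W.subtype).range = _
      rw [AddMonoidHom.range_comp, AddSubgroup.range_subtype])
  have h3 : Nat.card g.ker = Nat.card (f.ker ⊓ W : AddSubgroup V) :=
    Nat.card_congr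
      { toFun := fun a => ⟨a.1.1, a.2, a.1.2⟩
        invFun := fun a => ⟨⟨a.1, a.2.2⟩, a.2.1⟩
        left_inv := fun a => rfl
        right_inv := fun a => rfl }
  rw [h, h1, h3]

/-- The square of a unipotent automorphism of order dividing four which commutes with `x` moves at most
four dimensions of a space of dimension twelve. -/
theorem card_range_sq_sub_one (h2 : ∀ v : V, v + v = 0) (x : V ≃+ V) (hx : ∀ v, x v = v → v = 0)
    (hx3 : ∀ v, x (x (x v)) = v) (u : V ≃+ V) (hc : ∀ v, u (x v) = x (u v))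
    (h4 : ∀ v, u (u (u (u v))) = v) (hcard : Nat.card V = 2 ^ 12) :
    Nat.card (Set.range fun v => u (u v) + v) ≤ 2 ^ 4 := by
  let N : V →+ V := u.toAddMonoidHom + AddMonoidHom.id V
  have hN : ∀ v, N v = u v + v := fun v => rfl
  have hNN : ∀ v, N (N v) = u (u v) + v := fun v => by
    simp only [hN, map_add]
    rw [add_assoc, ← add_assoc (u v) (u v) v, h2, zero_add]
  have hN4 : ∀ v, N (N (N (N v))) = 0 := fun v => by
    simp only [hNN, map_add, h4]
    rw [add_assoc, ← add_assoc (u (u v)) (u (u v)) v, h2, zero_add, h2]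
  have hinv : ∀ W : AddSubgroup V, (∀ v ∈ W, x v ∈ W) → ∀ v ∈ W.map N, x v ∈ W.map N := by
    rintro W hW _ ⟨v, hv, rfl⟩
    exact ⟨x v, hW v hv, by rw [hN, hN, map_add, hc]⟩
  have hker : ∀ W : AddSubgroup V, (∀ v ∈ W, x v ∈ W) → ∀ v ∈ N.ker ⊓ W, x v ∈ N.ker ⊓ W := by
    rintro W hW v ⟨hv, hv'⟩
    refine ⟨?_, hW v hv'⟩
    show u (x v) + x v = 0
    rw [hc, ← map_add, show u v + v = 0 from hv, map_zero]
  let R₁ : AddSubgroup V := (⊤ : AddSubgroup V).map N
  let R₂ : AddSubgroup V := R₁.map N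
  let R₃ : AddSubgroup V := R₂.map N
  have i0 : ∀ v ∈ (⊤ : AddSubgroup V), x v ∈ (⊤ : AddSubgroup V) := fun v hv => hv
  have i1 : ∀ v ∈ R₁, x v ∈ R₁ := hinv _ i0
  have i2 : ∀ v ∈ R₂, x v ∈ R₂ := hinv _ i1
  have i3 : ∀ v ∈ R₃, x v ∈ R₃ := hinv _ i2
  have l21 : R₂ ≤ R₁ := AddSubgroup.map_mono le_top
  have l32 : R₃ ≤ R₂ := AddSubgroup.map_mono l21
  have k3 : N.ker ⊓ R₃ = R₃ := inf_eq_right.2 (by
    rintro _ ⟨_, ⟨_, ⟨v, -, rfl⟩, rfl⟩, rfl⟩
    exact hN4 v)
  obtain ⟨a, ha⟩ := even_dim h2 x hx hx3 _ (hker _ i0)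
  obtain ⟨b, hb⟩ := even_dim h2 x hx hx3 _ (hker _ i1)
  obtain ⟨c, hc'⟩ := even_dim h2 x hx hx3 _ (hker _ i2)
  obtain ⟨d, hd⟩ := even_dim h2 x hx hx3 _ (hker _ i3)
  rw [k3] at hd
  have e0 := card_eq_map_mul_ker N (⊤ : AddSubgroup V)
  have e1 : Nat.card R₁ = _ := card_eq_map_mul_ker N R₁
  have e2 : Nat.card R₂ = _ := card_eq_map_mul_ker N R₂
  rw [hc', hd, ← pow_add] at e2
  rw [hb, e2, ← pow_add] at e1
  rw [AddSubgroup.card_top, hcard, ha, e1, ← pow_add] at e0
  have hab : b ≤ a := by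
    refine (Nat.pow_le_pow_iff_right (show 1 < 4 by norm_num)).1 ?_
    rw [← ha, ← hb]
    exact Nat.card_le_card_of_injective _ (AddSubgroup.inclusion_injective (inf_le_inf_left _ le_top))
  have hbc : c ≤ b := by
    refine (Nat.pow_le_pow_iff_right (show 1 < 4 by norm_num)).1 ?_
    rw [← hb, ← hc']
    exact Nat.card_le_card_of_injective _ (AddSubgroup.inclusion_injective (inf_le_inf_left _ l21))
  have hcd : d ≤ c := by
    refine (Nat.pow_le_pow_iff_right (show 1 < 4 by norm_num)).1 ?_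
    rw [← hc', ← hd]
    refine Nat.card_le_card_of_injective _ (AddSubgroup.inclusion_injective (H := R₃) (K := N.ker ⊓ R₂) ?_)
    exact k3 ▸ inf_le_inf_left _ l32
  have hsum : d + c + b + a = 6 := by
    refine Nat.pow_right_injective (show 2 ≤ 4 by norm_num) ?_
    simpa using e0.symm
  have hset : (Set.range fun v => u (u v) + v) = (R₂ : Set V) := by
    ext w
    constructor
    · rintro ⟨v, rfl⟩
      exact ⟨N v, ⟨v, trivial, rfl⟩, hNN v⟩
    · rintro ⟨_, ⟨v, -, rfl⟩, rfl⟩
      exact ⟨v, (hNN v).symm⟩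
  rw [hset]
  show Nat.card R₂ ≤ _
  rw [e2, show (2 : ℕ) ^ 4 = 4 ^ 2 by norm_num]
  exact Nat.pow_le_pow_right (by norm_num) (by omega)

/-- An involution inverting a fixed-point-free automorphism of order three fixes half of the space. -/
theorem card_fixed_of_inverts (h2 : ∀ v : V, v + v = 0) (x : V ≃+ V) (hx : ∀ v, x v = v → v = 0)
    (hx3 : ∀ v, x (x (x v)) = v) (u : V ≃+ V) (hu : ∀ v, u (u v) = v)
    (hi : ∀ v, u (x v) = x (x (u v))) :
    (Nat.card {v // u v = v}) ^ 2 = Nat.card V := by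
  let N : V →+ V := u.toAddMonoidHom + AddMonoidHom.id V
  have hk : ∀ v, v ∈ N.ker ↔ u v = v := by
    intro v
    show u v + v = 0 ↔ _
    refine ⟨fun h => ?_, fun h => by rw [h, h2]⟩
    calc u v = u v + (v + v) := by rw [h2, add_zero]
      _ = v := by rw [← add_assoc, h, zero_add]
  have he : (⊤ : AddSubgroup V).map N = N.ker := by
    ext v
    constructor
    · rintro ⟨w, -, rfl⟩
      refine (hk _).2 ?_
      show u (u w + w) = u w + w
      rw [map_add, hu, add_comm]
    · intro hv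
      refine ⟨x v, trivial, ?_⟩
      show u (x v) + x v = v
      rw [hi, (hk v).1 hv, fpf_three_sq h2 x hx hx3, add_assoc, h2, add_zero]
  have h := card_eq_map_mul_ker N (⊤ : AddSubgroup V)
  rw [AddSubgroup.card_top, he, inf_top_eq] at h
  rw [h, sq, Nat.card_congr (Equiv.subtypeEquivRight hk).symm]

end CfsgLib.J4Cover
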