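import Cfsg.Agent.Lib.J4Cover.Fusion
import Cfsg.Agent.Lib.J4Cover.Parts
import Cfsg.Agent.Lib.J4Cover.Faithful
import Cfsg.Agent.Lib.J4Cover.Semilinear
import Cfsg.Agent.Lib.PCore.Basic
import Cfsg.Agent.Lib.PGroup.Frattini
import Cfsg.Prelude.Def_CaseTheorems

/-!
The 2-core `E` of `C(z)`: it has order `2^13` and `|C_E(y)| = 32`.
-/

set_option autoImplicit false
set_option linter.unusedSectionVars false

namespace CfsgLib.J4Cover

open Subgroup

universe u

theorem card_mul_rel {G : Type u} [Group G] {A X : Subgroup G} (h : A ≤ X) :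
    Nat.card A * A.relIndex X = Nat.card X := by
  rw [← relIndex_bot_left A, ← relIndex_bot_left X]
  exact relIndex_mul_relIndex ⊥ A X bot_le h

theorem relIndex_sup_normal {G : Type u} [Group G] {A K : Subgroup G} (h : K ≤ normalizer (A : Set G)) :
    A.relIndex (K ⊔ A) = A.relIndex K := by
  haveI : (A.subgroupOf (K ⊔ A)).Normal :=
    (normal_subgroupOf_iff_le_normalizer le_sup_right).2 (sup_le h le_normalizer)
  have e := relIndex_sup_right (H := K.subgroupOf (K ⊔ A)) (K := A.subgroupOf (K ⊔ A))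
  rw [← subgroupOf_sup le_sup_left le_sup_right, relIndex_subgroupOf le_rfl,
    relIndex_subgroupOf le_sup_left] at e
  exact e

/-- Conjugation on a section. -/
def sectionAct {G : Type u} [Group G] [Finite G] (H A B : Subgroup G) (hA : ∀ h ∈ H, ∀ a ∈ A, h * a * h⁻¹ ∈ A)
    (hB : ∀ h ∈ H, ∀ b ∈ B, h * b * h⁻¹ ∈ B) [(B.subgroupOf A).Normal] :
    H →* MulAut (↥A ⧸ B.subgroupOf A) :=
  have hinv : ∀ (h : H) (a : A), (h : G)⁻¹ * a * (h : G) ∈ A := fun h a => by
    have := hA _ (inv_mem h.2) a a.2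
    rwa [inv_inv] at this
  let cj : H → MulAut A := fun h =>
    { toFun := fun a => ⟨(h : G) * a * (h : G)⁻¹, hA _ h.2 a a.2⟩
      invFun := fun a => ⟨(h : G)⁻¹ * a * (h : G), hinv h a⟩
      left_inv := fun a => Subtype.ext (by show (h : G)⁻¹ * ((h : G) * a * (h : G)⁻¹) * h = a; group)
      right_inv := fun a => Subtype.ext (by show (h : G) * ((h : G)⁻¹ * a * h) * (h : G)⁻¹ = a; group)
      map_mul' := fun a b => Subtype.ext (by
        show (h : G) * (a * b) * (h : G)⁻¹ = h * a * (h : G)⁻¹ * (h * b * (h : G)⁻¹); group) }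
  have hcj : ∀ h : H, (B.subgroupOf A).map (cj h).toMonoidHom = B.subgroupOf A := fun h =>
    eq_of_le_of_card_ge
      (by rintro _ ⟨b, hb, rfl⟩; exact mem_subgroupOf.2 (hB _ h.2 _ (mem_subgroupOf.1 hb)))
      (le_of_eq (card_map_of_injective (cj h).injective).symm)
  { toFun := fun h => QuotientGroup.congr _ _ (cj h) (hcj h)
    map_one' := MulEquiv.ext fun w => by
      obtain ⟨a, rfl⟩ := QuotientGroup.mk_surjective w
      exact congrArg (QuotientGroup.mk (s := B.subgroupOf A))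
        (Subtype.ext (show (1 : G) * a * (1 : G)⁻¹ = a by group))
    map_mul' := fun h k => MulEquiv.ext fun w => by
      obtain ⟨a, rfl⟩ := QuotientGroup.mk_surjective w
      exact congrArg (QuotientGroup.mk (s := B.subgroupOf A)) (Subtype.ext
        (show (h : G) * k * a * ((h : G) * k)⁻¹ = h * (k * a * (k : G)⁻¹) * (h : G)⁻¹ by group)) }

namespace Setup

variable {G : Type u} [Group G] [Finite G] (M : Setup G)

/-- The largest normal 2-subgroup of `C(z)`. -/
abbrev core : Subgroup G := Cfsg.twoCoreOfCentralizer M.z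

theorem core_le : M.core ≤ cC M.z := map_subtype_le _

theorem core_two : IsPGroup 2 M.core :=
  (CfsgLib.PCore.pCore_isPGroup (p := 2) (G := ↥(cC M.z))).map _

theorem core_conj {h : G} (hh : h ∈ cC M.z) {e : G} (he : e ∈ M.core) : h * e * h⁻¹ ∈ M.core := by
  obtain ⟨e', he', rfl⟩ := he
  haveI : (Cfsg.pCore 2 ↥(cC M.z)).Normal := inferInstance
  exact ⟨⟨h, hh⟩ * e' * ⟨h, hh⟩⁻¹, Normal.conj_mem inferInstance _ he' _, rfl⟩

theorem z_mem : M.z ∈ M.core := by
  have hmem : M.z ∈ cC M.z := mem_cC.2 rfl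
  have hc : (⟨M.z, hmem⟩ : cC M.z) ∈ center (cC M.z) :=
    mem_center_iff.2 fun c => Subtype.ext (mem_cC.1 c.2)
  haveI : (zpowers (⟨M.z, hmem⟩ : cC M.z)).Normal := ⟨fun n hn g => by
    rw [mem_center_iff.1 (zpowers_le.2 hc hn) g, mul_inv_cancel_right]; exact hn⟩
  refine ⟨⟨M.z, hmem⟩, CfsgLib.PCore.le_pCore this (IsPGroup.of_card (n := 1) ?_) (mem_zpowers _), rfl⟩
  rw [Nat.card_zpowers, ← Subgroup.orderOf_coe, M.hz, pow_one]

theorem zpowers_z_le : zpowers M.z ≤ M.core := zpowers_le.2 M.z_mem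

variable (hchar : Cfsg.IsCharacteristicTwoType G)

include hchar in
theorem self_cent {h : G} (hh : h ∈ cC M.z) (hc : ∀ e ∈ M.core, Commute h e) : h ∈ M.core := by
  have hN : normalizer ((zpowers M.z : Subgroup G) : Set G) = cC M.z := by
    refine le_antisymm (fun n hn => ?_) fun n hn => ?_
    · have := (mem_normalizer_iff.1 hn M.z).1 (mem_zpowers _)
      obtain ⟨i, hi⟩ := mem_zpowers_iff.1 this
      rw [← zpow_mod_orderOf, M.hz] at hi
      rcases Int.emod_two_eq_zero_or_one i with e | e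
      · exfalso
        have : n * M.z * n⁻¹ = 1 := by rw [← hi]; norm_num [e]
        rw [mul_inv_eq_one, mul_eq_left] at this
        exact absurd this (by
          intro h1; have := M.hz; rw [h1, orderOf_one] at this; omega)
      · exact mem_cC.2 (mul_inv_eq_iff_eq_mul.1 (by rw [← hi]; norm_num [e]))
    · exact centralizer_le_normalizer _ (by
        rw [mem_centralizer_iff]
        rintro w hw
        obtain ⟨i, rfl⟩ := mem_zpowers_iff.1 hw
        exact ((mem_cC.1 hn).zpow_right i).eq.symm)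
  have h2 := hchar.2 (zpowers M.z) (IsPGroup.of_card (n := 1) (by rw [Nat.card_zpowers, M.hz, pow_one]))
    (fun e => by
      rw [zpowers_eq_bot] at e
      have := M.hz
      rw [e, orderOf_one] at this
      omega)
  rw [hN] at h2
  have hmem : (⟨h, hh⟩ : cC M.z) ∈ centralizer (Cfsg.pCore 2 (cC M.z) : Set (cC M.z)) :=
    mem_centralizer_iff.2 fun e he => Subtype.ext (hc _ ⟨e, he, rfl⟩).eq.symm
  exact ⟨_, h2 hmem, rfl⟩

theorem x_mem : M.x ∈ cC M.z := mem_cC.2 M.hzx.symm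

theorem y_mem : M.y ∈ cC M.z := M.le_cen_z (mem_cC.2 M.hxy.symm)

/-- `C_E(x) = ⟨z⟩`. -/
theorem fixed_x {e : G} (he : e ∈ M.core) (hex : Commute e M.x) : e ∈ zpowers M.z := by
  have : Fact (Nat.Prime 2) := ⟨Nat.prime_two⟩
  set N := M.core.subgroupOf (cC M.x) with hN
  haveI : N.Normal := ⟨fun n hn g => mem_subgroupOf.2 (M.core_conj (M.le_cen_z g.2) (mem_subgroupOf.1 hn))⟩
  have h2 : IsPGroup 2 N := M.core_two.comap_subtype
  have hc := M.hcov.normal_two_le N h2 (x := ⟨e, mem_cC.2 hex⟩) (mem_subgroupOf.2 he)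
  refine M.z_unique (mem_cC.2 hex) (fun c hc' => ?_) ?_
  · exact (congrArg Subtype.val (mem_center_iff.1 hc ⟨c, hc'⟩)).symm
  · obtain ⟨k, hk⟩ := M.core_two ⟨e, he⟩
    have hk' : e ^ 2 ^ k = 1 := congrArg Subtype.val hk
    have h6 : e ^ 6 = 1 := congrArg Subtype.val (M.hcov.center_pow hc)
    have hg := pow_gcd_eq_one.2 ⟨hk', h6⟩
    rcases k with _ | k
    · rw [pow_zero, pow_one] at hk'
      rw [hk', one_pow]
    · rwa [show Nat.gcd (2 ^ (k + 1)) 6 = 2 by
        rw [pow_succ', show (6 : ℕ) = 2 * 3 by norm_num, Nat.gcd_mul_left,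
          Nat.Coprime.pow_left k (by norm_num : Nat.Coprime 2 3)]] at hg

/-- An element of order three fixing a coset of a normalised 2-subgroup fixes one of its elements. -/
theorem exists_fixed_in_coset {v : G} (hv : orderOf v = 3) {B : Subgroup G} (hB : IsPGroup 2 B)
    (hvB : ∀ b ∈ B, v * b * v⁻¹ ∈ B) {a : G} (ha : a⁻¹ * (v * a * v⁻¹) ∈ B) :
    ∃ b ∈ B, Commute v (a * b) := by
  have : Fact (Nat.Prime 2) := ⟨Nat.prime_two⟩
  obtain ⟨q, hq, hc⟩ := CfsgLib.MathieuTwentyTwo.exists_commute_of_not_dvd Nat.prime_three hv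
    ((fun b => a * b) '' (B : Set G)) (by
      rintro _ ⟨b, hb, rfl⟩
      exact ⟨a⁻¹ * (v * a * v⁻¹) * (v * b * v⁻¹), mul_mem ha (hvB b hb), by group⟩) (by
      rw [Set.ncard_image_of_injective _ (mul_right_injective a), ← Nat.card_coe_set_eq]
      obtain ⟨n, hn⟩ := IsPGroup.iff_card.1 hB
      rw [SetLike.coe_sort_coe, hn]
      intro h
      exact absurd (Nat.prime_three.dvd_of_dvd_pow h) (by norm_num))
  obtain ⟨b, hb, rfl⟩ := hq
  exact ⟨b, hb, hc⟩

/-- The three elements other than `x` and their conjugacy inside `C(x)`. -/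
theorem exists_cycle : ∃ s ∈ cC M.x, s * M.y * s⁻¹ = M.x * M.y := by
  obtain ⟨s, hs, e⟩ := M.exists_shift M.y_order M.hxy.symm M.hy
  exact ⟨s, hs, e⟩

/-- `|C_E(y)| ≤ 2^6`. -/
theorem card_fixed_y : Nat.card (M.core ⊓ cC M.y : Subgroup G) ≤ 2 ^ 6 := by
  have : Fact (Nat.Prime 2) := ⟨Nat.prime_two⟩
  obtain ⟨K0, hK2, hK8, hKy, -⟩ := M.hcov.exists_four_lift M.xC_center M.xC_order
    (y := ⟨M.y, mem_cC.2 M.hxy.symm⟩) (by rw [← Subgroup.orderOf_coe]; exact M.y_order)
    (fun hmem => M.hy (by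
      obtain ⟨i, hi⟩ := mem_zpowers_iff.1 hmem
      exact mem_zpowers_iff.2 ⟨i, congrArg Subtype.val hi⟩))
  set K := K0.map (cC M.x).subtype with hK
  have hKx : K ≤ cC M.x := map_subtype_le _
  have hKc : Nat.card K = 8 := by rw [hK, card_map_of_injective (subtype_injective _), hK8]
  have hKy' : K ≤ cC M.y := by
    rintro _ ⟨k, hk, rfl⟩
    exact mem_cC.2 (congrArg Subtype.val (hKy k hk))
  set A := M.core ⊓ cC M.y with hA
  have hAK : K ≤ normalizer (A : Set G) := by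
    refine le_normalizer_iff.2 fun k hk a ha => ?_
    refine ⟨M.core_conj (M.le_cen_z (hKx hk)) ha.1, mem_cC.2 ?_⟩
    have h := (mem_cC.1 ha.2).map (MulAut.conj k).toMonoidHom
    simp only [MulEquiv.coe_toMonoidHom, MulAut.conj_apply] at h
    rwa [show k * M.y * k⁻¹ = M.y by rw [mem_cC.1 (hKy' hk), mul_inv_cancel_right]] at h
  have hP : IsPGroup 2 (A ⊔ K : Subgroup G) :=
    (M.core_two.to_le inf_le_left).to_sup_of_normal_left' (hK2.map _) hAK
  have hsup : A ⊔ K ≤ cC M.y := sup_le inf_le_right hKy'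
  obtain ⟨g, hg⟩ := M.hconj
  have hcard : Nat.card (cC M.y) = 2661120 := by
    rw [← hg, CfsgLib.MathieuTwentyTwo.card_centralizer_conj, M.hcov.card]
  obtain ⟨n, hn⟩ := IsPGroup.iff_card.1 hP
  have hd : 2 ^ n ∣ 2661120 := hn ▸ hcard ▸ card_dvd_of_le hsup
  have hn8 : n ≤ 8 := by
    by_contra hcon
    have := (pow_dvd_pow 2 (show 9 ≤ n by omega)).trans hd
    norm_num at this
  have hrel : A.relIndex (A ⊔ K) = A.relIndex K := by
    rw [sup_comm]
    exact relIndex_sup_normal hAK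
  have h4 : 4 ≤ A.relIndex K := by
    have hint : Nat.card (A ⊓ K : Subgroup G) ≤ 2 := by
      refine le_trans (card_le_of_le (K := zpowers M.z) fun a ha => ?_) (by rw [Nat.card_zpowers, M.hz])
      exact M.fixed_x ha.1.1 (mem_cC.1 (hKx ha.2))
    have e := card_mul_rel (inf_le_right : A ⊓ K ≤ K)
    rw [inf_relIndex_right, hKc] at e
    nlinarith
  have e := card_mul_rel (le_sup_left : A ≤ A ⊔ K)
  rw [hrel, hn] at e
  have : 2 ^ n ≤ 2 ^ 8 := Nat.pow_le_pow_right two_pos hn8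
  nlinarith

/-- An elementary section of `E` over `⟨z⟩` normalised by `C(z)` has order `2^12`. -/
theorem section_card {A B : Subgroup G} (hzB : zpowers M.z ≤ B) (hBA : B < A) (hAE : A ≤ M.core)
    (hA : ∀ h ∈ cC M.z, ∀ a ∈ A, h * a * h⁻¹ ∈ A) (hB : ∀ h ∈ cC M.z, ∀ b ∈ B, h * b * h⁻¹ ∈ B)
    (hsq : ∀ a ∈ A, a * a ∈ B) :
    B.relIndex A = 2 ^ 12 ∧ Nat.card (A ⊓ cC M.y : Subgroup G) = 16 * Nat.card (B ⊓ cC M.y : Subgroup G) := by
  have : Fact (Nat.Prime 2) := ⟨Nat.prime_two⟩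
  have hAz : A ≤ cC M.z := hAE.trans M.core_le
  haveI hn : (B.subgroupOf A).Normal :=
    ⟨fun b hb a => mem_subgroupOf.2 (hB _ (hAz a.2) _ (mem_subgroupOf.1 hb))⟩
  let Wq := ↥A ⧸ B.subgroupOf A
  have hsq' : ∀ w : Wq, w * w = 1 := by
    intro w
    obtain ⟨a, rfl⟩ := QuotientGroup.mk_surjective w
    exact (QuotientGroup.eq_one_iff (a * a)).2 (mem_subgroupOf.2 (hsq a a.2))
  have hcomm : ∀ a b : Wq, a * b = b * a := fun a b => by
    calc a * b = a * (a * b * (a * b)) * b := by rw [hsq', mul_one]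
      _ = a * a * (b * a) * (b * b) := by group
      _ = b * a := by rw [hsq', hsq', one_mul, mul_one]
  letI : CommGroup Wq := { (inferInstance : Group Wq) with mul_comm := hcomm }
  -- the action of `C(z)`
  let ρ : cC M.z →* MulAut Wq := sectionAct (cC M.z) A B hA hB
  have hρ : ∀ (h : cC M.z) (a : A), ρ h (a : Wq) =
      ((⟨(h : G) * a * (h : G)⁻¹, hA _ h.2 a a.2⟩ : A) : Wq) := fun h a => rfl
  -- fixed elements lift
  have hlift : ∀ (v : cC M.z), orderOf (v : G) = 3 → ∀ w : Wq, ρ v w = w →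
      ∃ a : A, Commute (v : G) a ∧ (a : Wq) = w := by
    intro v hv w hw
    obtain ⟨a, rfl⟩ := QuotientGroup.mk_surjective w
    rw [hρ] at hw
    have hm := mem_subgroupOf.1 (QuotientGroup.eq.1 hw.symm)
    obtain ⟨b, hb, hc⟩ := exists_fixed_in_coset hv ((M.core_two.to_le hAE).to_le hBA.le)
      (fun b hb => hB _ v.2 b hb) (a := (a : G)) hm
    refine ⟨a * ⟨b, hBA.le hb⟩, hc, ?_⟩
    rw [QuotientGroup.mk_mul, show ((⟨b, hBA.le hb⟩ : A) : Wq) = 1 from
      (QuotientGroup.eq_one_iff _).2 (mem_subgroupOf.2 hb), mul_one]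
  let xz : cC M.z := ⟨M.x, M.x_mem⟩
  let yz : cC M.z := ⟨M.y, M.y_mem⟩
  let X : Additive Wq ≃+ Additive Wq := MulEquiv.toAdditive (ρ xz)
  let Y : Additive Wq ≃+ Additive Wq := MulEquiv.toAdditive (ρ yz)
  have hxy : ∀ v, X (Y v) = Y (X v) := fun v => by
    show Additive.ofMul (ρ xz (ρ yz v.toMul)) = Additive.ofMul (ρ yz (ρ xz v.toMul))
    rw [← MulAut.mul_apply, ← map_mul, show xz * yz = yz * xz from Subtype.ext M.hxy.eq, map_mul,
      MulAut.mul_apply]
  have hcube : ∀ (v : cC M.z), (v : G) ^ 3 = 1 → ∀ w, ρ v (ρ v (ρ v w)) = w := fun v hv w => by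
    rw [← MulAut.mul_apply, ← MulAut.mul_apply, ← map_mul, ← map_mul,
      show v * v * v = 1 from Subtype.ext (by
        show (v : G) * v * v = 1
        rw [← hv, pow_succ, pow_two]), map_one]
    rfl
  have h3x : ∀ v, X (X (X v)) = v := fun v => congrArg Additive.ofMul (hcube xz M.x_cube v.toMul)
  have h3y : ∀ v, Y (Y (Y v)) = v := fun v => congrArg Additive.ofMul (hcube yz M.y_cube v.toMul)
  have hfree : ∀ v, X v = v → v = 0 := fun v hv => by
    obtain ⟨a, hac, ha⟩ := hlift xz M.hx v.toMul (congrArg Additive.toMul hv)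
    have hmem := hzB (M.fixed_x (hAE a.2) hac.symm)
    refine Additive.toMul.injective ?_
    rw [← ha]
    exact (QuotientGroup.eq_one_iff _).2 (mem_subgroupOf.2 hmem)
  have h2 : ∀ v : Additive Wq, v + v = 0 := fun v => congrArg Additive.ofMul (hsq' v.toMul)
  -- the three parts
  obtain ⟨s, hs, hse⟩ := M.exists_cycle
  let sz : cC M.z := ⟨s, M.le_cen_z hs⟩
  have hsx : s * M.x * s⁻¹ = M.x := by rw [mem_cC.1 hs, mul_inv_cancel_right]
  have hse2 : s * (M.x * M.y) * s⁻¹ = M.x * (M.x * M.y) := by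
    calc s * (M.x * M.y) * s⁻¹ = s * M.x * s⁻¹ * (s * M.y * s⁻¹) := by group
      _ = _ := by rw [hsx, hse]
  have hpart : ∀ (v v' : cC M.z) (P Q : Additive Wq ≃+ Additive Wq), s * (v : G) * s⁻¹ = v' →
      (∀ w, P w = Additive.ofMul (ρ v w.toMul)) → (∀ w, Q w = Additive.ofMul (ρ v' w.toMul)) →
      Nat.card (fixedPart Q) = Nat.card (fixedPart P) := by
    intro v v' P Q hvv hP hQ
    have hv' : v' = sz * v * sz⁻¹ := Subtype.ext hvv.symm
    refine (Nat.card_congr ((MulEquiv.toAdditive (ρ sz)).toEquiv.subtypeEquiv fun w => ?_)).symm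
    rw [mem_fixedPart, mem_fixedPart, hP, hQ, hv', map_mul, map_mul, map_inv]
    show _ ↔ Additive.ofMul (ρ sz (ρ v ((ρ sz)⁻¹ (ρ sz w.toMul)))) = _
    rw [MulAut.inv_apply_self]
    exact ⟨fun e => congrArg (fun q : Additive Wq => Additive.ofMul (ρ sz q.toMul)) e,
      fun e => congrArg Additive.ofMul ((ρ sz).injective (congrArg Additive.toMul e))⟩
  have hY2 : ∀ w, lineTwo X Y w = Additive.ofMul (ρ (xz * yz) w.toMul) := fun w => by rw [map_mul]; rfl
  have hY3 : ∀ w, lineThree X Y w = Additive.ofMul (ρ (xz * (xz * yz)) w.toMul) := fun w => by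
    rw [map_mul, map_mul]; rfl
  have e2 := hpart yz (xz * yz) Y (lineTwo X Y) hse (fun _ => rfl) hY2
  have e3 := hpart (xz * yz) (xz * (xz * yz)) (lineTwo X Y) (lineThree X Y) hse2 hY2 hY3
  have hsplit := card_split X Y hxy h3x h3y hfree h2
  rw [e3, e2] at hsplit
  set p := Nat.card (fixedPart Y) with hp
  -- the image of `A ⊓ C(y)`
  set B' := B ⊓ cC M.y
  set A' := A ⊓ cC M.y
  let f : A' →* Wq := (QuotientGroup.mk' _).comp (inclusion inf_le_left)
  have hfker : f.ker = B'.subgroupOf A' := by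
    ext a
    rw [MonoidHom.mem_ker, mem_subgroupOf]
    constructor
    · exact fun ha => ⟨mem_subgroupOf.1 ((QuotientGroup.eq_one_iff (N := B.subgroupOf A) (inclusion inf_le_left a)).1 ha), a.2.2⟩
    · exact fun ha => (QuotientGroup.eq_one_iff (N := B.subgroupOf A) (inclusion inf_le_left a)).2 (mem_subgroupOf.2 ha.1)
  have hrange : Nat.card f.range = p := by
    refine Nat.card_congr (Equiv.subtypeEquiv Additive.ofMul fun w => ?_)
    rw [mem_fixedPart]
    constructor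
    · rintro ⟨a, rfl⟩
      refine congrArg Additive.ofMul ((hρ yz _).trans (congrArg _ (Subtype.ext ?_)))
      show M.y * (a : G) * M.y⁻¹ = a
      rw [← mem_cC.1 a.2.2, mul_inv_cancel_right]
    · intro hw
      obtain ⟨a, hac, ha⟩ := hlift yz M.y_order w (congrArg Additive.toMul hw)
      exact ⟨⟨a, a.2, mem_cC.2 hac.symm⟩, ha⟩
  have hcardA : Nat.card A' = p * Nat.card B' := by
    have e := card_eq_card_quotient_mul_card_subgroup f.ker
    rw [Nat.card_congr (QuotientGroup.quotientKerEquivRange f).toEquiv, hrange, hfker,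
      Nat.card_congr (subgroupOfEquivOfLe (inf_le_inf_right _ hBA.le)).toEquiv] at e
    exact e
  have hW2 : IsPGroup 2 Wq :=
    (show IsPGroup 2 A from M.core_two.to_le hAE).of_surjective _ (QuotientGroup.mk'_surjective _)
  have hcardW : Nat.card Wq = B.relIndex A := rfl
  have hWne : Nat.card Wq ≠ 1 := fun e => hBA.ne (le_antisymm hBA.le (relIndex_eq_one.1 (hcardW ▸ e)))
  have hge : 2 ^ 10 ≤ Nat.card Wq := by
    refine card_ge_of_nontrivial M.hcov hW2 (ρ.comp (inclusion M.le_cen_z)) (c := M.xC) fun e => hWne ?_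
    refine Nat.card_eq_one_iff_unique.2 ⟨⟨fun a b => ?_⟩, ⟨1⟩⟩
    have : ∀ w : Wq, w = 1 := fun w => congrArg Additive.toMul
      (hfree (Additive.ofMul w) (congrArg Additive.ofMul (DFunLike.congr_fun e w)))
    rw [this a, this b]
  have hWsplit : Nat.card Wq = p * p * p := hsplit
  have hB' : 2 ≤ Nat.card B' := by
    refine le_trans (by rw [Nat.card_zpowers, M.hz]) (card_le_of_le (H := zpowers M.z) (le_inf hzB ?_))
    refine zpowers_le.2 (mem_cC.2 (M.hzc _ (mem_cC.2 M.hxy.symm)))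
  have hA' : Nat.card A' ≤ 2 ^ 6 := le_trans (card_le_of_le (inf_le_inf_right _ hAE)) M.card_fixed_y
  have hp32 : p ≤ 32 := by nlinarith
  obtain ⟨n, hn'⟩ := IsPGroup.iff_card.1 hW2
  have hp2 : p ∣ 2 ^ n := hn' ▸ hWsplit ▸ dvd_mul_of_dvd_left (dvd_mul_left _ _) _
  obtain ⟨j, -, hj⟩ := (Nat.dvd_prime_pow Nat.prime_two).1 hp2
  -- `x` has no fixed point on each part
  have hmod : p % 3 = 1 := by
    obtain ⟨k, hk⟩ := even_dim h2 X hfree h3x (fixedPart Y) (fun w hw => by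
      rw [mem_fixedPart] at hw ⊢
      rw [← hxy, hw])
    rw [hp, hk, Nat.pow_mod]
    norm_num
  have hp16 : p = 16 := by
    rw [hj] at hmod hp32 hWsplit ⊢
    have : j ≤ 5 := (Nat.pow_le_pow_iff_right (by norm_num)).1 (show 2 ^ j ≤ 2 ^ 5 by simpa using hp32)
    rw [hWsplit] at hge
    interval_cases j
    all_goals first | rfl | omega
  refine ⟨?_, ?_⟩
  · rw [← hcardW, hWsplit, hp16]; norm_num
  · rw [hcardA, hp16]

/-- The subgroup generated by `z` and the squares. -/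
def sqJoin (A : Subgroup G) : Subgroup G := zpowers M.z ⊔ closure ((fun a => a * a) '' (A : Set G))

theorem sqJoin_le {A : Subgroup G} (hz : M.z ∈ A) : M.sqJoin A ≤ A :=
  sup_le (zpowers_le.2 hz) ((closure_le _).2 (by rintro _ ⟨a, ha, rfl⟩; exact mul_mem ha ha))

theorem sqJoin_conj {A : Subgroup G} (hA : ∀ h ∈ cC M.z, ∀ a ∈ A, h * a * h⁻¹ ∈ A) :
    ∀ h ∈ cC M.z, ∀ b ∈ M.sqJoin A, h * b * h⁻¹ ∈ M.sqJoin A := by
  intro h hh b hb
  have hle : (M.sqJoin A).map (MulAut.conj h).toMonoidHom ≤ M.sqJoin A := by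
    rw [sqJoin, Subgroup.map_sup, MonoidHom.map_zpowers, MonoidHom.map_closure]
    refine sup_le (zpowers_le.2 ?_) ((closure_le _).2 ?_)
    · rw [MulEquiv.coe_toMonoidHom, MulAut.conj_apply, mem_cC.1 hh, mul_inv_cancel_right]
      exact mem_sup_left (mem_zpowers _)
    · rintro _ ⟨_, ⟨a, ha, rfl⟩, rfl⟩
      refine mem_sup_right (subset_closure ⟨h * a * h⁻¹, hA h hh a ha, ?_⟩)
      simp only [MulEquiv.coe_toMonoidHom, MulAut.conj_apply]
      group
  exact hle ⟨b, hb, rfl⟩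

theorem sqJoin_lt {A : Subgroup G} (hAE : A ≤ M.core) (hz : zpowers M.z < A) : M.sqJoin A < A := by
  have : Fact (Nat.Prime 2) := ⟨Nat.prime_two⟩
  refine lt_of_le_of_ne (M.sqJoin_le (zpowers_le.1 hz.le)) fun e => hz.ne ?_
  have h2 := M.core_two.to_le hAE
  have htop : (zpowers M.z).subgroupOf A ⊔ frattini A = ⊤ := by
    refine map_injective A.subtype_injective ?_
    rw [Subgroup.map_sup, map_subgroupOf_eq_of_le hz.le, ← MonoidHom.range_eq_map, range_subtype]
    refine le_antisymm (sup_le hz.le (map_subtype_le _)) ?_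
    conv_lhs => rw [← e]
    refine sup_le le_sup_left ((closure_le _).2 ?_)
    rintro _ ⟨a, ha, rfl⟩
    refine mem_sup_right ⟨⟨a, ha⟩ ^ 2, CfsgLib.PGroup.pow_mem_frattini h2 _, ?_⟩
    show a ^ 2 = a * a
    rw [pow_two]
  exact le_antisymm hz.le fun a ha => mem_subgroupOf.1 ((frattini_nongenerating htop).ge (mem_top (⟨a, ha⟩ : A)))

include hchar in
theorem z_lt_core : zpowers M.z < M.core := by
  refine lt_of_le_of_ne M.zpowers_z_le fun e => ?_
  have h := M.self_cent hchar M.x_mem fun a ha => by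
    rw [← e] at ha
    obtain ⟨i, rfl⟩ := mem_zpowers_iff.1 ha
    exact (M.hzx.symm).zpow_right i
  obtain ⟨k, hk⟩ := M.core_two ⟨M.x, h⟩
  have hd : orderOf M.x ∣ 2 ^ k := orderOf_dvd_of_pow_eq_one (congrArg Subtype.val hk)
  rw [M.hx] at hd
  exact absurd (Nat.prime_three.dvd_of_dvd_pow hd) (by norm_num)

include hchar in
theorem sqJoin_core : M.sqJoin M.core = zpowers M.z := by
  set B := M.sqJoin M.core with hB
  have hE : ∀ h ∈ cC M.z, ∀ a ∈ M.core, h * a * h⁻¹ ∈ M.core := fun h hh a ha => M.core_conj hh ha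
  have hBlt := M.sqJoin_lt le_rfl (M.z_lt_core hchar)
  by_contra hne
  have hzB : zpowers M.z < B := lt_of_le_of_ne le_sup_left fun e => hne e.symm
  obtain ⟨-, h1 : Nat.card (M.core ⊓ cC M.y : Subgroup G) = 16 * Nat.card (B ⊓ cC M.y : Subgroup G)⟩ := M.section_card (le_sup_left : zpowers M.z ≤ B) hBlt le_rfl hE (M.sqJoin_conj hE)
    (fun a ha => mem_sup_right (subset_closure ⟨a, ha, rfl⟩))
  obtain ⟨-, h2 : Nat.card (B ⊓ cC M.y : Subgroup G) = 16 * Nat.card (M.sqJoin B ⊓ cC M.y : Subgroup G)⟩ := M.section_card (le_sup_left : zpowers M.z ≤ M.sqJoin B) (M.sqJoin_lt hBlt.le hzB) hBlt.le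
    (M.sqJoin_conj hE) (M.sqJoin_conj (M.sqJoin_conj hE))
    (fun a ha => mem_sup_right (subset_closure ⟨a, ha, rfl⟩))
  have h3 : 1 ≤ Nat.card (M.sqJoin B ⊓ cC M.y : Subgroup G) := Nat.card_pos
  have := M.card_fixed_y
  nlinarith

include hchar in
theorem core_card : Nat.card M.core = 2 ^ 13 ∧ Nat.card (M.core ⊓ cC M.y : Subgroup G) = 2 ^ 5 ∧
    ∀ a ∈ M.core, a * a ∈ zpowers M.z := by
  have hsq : ∀ a ∈ M.core, a * a ∈ zpowers M.z := fun a ha =>
    (M.sqJoin_core hchar).le (mem_sup_right (subset_closure ⟨a, ha, rfl⟩))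
  have hzc : ∀ h ∈ cC M.z, ∀ a ∈ zpowers M.z, h * a * h⁻¹ ∈ zpowers M.z := fun h hh a ha => by
    obtain ⟨i, rfl⟩ := mem_zpowers_iff.1 ha
    rw [((mem_cC.1 hh).zpow_right i).eq, mul_inv_cancel_right]
    exact zpow_mem (mem_zpowers _) i
  obtain ⟨h1, h2⟩ := M.section_card le_rfl (M.z_lt_core hchar) le_rfl (fun h hh a ha => M.core_conj hh ha) hzc hsq
  have hz' : zpowers M.z ⊓ cC M.y = zpowers M.z :=
    inf_eq_left.2 (zpowers_le.2 (mem_cC.2 (M.hzc _ (mem_cC.2 M.hxy.symm))))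
  rw [hz', Nat.card_zpowers, M.hz] at h2
  refine ⟨?_, ?_, hsq⟩
  · rw [← card_mul_rel M.zpowers_z_le, h1, Nat.card_zpowers, M.hz]
    norm_num
  · rw [h2]
    norm_num

end Setup

end CfsgLib.J4Cover
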