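import Cfsg.Agent.Lib.MathieuTwentyTwo.Core
import Cfsg.Agent.Lib.MathieuTwentyTwo.ModelCounts
import Cfsg.Agent.Lib.Transfer.Central

/-!
The perfect sixfold cover of `M22`: Sylow 3-subgroups and the four group of an element of order three.
-/

set_option autoImplicit false
set_option linter.unusedSectionVars false

namespace CfsgLib.J4Cover

open Subgroup CfsgLib.MathieuTwentyTwo.NseRoute

universe u

theorem m22 : Local ↥Cfsg.Spor.M22 := nse_model.toLocal

theorem m22_not_commutative : ¬ ∀ a b : ↥Cfsg.Spor.M22, a * b = b * a := by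
  intro h
  obtain ⟨x, hx⟩ := exists_prime_orderOf_dvd_card' (G := ↥Cfsg.Spor.M22) 3
    (hp := ⟨Nat.prime_three⟩) (by rw [m22.card]; norm_num)
  have hC := m22.card_centralizer_three hx
  rw [show centralizer ({x} : Set ↥Cfsg.Spor.M22) = ⊤ from
    eq_top_iff.2 fun a _ => mem_centralizer_singleton_iff.2 (h a x), card_top, m22.card] at hC
  omega

/-- A perfect group with centre of order six whose central quotient is `M22`. -/
structure Cover (C : Type u) [Group C] : Prop where
  perfect : commutator C = ⊤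
  cyclic : IsCyclic ↥(center C)
  six : Nat.card ↥(center C) = 6
  quot : Nonempty (C ⧸ center C ≃* ↥Cfsg.Spor.M22)

namespace Cover

variable {C : Type u} [Group C] [Finite C] (h : Cover C)

/-- The map onto `M22`. -/
noncomputable def proj : C →* ↥Cfsg.Spor.M22 :=
  h.quot.some.toMonoidHom.comp (QuotientGroup.mk' (center C))

theorem proj_surjective : Function.Surjective h.proj :=
  h.quot.some.surjective.comp (QuotientGroup.mk'_surjective _)

theorem mem_ker {c : C} : h.proj c = 1 ↔ c ∈ center C := by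
  rw [proj, MonoidHom.comp_apply, MulEquiv.coe_toMonoidHom, MulEquiv.map_eq_one_iff]
  exact QuotientGroup.eq_one_iff c

include h in
theorem card : Nat.card C = 2661120 := by
  rw [card_eq_card_quotient_mul_card_subgroup (center C), h.six, Nat.card_congr h.quot.some.toEquiv,
    m22.card]

include h in
theorem center_pow {c : C} (hc : c ∈ center C) : c ^ 6 = 1 := by
  have e := pow_card_eq_one' (x := (⟨c, hc⟩ : center C))
  rw [h.six] at e
  exact congrArg Subtype.val e

include h in
/-- In the cyclic centre the elements of order dividing `d` are powers of one of them. -/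
theorem center_prime {p : ℕ} (hp : p.Prime) {a b : C} (ha : a ∈ center C) (hao : orderOf a = p)
    (hb : b ∈ center C) (hbp : b ^ p = 1) : b ∈ zpowers a := by
  haveI := h.cyclic
  have := Fintype.ofFinite (center C)
  classical
  have hcard : Nat.card {c : center C // c ^ p = 1} ≤ p := by
    rw [Nat.card_eq_fintype_card, Fintype.card_subtype]
    exact IsCyclic.card_pow_eq_one_le hp.pos
  by_contra hn
  have hmem : ∀ c ∈ zpowers a, c ∈ center C ∧ c ^ p = 1 := fun c hc => by
    refine ⟨zpowers_le.2 ha hc, ?_⟩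
    obtain ⟨i, rfl⟩ := mem_zpowers_iff.1 hc
    rw [← zpow_natCast, ← zpow_mul, mul_comm, zpow_mul, zpow_natCast, ← hao, pow_orderOf_eq_one, one_zpow]
  let f : Option (zpowers a) → {c : center C // c ^ p = 1} := fun o =>
    o.elim ⟨⟨b, hb⟩, Subtype.ext hbp⟩ fun c => ⟨⟨c.1, (hmem c.1 c.2).1⟩, Subtype.ext (hmem c.1 c.2).2⟩
  have hf : Function.Injective f := by
    rintro (_ | c) (_ | d) e
    · rfl
    · exact absurd ((congrArg (fun q => (q.1 : C)) e : b = d.1) ▸ d.2) hn
    · exact absurd ((congrArg (fun q => (q.1 : C)) e : (c.1 : C) = b) ▸ c.2) hn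
    · exact congrArg some (Subtype.ext (congrArg (fun q => (q.1 : C)) e))
  have := Nat.card_le_card_of_injective f hf
  rw [Finite.card_option, Nat.card_zpowers, hao] at this
  omega

include h in
theorem proj_sylow_three (P : Sylow 3 C) {a : C} (ha : a ∈ (P : Subgroup C)) :
    h.proj a ^ 3 = 1 ∧ ∀ b ∈ (P : Subgroup C), Commute (h.proj a) (h.proj b) := by
  obtain ⟨P', hP'⟩ := (P.isPGroup'.map h.proj).exists_le_sylow
  refine ⟨?_, fun b hb => m22.commute_of_mem_sylow_three P' (hP' (mem_map_of_mem _ ha))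
    (hP' (mem_map_of_mem _ hb))⟩
  by_cases e : h.proj a = 1
  · rw [e, one_pow]
  · rw [← m22.orderOf_mem_sylow_three P' (hP' (mem_map_of_mem _ ha)) e]
    exact pow_orderOf_eq_one _

variable {x z : C}

include h in
theorem card_sylow_three (P : Sylow 3 C) : Nat.card (P : Subgroup C) = 27 := by
  rw [Sylow.card_eq_multiplicity, h.card,
    CfsgLib.MathieuBlocks.factorization_eq_of Nat.prime_three (v := 3) (m := 98560) (by norm_num) (by norm_num)]
  norm_num

include h in
theorem three_mem_sylow (P : Sylow 3 C) (hxc : x ∈ center C) (hx : orderOf x = 3) :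
    x ∈ (P : Subgroup C) := by
  have : Fact (Nat.Prime 3) := ⟨Nat.prime_three⟩
  haveI : (zpowers x).Normal :=
    ⟨fun n hn g => by
      rw [(mem_center_iff.1 (zpowers_le.2 hxc hn)) g, mul_inv_cancel_right]
      exact hn⟩
  obtain ⟨Q, hQ⟩ := (IsPGroup.of_card (n := 1) (by rw [Nat.card_zpowers, hx, pow_one] :
    Nat.card (zpowers x) = 3 ^ 1)).exists_le_sylow
  obtain ⟨g, hg⟩ := MulAction.exists_smul_eq C Q P
  rw [← hg]
  have := Subgroup.smul_mem_pointwise_smul x (MulAut.conj g) _ (hQ (mem_zpowers x))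
  rwa [show MulAut.conj g • x = x by
    show g * x * g⁻¹ = x
    rw [mem_center_iff.1 hxc g, mul_inv_cancel_right]] at this

include h in
/-- The centre of a Sylow 3-subgroup is of order three. -/
theorem center_sylow_three (P : Sylow 3 C) (hxc : x ∈ center C) (hx : orderOf x = 3) {c : C}
    (hc : c ∈ (P : Subgroup C)) (hcc : ∀ b ∈ (P : Subgroup C), Commute c b) : c ∈ zpowers x := by
  have : Fact (Nat.Prime 3) := ⟨Nat.prime_three⟩
  have hxP := h.three_mem_sylow P hxc hx
  have hnab : ¬ IsMulCommutative (P : Subgroup C) := fun hab => by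
    have hH : Nat.Coprime (Nat.card (P : Subgroup C)) (P : Subgroup C).index := P.card_coprime_index
    have := CfsgLib.Transfer.eq_one_of_central_commutator (P : Subgroup C) hab hH hxP
      (by rw [h.perfect]; exact mem_top _) hxc
    rw [this, orderOf_one] at hx
    omega
  by_contra hn
  -- two generators of the centre and any third element commute
  set Z := zpowers x ⊔ zpowers c
  have hZle : Z ≤ (P : Subgroup C) ⊓ centralizer ((P : Subgroup C) : Set C) := by
    refine sup_le (zpowers_le.2 ⟨hxP, ?_⟩) (zpowers_le.2 ⟨hc, ?_⟩) <;>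
      refine mem_centralizer_iff.2 ?_ <;> intro b hb
    · exact mem_center_iff.1 hxc b
    · exact (hcc b hb).eq.symm
  obtain ⟨k, hk, hkc⟩ := (Nat.dvd_prime_pow Nat.prime_three).1
    (show Nat.card Z ∣ 3 ^ 3 by
      have := card_dvd_of_le (hZle.trans inf_le_left); rwa [h.card_sylow_three P] at this)
  have hlt : Nat.card (zpowers x) < Nat.card Z := by
    by_contra hge
    exact hn ((eq_of_le_of_card_ge le_sup_left (not_lt.1 hge)).ge (mem_sup_right (mem_zpowers c)))
  rw [Nat.card_zpowers, hx, hkc] at hlt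
  refine hnab ⟨⟨fun a b => Subtype.ext ?_⟩⟩
  have hsup : ∀ d ∈ (P : Subgroup C), d ∉ Z → Z ⊔ zpowers d = (P : Subgroup C) := by
    intro d hd hdZ
    refine eq_of_le_of_card_ge (sup_le (hZle.trans inf_le_left) (zpowers_le.2 hd)) ?_
    obtain ⟨j, hj, hjc⟩ := (Nat.dvd_prime_pow Nat.prime_three).1
      (show Nat.card (Z ⊔ zpowers d : Subgroup C) ∣ 3 ^ 3 by
        have := card_dvd_of_le (sup_le (hZle.trans inf_le_left) (zpowers_le.2 hd))
        rwa [h.card_sylow_three P] at this)
    have hlt2 : Nat.card Z < Nat.card (Z ⊔ zpowers d : Subgroup C) := by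
      by_contra hge
      exact hdZ ((eq_of_le_of_card_ge le_sup_left (not_lt.1 hge)).ge (mem_sup_right (mem_zpowers d)))
    rw [hkc, hjc] at hlt2
    have hkj : k < j := (Nat.pow_lt_pow_iff_right (by norm_num)).1 hlt2
    have hk1 : 1 < k := (Nat.pow_lt_pow_iff_right (by norm_num : 1 < 3)).1 (by rw [pow_one]; exact hlt)
    rw [h.card_sylow_three P, hjc, show j = 3 by omega]
    norm_num
  by_cases haZ : (a : C) ∈ Z
  · exact (mem_centralizer_iff.1 (hZle haZ).2 b b.2).symm
  · have hcom : centralizer ({(a : C)} : Set C) ⊓ (P : Subgroup C) = (P : Subgroup C) := by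
      refine le_antisymm inf_le_right ?_
      rw [le_inf_iff]
      refine ⟨?_, le_rfl⟩
      refine (hsup a a.2 haZ).ge.trans ?_
      refine sup_le (fun q hq => mem_centralizer_singleton_iff.2
        (mem_centralizer_iff.1 (hZle hq).2 a a.2).symm) (zpowers_le.2 (mem_centralizer_singleton_iff.2 rfl))
    exact (mem_centralizer_singleton_iff.1 ((hcom.ge b.2).1)).symm

include h in
/-- An element of order three outside the centre is moved by its product with a central one. -/
theorem exists_shift (hxc : x ∈ center C) (hx : orderOf x = 3) {y : C} (hy : orderOf y = 3)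
    (hyZ : y ∉ zpowers x) :
    ∃ s : C, s * y * s⁻¹ = x * y ∧ Commute (h.proj s) (h.proj y) ∧ h.proj s ^ 3 = 1 ∧
      h.proj s ∉ zpowers (h.proj y) := by
  have : Fact (Nat.Prime 3) := ⟨Nat.prime_three⟩
  obtain ⟨P, hP⟩ := (IsPGroup.of_card (n := 1) (by rw [Nat.card_zpowers, hy, pow_one] :
    Nat.card (zpowers y) = 3 ^ 1)).exists_le_sylow
  have hyP : y ∈ (P : Subgroup C) := hP (mem_zpowers y)
  obtain ⟨s, hs, hns⟩ : ∃ s ∈ (P : Subgroup C), ¬ Commute y s := by
    by_contra hcon
    push Not at hcon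
    exact hyZ (h.center_sylow_three P hxc hx hyP hcon)
  set d := s * y * s⁻¹ * y⁻¹ with hd
  have hdP : d ∈ (P : Subgroup C) := mul_mem (mul_mem (mul_mem hs hyP) (inv_mem hs)) (inv_mem hyP)
  have hd1 : h.proj d = 1 := by
    rw [hd, map_mul, map_mul, map_mul, map_inv, map_inv, ((h.proj_sylow_three P hs).2 y hyP).eq]
    group
  have hdc := h.mem_ker.1 hd1
  have hd3 : d ^ 3 = 1 := by
    obtain ⟨k, hk⟩ := P.isPGroup' ⟨d, hdP⟩
    have hk' : orderOf d ∣ 3 ^ k := orderOf_dvd_of_pow_eq_one (congrArg Subtype.val hk)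
    have h6 : orderOf d ∣ 6 := orderOf_dvd_of_pow_eq_one (h.center_pow hdc)
    rw [← orderOf_dvd_iff_pow_eq_one]
    obtain ⟨j, -, e⟩ := (Nat.dvd_prime_pow Nat.prime_three).1 hk'
    rw [e] at h6 ⊢
    have hj : 3 ^ j ≤ 6 := Nat.le_of_dvd (by norm_num) h6
    have : j ≤ 1 := by
      by_contra hj2
      have := Nat.pow_le_pow_right (show 0 < 3 by norm_num) (show 2 ≤ j by omega)
      omega
    interval_cases j <;> norm_num
  have hdx := h.center_prime Nat.prime_three hxc hx hdc hd3
  have hdne : d ≠ 1 := fun e => hns (by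
    rw [hd, mul_inv_eq_one, mul_inv_eq_iff_eq_mul] at e
    exact e.symm)
  have hs' : ∀ t ∈ (P : Subgroup C), ¬ Commute y t → Commute (h.proj t) (h.proj y) ∧ h.proj t ^ 3 = 1 ∧
      h.proj t ∉ zpowers (h.proj y) := by
    intro t ht hnt
    refine ⟨(h.proj_sylow_three P ht).2 y hyP, (h.proj_sylow_three P ht).1, fun hmem => hnt ?_⟩
    obtain ⟨i, hi⟩ := mem_zpowers_iff.1 hmem
    have hk : t * (y ^ i)⁻¹ ∈ center C := by
      rw [← h.mem_ker, map_mul, map_inv, map_zpow, hi, mul_inv_cancel]
    have := (show Commute y (t * (y ^ i)⁻¹) from mem_center_iff.1 hk y).mul_right (Commute.self_zpow y i)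
    rwa [inv_mul_cancel_right] at this
  have hxd : d = x ∨ d = x⁻¹ := by
    obtain ⟨i, hi⟩ := mem_zpowers_iff.1 hdx
    have h3 : x ^ i = x ^ (i % 3) := by
      rw [show (3 : ℤ) = ((orderOf x : ℕ) : ℤ) by rw [hx]; norm_num, zpow_mod_orderOf]
    have hr : i % 3 = 0 ∨ i % 3 = 1 ∨ i % 3 = 2 := by omega
    rw [← hi, h3] at hdne ⊢
    rcases hr with e | e | e <;> rw [e] at hdne ⊢
    · exact absurd (zpow_zero x) hdne
    · exact Or.inl (zpow_one x)
    · refine Or.inr (eq_inv_of_mul_eq_one_left ?_)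
      rw [← zpow_add_one, show (2 : ℤ) + 1 = ((orderOf x : ℕ) : ℤ) by rw [hx]; norm_num,
        zpow_natCast, pow_orderOf_eq_one]
  rcases hxd with e | e
  · exact ⟨s, by rw [← e, hd]; group, hs' s hs hns⟩
  · refine ⟨s⁻¹, ?_, hs' _ (inv_mem hs) (fun hc => hns (by simpa using hc.inv_right))⟩
    have e' : s * y * s⁻¹ = x⁻¹ * y := by rw [← e, hd]; group
    calc s⁻¹ * y * s⁻¹⁻¹ = s⁻¹ * (x * (s * y * s⁻¹)) * s := by rw [e']; group
      _ = x * y := by
        have hxs : s⁻¹ * x = x * s⁻¹ := mem_center_iff.1 hxc s⁻¹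
        calc s⁻¹ * (x * (s * y * s⁻¹)) * s = s⁻¹ * x * s * y := by group
          _ = x * y := by rw [hxs]; group

include h in
/-- The elements of 2-power order over the four group of an element of order three. -/
theorem exists_four_lift (hxc : x ∈ center C) (hx : orderOf x = 3) {y : C} (hy : orderOf y = 3)
    (hyZ : y ∉ zpowers x) :
    ∃ K : Subgroup C, IsPGroup 2 K ∧ Nat.card K = 8 ∧ (∀ k ∈ K, Commute k y) ∧
      K.map h.proj = fourOf (h.proj y) := by
  have : Fact (Nat.Prime 2) := ⟨Nat.prime_two⟩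
  have hy' : orderOf (h.proj y) = 3 := by
    refine orderOf_eq_prime (by rw [← map_pow, ← hy, pow_orderOf_eq_one, map_one]) fun e => hyZ ?_
    exact h.center_prime Nat.prime_three hxc hx (h.mem_ker.1 e) (by rw [← hy, pow_orderOf_eq_one])
  set P4 := (fourOf (h.proj y)).comap h.proj with hP4
  have hP4c : Nat.card P4 = 24 := by
    have hle : center C ≤ P4 := fun c hc => by
      rw [hP4, mem_comap, h.mem_ker.2 hc]
      exact one_mem _
    let f := h.proj.subgroupComap (fourOf (h.proj y))
    have hf : Function.Surjective f := fun ⟨v, hv⟩ => by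
      obtain ⟨c, rfl⟩ := h.proj_surjective v
      exact ⟨⟨c, hv⟩, rfl⟩
    have e := card_eq_card_quotient_mul_card_subgroup f.ker
    rw [Nat.card_congr (QuotientGroup.quotientKerEquivOfSurjective f hf).toEquiv, m22.card_fourOf hy',
      show f.ker = (center C).subgroupOf P4 by
        ext c
        rw [MonoidHom.mem_ker, mem_subgroupOf, ← h.mem_ker, Subtype.ext_iff]
        rfl,
      Nat.card_congr (subgroupOfEquivOfLe hle).toEquiv, h.six] at e
    exact e
  obtain ⟨Q⟩ := (inferInstance : Nonempty (Sylow 2 P4))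
  set K := (Q : Subgroup P4).map P4.subtype with hK
  have hKc : Nat.card K = 8 := by
    rw [hK, card_map_of_injective P4.subtype_injective, Sylow.card_eq_multiplicity, hP4c,
      CfsgLib.MathieuBlocks.factorization_eq_of Nat.prime_two (v := 3) (m := 3) (by norm_num) (by norm_num)]
    norm_num
  have hK2 : IsPGroup 2 K := IsPGroup.of_card (n := 3) (by rw [hKc]; norm_num)
  have hcomm : ∀ k ∈ K, Commute k y := by
    intro k hk
    obtain ⟨⟨k', hk'⟩, hQk, rfl⟩ := hk
    set d := k' * y * k'⁻¹ * y⁻¹ with hd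
    have hd1 : h.proj d = 1 := by
      have hc : Commute (h.proj k') (h.proj y) := ((m22.mem_fourOf hy').1 hk').1.symm
      rw [hd, map_mul, map_mul, map_mul, map_inv, map_inv, hc.eq]
      group
    have hdc := h.mem_ker.1 hd1
    obtain ⟨m, hm⟩ := hK2 ⟨k', mem_map_of_mem _ hQk⟩
    have hm' : k' ^ 2 ^ m = 1 := congrArg Subtype.val hm
    have hpow : ∀ i : ℕ, k' ^ i * y * (k' ^ i)⁻¹ = d ^ i * y := by
      intro i
      induction i with
      | zero => simp
      | succ i ih =>
        calc k' ^ (i + 1) * y * (k' ^ (i + 1))⁻¹ = k' * (k' ^ i * y * (k' ^ i)⁻¹) * k'⁻¹ := by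
              rw [pow_succ']; group
          _ = k' * d ^ i * y * k'⁻¹ := by rw [ih]; group
          _ = d ^ i * (k' * y * k'⁻¹) := by rw [mem_center_iff.1 (pow_mem hdc i) k']; group
          _ = d ^ (i + 1) * y := by rw [pow_succ, hd]; group
    have h2 : d ^ 2 ^ m = 1 := by
      have e := hpow (2 ^ m)
      rw [hm', one_mul, inv_one, mul_one] at e
      exact (mul_eq_right.mp e.symm)
    have h3 : d ^ 3 = 1 := by
      have hc : Commute d y := (mem_center_iff.1 hdc y).symm
      have e : (k' * y * k'⁻¹) ^ 3 = (d * y) ^ 3 := by rw [hd]; congr 1; group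
      rw [conj_pow, hc.mul_pow, show y ^ 3 = 1 by rw [← hy]; exact pow_orderOf_eq_one y, mul_one,
        mul_one, mul_inv_cancel] at e
      exact e.symm
    have : d = 1 := by
      have hgcd : d ^ Nat.gcd (2 ^ m) 3 = 1 := pow_gcd_eq_one.2 ⟨h2, h3⟩
      rwa [Nat.Coprime.pow_left m (by norm_num : Nat.Coprime 2 3), pow_one] at hgcd
    rw [hd, mul_inv_eq_one, mul_inv_eq_iff_eq_mul] at this
    exact this
  refine ⟨K, hK2, hKc, hcomm, ?_⟩
  refine eq_of_le_of_card_ge ?_ ?_
  · rintro _ ⟨_, ⟨c, -, rfl⟩, rfl⟩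
    exact c.2
  · rw [m22.card_fourOf hy']
    have e := card_eq_card_quotient_mul_card_subgroup (h.proj.domRestrict K).ker
    rw [Nat.card_congr (QuotientGroup.quotientKerEquivRange (h.proj.domRestrict K)).toEquiv,
      MonoidHom.domRestrict_range, hKc] at e
    have hker : Nat.card (h.proj.domRestrict K).ker ≤ 2 := by
      rw [show (h.proj.domRestrict K).ker = (center C).subgroupOf K by
        ext c; rw [MonoidHom.mem_ker, mem_subgroupOf, ← h.mem_ker]; rfl]
      rw [← Subgroup.inf_subgroupOf_right,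
        Nat.card_congr (subgroupOfEquivOfLe inf_le_right).toEquiv]
      have hd1 : Nat.card (center C ⊓ K : Subgroup C) ∣ 6 := h.six ▸ card_dvd_of_le inf_le_left
      have hd2 : Nat.card (center C ⊓ K : Subgroup C) ∣ 8 := hKc ▸ card_dvd_of_le inf_le_right
      exact Nat.le_of_dvd two_pos (by simpa using Nat.dvd_gcd hd1 hd2)
    nlinarith

include h in
/-- Normal 2-subgroups are central. -/
theorem normal_two_le (N : Subgroup C) [hN : N.Normal] (h2 : IsPGroup 2 N) :
    N ≤ center C := by
  haveI := m22.isSimple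
  rcases (hN.map h.proj h.proj_surjective).eq_bot_or_eq_top with e | e
  · intro n hn
    exact h.mem_ker.1 ((Subgroup.eq_bot_iff_forall _).1 e _ (mem_map_of_mem _ hn))
  · exfalso
    have h2' := h2.map h.proj
    rw [e] at h2'
    have : Fact (Nat.Prime 2) := ⟨Nat.prime_two⟩
    obtain ⟨n, hn⟩ := IsPGroup.iff_card.1 h2'
    rw [card_top, m22.card] at hn
    have h11 : (11 : ℕ) ∣ 2 ^ n := hn ▸ (by norm_num)
    exact absurd ((Nat.Prime.dvd_of_dvd_pow (by norm_num) h11)) (by norm_num)

include h in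
theorem not_isSolvable : ¬ Group.IsSolvable C := fun hs => by
  haveI := hs
  haveI := m22.isSimple
  haveI : Group.IsSolvable ↥Cfsg.Spor.M22 := Group.isSolvable_of_surjective h.proj_surjective
  exact m22_not_commutative (IsSimpleGroup.comm_iff_isSolvable.2 inferInstance)

end Cover

end CfsgLib.J4Cover
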