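import Cfsg.Agent.Lib.BenderQ.Bridge
import Cfsg.Agent.Lib.BenderQ.Bender
import Cfsg.Agent.Lib.Transfer.Basic
import Cfsg.Agent.Lib.Involutions.StronglyEmbedded
import Cfsg.Agent.Lib.OddOrder.PuigSeries

/-!
# A subgroup holding the centralisers of its inner involutions is the whole group

`C` is a perfect non-solvable subgroup of index two in `M` with one class of involutions, `M` contains
the centraliser of each of them and none of them is conjugate to an involution of `M` outside `C`.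
-/

set_option autoImplicit false
set_option linter.style.haveILetI false

namespace CfsgLib.J4Cover

open Subgroup
open scoped commutatorElement

universe u

variable {H : Type u} [Group H] [Finite H]

omit [Finite H] in
theorem mul_mem_of_notMem {K : Subgroup H} (h : K.index = 2) {x y : H} (hx : x ∉ K) (hy : y ∉ K) :
    x * y ∈ K :=
  (mul_mem_iff_of_index_two h).2 (iff_of_false hx hy)

/-- `M` contains a Sylow 2-subgroup of `H`. -/
theorem exists_sylow_le {M C : Subgroup H} (hCM : C ≤ M) (hidx : C.relIndex M = 2)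
    {a : H} (haC : a ∈ C) (ha : orderOf a = 2)
    (hcent : ∀ t ∈ C, orderOf t = 2 → centralizer ({t} : Set H) ≤ M)
    (hinner : ∀ t ∈ C, orderOf t = 2 → ∀ g : H, g * t * g⁻¹ ∈ M → g * t * g⁻¹ ∈ C) :
    ∃ S : Sylow 2 H, (S : Subgroup H) ≤ M := by
  haveI : Fact (Nat.Prime 2) := ⟨Nat.prime_two⟩
  have hnormal : (C.subgroupOf M).Normal := normal_of_index_eq_two hidx
  have hp : IsPGroup 2 (zpowers (⟨a, hCM haC⟩ : M)) := by
    refine IsPGroup.of_card (n := 1) ?_
    rw [Nat.card_zpowers, orderOf_mk, ha, pow_one]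
  obtain ⟨R, hR⟩ := hp.exists_le_sylow
  let R₀ : Subgroup H := (R : Subgroup M).map M.subtype
  have hR₀M : R₀ ≤ M := map_subtype_le _
  have hR₀ : IsPGroup 2 R₀ := R.isPGroup'.map _
  obtain ⟨S, hS⟩ := hR₀.exists_le_sylow
  refine ⟨S, ?_⟩
  by_cases heq : R₀ = S
  · exact heq ▸ hR₀M
  exfalso
  -- the inner central involutions of `R₀`, normalised by the normaliser of `R₀` in `S`
  let P : Subgroup H := (S : Subgroup H) ⊓ normalizer (R₀ : Set H)
  have hP : IsPGroup 2 P := S.isPGroup'.to_le inf_le_left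
  have hRP : R₀ ≤ P := le_inf hS le_normalizer
  let V : Subgroup H :=
    { carrier := {x | x ∈ R₀ ∧ x ∈ C ∧ x * x = 1 ∧ ∀ r ∈ R₀, x * r = r * x}
      one_mem' := ⟨one_mem _, one_mem _, one_mul 1, fun r _ => by rw [one_mul, mul_one]⟩
      mul_mem' := by
        rintro x y ⟨hx, hxC, hx2, hxc⟩ ⟨hy, hyC, hy2, hyc⟩
        refine ⟨mul_mem hx hy, mul_mem hxC hyC, ?_, fun r hr => ?_⟩
        · calc x * y * (x * y) = x * (y * x) * y := by simp only [mul_assoc]
            _ = x * (x * y) * y := by rw [hxc y hy]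
            _ = 1 := by rw [← mul_assoc x x y, hx2, one_mul, hy2]
        · rw [mul_assoc, hyc r hr, ← mul_assoc, hxc r hr, mul_assoc]
      inv_mem' := by
        rintro x ⟨hx, hxC, hx2, hxc⟩
        rw [inv_eq_of_mul_eq_one_right hx2]
        exact ⟨hx, hxC, hx2, hxc⟩ }
  have hVP : V ≤ P := fun x hx => hRP hx.1
  have hVn : (V.subgroupOf P).Normal := ⟨fun v hv n => by
    obtain ⟨hx, hxC, hx2, hxc⟩ := hv
    change (v : H) * v = 1 at hx2
    change (v : H) ∈ R₀ at hx
    change (v : H) ∈ C at hxC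
    change ∀ r ∈ R₀, (v : H) * r = r * v at hxc
    obtain ⟨-, hn⟩ := n.2
    have hN : ∀ r, r ∈ R₀ ↔ (n : H) * r * (n : H)⁻¹ ∈ R₀ := mem_normalizer_iff.1 hn
    show (n : H) * v * (n : H)⁻¹ ∈ V
    refine ⟨(hN _).1 hx, ?_, ?_, fun r hr => ?_⟩
    · by_cases h1 : (v : H) = 1
      · rw [h1, mul_one, mul_inv_cancel]; exact one_mem _
      · exact hinner _ hxC (orderOf_eq_prime (by rw [pow_two, hx2]) h1) _ (hR₀M ((hN _).1 hx))
    · calc (n : H) * v * (n : H)⁻¹ * ((n : H) * v * (n : H)⁻¹) = n * ((v : H) * v) * (n : H)⁻¹ := by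
            group
        _ = 1 := by rw [hx2, mul_one, mul_inv_cancel]
    · obtain ⟨r', hr', rfl⟩ : ∃ r' ∈ R₀, (n : H) * r' * (n : H)⁻¹ = r :=
        ⟨(n : H)⁻¹ * r * n, (hN _).2 (by simpa [mul_assoc] using hr), by group⟩
      calc (n : H) * v * (n : H)⁻¹ * ((n : H) * r' * (n : H)⁻¹) = n * (v * r') * (n : H)⁻¹ := by group
        _ = n * (r' * v) * (n : H)⁻¹ := by rw [hxc r' hr']
        _ = _ := by group⟩
  have hVne : V.subgroupOf P ≠ ⊥ := by
    have hKn : ((C.subgroupOf M).subgroupOf (R : Subgroup M)).Normal := hnormal.subgroupOf _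
    have hKne : (C.subgroupOf M).subgroupOf (R : Subgroup M) ≠ ⊥ := fun hbot => by
      have h1 : (⟨⟨a, hCM haC⟩, hR (mem_zpowers _)⟩ : (R : Subgroup M)) ∈
          (C.subgroupOf M).subgroupOf (R : Subgroup M) := haC
      rw [hbot, mem_bot] at h1
      have h2 : a = 1 := congrArg (fun x : (R : Subgroup M) => ((x : M) : H)) h1
      rw [h2, orderOf_one] at ha
      exact absurd ha (by norm_num)
    haveI := hKn
    haveI : Group.IsNilpotent (R : Subgroup M) := R.isPGroup'.isNilpotent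
    have hmeet : (C.subgroupOf M).subgroupOf (R : Subgroup M) ⊓ center (R : Subgroup M) ≠ ⊥ := by
      rw [inf_comm]
      exact CfsgLib.OddOrder.PuigSeries.inf_center_ne_bot _ hKne
    obtain ⟨⟨z, hz⟩, hzo⟩ :
        ∃ z : ↥((C.subgroupOf M).subgroupOf (R : Subgroup M) ⊓ center (R : Subgroup M)),
          orderOf z = 2 := by
      refine exists_prime_orderOf_dvd_card' 2 ?_
      obtain ⟨k, hk⟩ := IsPGroup.iff_card.1 (R.isPGroup'.to_subgroup
        ((C.subgroupOf M).subgroupOf (R : Subgroup M) ⊓ center (R : Subgroup M)))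
      rcases Nat.eq_zero_or_pos k with rfl | hpos
      · exact absurd (card_eq_one.1 (by simpa using hk)) hmeet
      · exact hk ▸ dvd_pow_self 2 hpos.ne'
    rw [orderOf_mk] at hzo
    intro hbot
    have hzV : ((z : M) : H) ∈ V := by
      refine ⟨⟨z, z.2, rfl⟩, hz.1, ?_, ?_⟩
      · have h := pow_orderOf_eq_one z
        rw [hzo, pow_two] at h
        exact congrArg (fun x : (R : Subgroup M) => ((x : M) : H)) h
      · rintro _ ⟨r, hr, rfl⟩
        exact (congrArg (fun x : (R : Subgroup M) => ((x : M) : H))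
          (mem_center_iff.1 hz.2 ⟨r, hr⟩)).symm
    have h0 : (⟨((z : M) : H), hVP hzV⟩ : P) ∈ V.subgroupOf P := hzV
    rw [hbot, mem_bot] at h0
    have h1 : z = 1 := Subtype.ext (Subtype.ext (congrArg (fun x : P => (x : H)) h0))
    rw [h1, orderOf_one] at hzo
    exact absurd hzo (by norm_num)
  have hmeet : V.subgroupOf P ⊓ center P ≠ ⊥ := by
    haveI := hVn
    haveI : Group.IsNilpotent P := hP.isNilpotent
    rw [inf_comm]
    exact CfsgLib.OddOrder.PuigSeries.inf_center_ne_bot _ hVne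
  obtain ⟨⟨w, hwP⟩, ⟨⟨-, hwC, hw2, -⟩, hwc⟩, hw1⟩ :
      ∃ w : P, w ∈ V.subgroupOf P ⊓ center P ∧ w ≠ 1 := by
    by_contra h
    push Not at h
    exact hmeet ((eq_bot_iff_forall _).2 fun x hx => h x hx)
  have hwo : orderOf w = 2 :=
    orderOf_eq_prime (by rw [pow_two]; exact hw2) fun e => hw1 (Subtype.ext e)
  have hPM : P ≤ M := fun p hp => hcent w hwC hwo (mem_centralizer_singleton_iff.2
    (congrArg Subtype.val (mem_center_iff.1 hwc ⟨p, hp⟩)))
  have hmax : P.subgroupOf M = R := R.is_maximal' (hP.comap_subtype) fun x hx => hRP ⟨x, hx, rfl⟩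
  have hPR : P = R₀ := by
    rw [show R₀ = (R : Subgroup M).map M.subtype from rfl, ← hmax, subgroupOf_map_subtype,
      inf_eq_left.2 hPM]
  -- normalisers grow in `S`
  have hlt : R₀.subgroupOf (S : Subgroup H) < ⊤ := by
    rw [lt_top_iff_ne_top, Ne, subgroupOf_eq_top]
    exact fun h => heq (le_antisymm hS h)
  haveI : Group.IsNilpotent (S : Subgroup H) := S.isPGroup'.isNilpotent
  obtain ⟨n, hn, hnR⟩ := SetLike.exists_of_lt (Group.normalizerCondition_of_isNilpotent _ hlt)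
  refine hnR ?_
  show (n : H) ∈ R₀
  rw [← hPR]
  refine ⟨n.2, mem_normalizer_iff.2 fun r => ⟨fun hr => (mem_normalizer_iff.1 hn ⟨r, hS hr⟩).1 hr,
    fun hr => ?_⟩⟩
  have hrS : r ∈ (S : Subgroup H) := by
    have := mul_mem (mul_mem (inv_mem n.2) (hS hr)) n.2
    simpa [mul_assoc] using this
  exact (mem_normalizer_iff.1 hn ⟨r, hrS⟩).2 hr

/-- A strongly embedded subgroup of a group with a four-subgroup is solvable. -/
theorem solvable_of_fusion {X : Subgroup H} (hne : X ≠ ⊤) {a b : H} (haX : a ∈ X)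
    (hC : ∀ t ∈ X, orderOf t = 2 → centralizer ({t} : Set H) ≤ X)
    (hF : ∀ t ∈ X, ∀ s ∈ X, orderOf t = 2 → orderOf s = 2 → IsConj t s → ∃ h ∈ X, h * t * h⁻¹ = s)
    (ha : orderOf a = 2) (hb : orderOf b = 2) (hab : a ≠ b) (hcomm : Commute a b) :
    Group.IsSolvable X := by
  have heven : Even (Nat.card X) := by
    have := _root_.orderOf_dvd_natCard (⟨a, haX⟩ : X)
    rw [orderOf_mk, ha] at this
    exact even_iff_two_dvd.2 this
  exact BenderQ.isSolvable_of_stronglyEmbedded BenderQ.benderKernel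
    ((Involutions.isStronglyEmbedded_iff_fusion hne heven).2 ⟨hC, hF⟩) ⟨a, b, ha, hb, hab, hcomm⟩

/-- The criterion. -/
theorem eq_top_of_inner_centralizers (M C : Subgroup H) (hCM : C ≤ M) (hidx : C.relIndex M = 2)
    (hperf : commutator C = ⊤) (hns : ¬ Group.IsSolvable C)
    (hfour : ∃ a b, a ∈ C ∧ b ∈ C ∧ orderOf a = 2 ∧ orderOf b = 2 ∧ a ≠ b ∧ Commute a b)
    (hcent : ∀ t ∈ C, orderOf t = 2 → centralizer ({t} : Set H) ≤ M)
    (hclass : ∀ s ∈ C, ∀ t ∈ C, orderOf s = 2 → orderOf t = 2 → ∃ c ∈ C, c * s * c⁻¹ = t)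
    (hsep : ∀ t ∈ C, ∀ u ∈ M, u ∉ C → orderOf t = 2 → orderOf u = 2 → ¬ IsConj t u) : M = ⊤ := by
  classical
  by_contra hne
  haveI : Fact (Nat.Prime 2) := ⟨Nat.prime_two⟩
  obtain ⟨a, b, haC, hbC, ha, hb, hab, hcomm⟩ := hfour
  have horder : ∀ (g t : H), orderOf (g * t * g⁻¹) = orderOf t := fun g t =>
    orderOf_injective (MulAut.conj g).toMonoidHom (MulAut.conj g).injective t
  have hinner : ∀ t ∈ C, orderOf t = 2 → ∀ g : H, g * t * g⁻¹ ∈ M → g * t * g⁻¹ ∈ C := by
    intro t ht ht2 g hg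
    by_contra h
    exact hsep t ht _ hg h ht2 ((horder g t).trans ht2) (isConj_iff.2 ⟨g, rfl⟩)
  by_cases hout : ∃ u ∈ M, u ∉ C ∧ orderOf u = 2
  · obtain ⟨u₀, hu₀M, hu₀C, hu₀⟩ := hout
    obtain ⟨S, hS⟩ := exists_sylow_le hCM hidx haC ha hcent hinner
    have hSM : ∃ R : Sylow 2 M, (R : Subgroup M) = (S : Subgroup H).subgroupOf M :=
      ⟨S.subtype hS, rfl⟩
    obtain ⟨R, hR⟩ := hSM
    have hp : IsPGroup 2 (zpowers (⟨u₀, hu₀M⟩ : M)) := by
      refine IsPGroup.of_card (n := 1) ?_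
      rw [Nat.card_zpowers, orderOf_mk, hu₀, pow_one]
    obtain ⟨P, hP⟩ := hp.exists_le_sylow
    obtain ⟨m, hm⟩ := MulAction.exists_smul_eq M P R
    obtain ⟨u, hu⟩ : ∃ u : M, u = m * ⟨u₀, hu₀M⟩ * m⁻¹ := ⟨_, rfl⟩
    have huS : (u : H) ∈ (S : Subgroup H) := by
      have h1 : u ∈ (R : Subgroup M) := by rw [hu, ← hm]; exact ⟨_, hP (mem_zpowers _), rfl⟩
      rw [hR] at h1
      exact h1
    have hnormal : (C.subgroupOf M).Normal := normal_of_index_eq_two hidx
    have huC : (u : H) ∉ C := fun h => hu₀C (by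
      have h1 := hnormal.conj_mem u h m⁻¹
      rw [hu, inv_inv] at h1
      have h2 : m⁻¹ * (m * ⟨u₀, hu₀M⟩ * m⁻¹) * m = ⟨u₀, hu₀M⟩ := by group
      rw [h2] at h1
      exact h1)
    have hu2 : orderOf (u : H) = 2 := by
      rw [hu]; exact (horder (m : H) u₀).trans hu₀
    have hQ : ((S : Subgroup H) ⊓ C).relIndex (S : Subgroup H) = 2 := by
      rw [inf_relIndex_left]
      refine Nat.le_antisymm (Nat.le_of_dvd two_pos ?_) ?_
      · have h1 := relIndex_dvd_index_of_normal (C.subgroupOf M) ((S : Subgroup H).subgroupOf M)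
        rw [relIndex_subgroupOf hS] at h1
        rwa [show (C.subgroupOf M).index = 2 from hidx] at h1
      · rcases Nat.lt_or_ge (C.relIndex (S : Subgroup H)) 2 with h | h
        · interval_cases hk : C.relIndex (S : Subgroup H)
          · exact absurd hk Subgroup.index_ne_zero_of_finite
          · exact absurd ((relIndex_eq_one.1 hk) huS) huC
        · exact h
    obtain ⟨H₁, hH₁n, hH₁i, huH₁⟩ := CfsgLib.Transfer.thompson_transfer S
      ((S : Subgroup H) ⊓ C) hQ u (by rw [← hu2, pow_orderOf_eq_one]) fun g _ hgQ =>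
        hsep _ hgQ.2 u u.2 huC ((horder g _).trans hu2) hu2 (isConj_iff.2 ⟨g⁻¹, by group⟩)
    have hCH₁ : C ≤ H₁ := fun c hc => by
      have h1 : (⟨c, hc⟩ : C) ∈ commutator C := hperf ▸ mem_top _
      have h2 : commutator C ≤ H₁.subgroupOf C := by
        rw [_root_.commutator_def, commutator_le]
        intro x _ y _
        show ((⁅x, y⁆ : C) : H) ∈ H₁
        have key : (x : H) * y * (x : H)⁻¹ * (y : H)⁻¹ ∈ H₁ := by
          rw [mul_mem_iff_of_index_two hH₁i, mul_mem_iff_of_index_two hH₁i,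
            mul_mem_iff_of_index_two hH₁i, inv_mem_iff, inv_mem_iff]
          tauto
        simpa [commutatorElement_def] using key
      exact h2 h1
    have hMH₁ : ∀ x ∈ M, x ∈ H₁ → x ∈ C := fun x hx hx1 => by
      by_contra hxC
      have h1 : x * u ∈ C :=
        (mul_mem_iff_of_index_two hidx (a := (⟨x, hx⟩ : M)) (b := u)).2 (iff_of_false hxC huC)
      exact huH₁ (((mul_mem_iff_of_index_two hH₁i).1 (hCH₁ h1)).1 hx1)
    have hXne : C.subgroupOf H₁ ≠ ⊤ := fun h => hne (eq_top_iff.2 fun x _ => by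
      rw [subgroupOf_eq_top] at h
      by_cases hx : x ∈ H₁
      · exact hCM (h hx)
      · have h1 : x * u ∈ M := hCM (h (mul_mem_of_notMem hH₁i hx huH₁))
        simpa using mul_mem h1 (inv_mem u.2))
    refine hns ?_
    have hsol := solvable_of_fusion (H := H₁) hXne (a := ⟨a, hCH₁ haC⟩) (b := ⟨b, hCH₁ hbC⟩) haC
      (fun t ht ht2 x hx => hMH₁ _ (hcent _ ht ((orderOf_coe t).trans ht2)
        (mem_centralizer_singleton_iff.2 (congrArg Subtype.val (mem_centralizer_singleton_iff.1 hx))))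
        x.2)
      (fun t ht s hs ht2 hs2 _ => by
        obtain ⟨c, hc, he⟩ := hclass _ ht _ hs ((orderOf_coe t).trans ht2) ((orderOf_coe s).trans hs2)
        exact ⟨⟨c, hCH₁ hc⟩, hc, Subtype.ext he⟩)
      (by rw [orderOf_mk, ha]) (by rw [orderOf_mk, hb]) (fun e => hab (congrArg Subtype.val e))
      (Subtype.ext hcomm)
    exact solvable_of_solvable_injective (f := (subgroupOfEquivOfLe hCH₁).symm.toMonoidHom)
      (subgroupOfEquivOfLe hCH₁).symm.injective
  · push Not at hout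
    have hin : ∀ t ∈ M, orderOf t = 2 → t ∈ C := fun t ht ht2 => by
      by_contra h
      exact hout t ht h ht2
    refine hns ?_
    have hsol := solvable_of_fusion hne (hCM haC) (fun t ht ht2 => hcent t (hin t ht ht2) ht2)
      (fun t ht s hs ht2 hs2 _ => by
        obtain ⟨c, hc, he⟩ := hclass _ (hin t ht ht2) _ (hin s hs hs2) ht2 hs2
        exact ⟨c, hCM hc, he⟩) ha hb hab hcomm
    exact solvable_of_solvable_injective (f := Subgroup.inclusion hCM) (Subgroup.inclusion_injective hCM)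

end CfsgLib.J4Cover
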