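import Cfsg.Agent.Lib.J4Cover.Cover

/-!
Small facts on `M22`: elements of order three moving a four group, and square roots of involutions.
-/

set_option autoImplicit false

namespace CfsgLib.J4Cover

open Subgroup CfsgLib.MathieuTwentyTwo CfsgLib.MathieuTwentyTwo.NseRoute

/-- An element of order three outside `⟨y⟩` commuting with `y` moves every involution of the four
group of `y`. -/
theorem not_commute_four {y s t : ↥Cfsg.Spor.M22} (hy : orderOf y = 3) (hs : s ^ 3 = 1)
    (hsy : Commute s y) (hsn : s ∉ zpowers y) (ht : t ∈ fourOf y) (ht1 : t ≠ 1) :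
    ¬ Commute s t := by
  intro hst
  have : Fact (Nat.Prime 3) := ⟨Nat.prime_three⟩
  obtain ⟨hyt, htt⟩ := (m22.mem_fourOf hy).1 ht
  have hto : orderOf t = 2 := orderOf_eq_two htt ht1
  have hs1 : s ≠ 1 := fun e => hsn (e ▸ one_mem _)
  have hso : orderOf s = 3 := orderOf_eq_prime hs hs1
  set A := zpowers y ⊔ zpowers s
  have hyZ : zpowers y ≤ centralizer ({t} : Set ↥Cfsg.Spor.M22) :=
    zpowers_le.2 (mem_centralizer_singleton_iff.2 hyt.eq)
  have hAC : A ≤ centralizer ({t} : Set ↥Cfsg.Spor.M22) :=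
    sup_le hyZ (zpowers_le.2 (mem_centralizer_singleton_iff.2 hst.eq))
  have hn : zpowers y ≤ normalizer (zpowers s : Set ↥Cfsg.Spor.M22) := by
    refine zpowers_le.2 (centralizer_le_normalizer (zpowers s : Set ↥Cfsg.Spor.M22) ?_)
    rw [mem_centralizer_iff]
    intro u hu
    obtain ⟨i, rfl⟩ := mem_zpowers_iff.1 hu
    exact (hsy.zpow_left i).eq
  have hA3 : IsPGroup 3 A :=
    (IsPGroup.of_card (n := 1) (by rw [Nat.card_zpowers, hy, pow_one])).to_sup_of_normal_right'
      (IsPGroup.of_card (n := 1) (by rw [Nat.card_zpowers, hso, pow_one])) hn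
  obtain ⟨k, hk⟩ := IsPGroup.iff_card.1 hA3
  have hd : 3 ^ k ∣ 384 := by
    rw [← hk, ← m22.card_centralizer_involution hto]
    exact card_dvd_of_le hAC
  have hk1 : k ≤ 1 := by
    by_contra h
    have h9 : 3 ^ 2 ∣ 384 := (Nat.pow_dvd_pow 3 (by omega : 2 ≤ k)).trans hd
    norm_num at h9
  have hle : Nat.card A ≤ Nat.card (zpowers y) := by
    rw [hk, Nat.card_zpowers, hy]
    exact (Nat.pow_le_pow_right (by norm_num) hk1).trans (by norm_num)
  exact hsn ((eq_of_le_of_card_ge le_sup_left hle).ge (mem_sup_right (mem_zpowers s)))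

/-- Every involution is a square. -/
theorem exists_sq_eq {t : ↥Cfsg.Spor.M22} (ht : orderOf t = 2) : ∃ u, u * u = t := by
  obtain ⟨g, hg⟩ := m22.exists_eight
  have h4 : orderOf (g ^ 4) = 2 := by
    rw [orderOf_pow' g (by norm_num), hg]
    norm_num
  obtain ⟨c, hc⟩ := isConj_iff.1 (m22.isConj_two h4 ht)
  refine ⟨c * g ^ 2 * c⁻¹, ?_⟩
  rw [← hc]
  group

/-- The four group of `y` consists of an involution and its images under `s`. -/
theorem fourOf_eq_of_two {y t1 s : ↥Cfsg.Spor.M22} (hy : orderOf y = 3) (h : t1 ∈ fourOf y)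
    (h1 : t1 ≠ 1) (hs : s ^ 3 = 1) (hsy : Commute s y) (hsn : s ∉ zpowers y) :
    (fourOf y : Set ↥Cfsg.Spor.M22) = {1, t1, s * t1 * s⁻¹, s ^ 2 * t1 * (s ^ 2)⁻¹} ∧
      t1 * (s * t1 * s⁻¹) = s ^ 2 * t1 * (s ^ 2)⁻¹ := by
  set a := s * t1 * s⁻¹ with ha
  set b := s ^ 2 * t1 * (s ^ 2)⁻¹ with hb
  have haV : a ∈ fourOf y := m22.conj_mem_fourOf hy hsy h
  have hbV : b ∈ fourOf y := m22.conj_mem_fourOf hy (hsy.pow_left 2) h
  have hnc : ¬ Commute s t1 := not_commute_four hy hs hsy hsn h h1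
  have hat : a ≠ t1 := fun e => hnc (mul_inv_eq_iff_eq_mul.1 e)
  have hbt : b ≠ t1 := fun e => hnc (by
    have h2 : Commute (s ^ 2) t1 := mul_inv_eq_iff_eq_mul.1 e
    have h3 := h2.pow_left 2
    rwa [← pow_mul, show s ^ (2 * 2) = s ^ 3 * s by group, hs, one_mul] at h3)
  have hab : b ≠ a := fun e => hat (by
    have e' : s * a * s⁻¹ = s * t1 * s⁻¹ := by
      rw [← ha]
      conv_rhs => rw [← e]
      rw [hb, ha, pow_two]
      group
    exact mul_left_cancel (mul_right_cancel e'))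
  have ha1 : a ≠ 1 := fun e => h1 (conj_eq_one_iff.1 e)
  have hb1 : b ≠ 1 := fun e => h1 (conj_eq_one_iff.1 e)
  have hset : (fourOf y : Set ↥Cfsg.Spor.M22) = {1, t1, a, b} := by
    refine (Set.eq_of_subset_of_ncard_le ?_ ?_ (Set.toFinite _)).symm
    · intro u hu
      simp only [Set.mem_insert_iff, Set.mem_singleton_iff] at hu
      rcases hu with rfl | rfl | rfl | rfl
      · exact one_mem _
      · exact h
      · exact haV
      · exact hbV
    · rw [← Nat.card_coe_set_eq, SetLike.coe_sort_coe, m22.card_fourOf hy,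
        Set.ncard_insert_of_notMem (by simp [Ne.symm h1, Ne.symm ha1, Ne.symm hb1]) (Set.toFinite _),
        Set.ncard_insert_of_notMem (by simp [Ne.symm hat, Ne.symm hbt]) (Set.toFinite _),
        Set.ncard_insert_of_notMem (by simp [Ne.symm hab]) (Set.toFinite _), Set.ncard_singleton]
  refine ⟨hset, ?_⟩
  have hm : t1 * a ∈ (fourOf y : Set ↥Cfsg.Spor.M22) := mul_mem h haV
  have htt : t1 * t1 = 1 := ((m22.mem_fourOf hy).1 h).2
  rw [hset] at hm
  simp only [Set.mem_insert_iff, Set.mem_singleton_iff] at hm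
  rcases hm with e | e | e | e
  · exact absurd (mul_left_cancel (e.trans htt.symm)) hat
  · exact absurd (mul_eq_left.1 e) ha1
  · exact absurd (mul_eq_right.1 e) h1
  · exact e

end CfsgLib.J4Cover
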