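import Cfsg.Agent.Lib.J4Cover.Parts
import Cfsg.Agent.Lib.J4Cover.Semilinear

/-!
Three fixed groups permuted cyclically and a family of commuting involutions permuted with them:
one member has a commutator group of order `16` meeting the first fixed group in order `4`.
-/

set_option autoImplicit false
set_option linter.unusedSectionVars false

namespace CfsgLib.J4Cover

universe u v

variable {V : Type u} [AddCommGroup V]

/-- The map `v ↦ a v + v`. -/
def diffHom (a : V ≃+ V) : V →+ V := a.toAddMonoidHom + AddMonoidHom.id V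

theorem diffHom_apply (a : V ≃+ V) (v : V) : diffHom a v = a v + v := rfl

theorem exists_sixteen [Finite V] (h2 : ∀ v : V, v + v = 0) (X Y S : V ≃+ V)
    (hxy : ∀ v, X (Y v) = Y (X v)) (h3x : ∀ v, X (X (X v)) = v) (h3y : ∀ v, Y (Y (Y v)) = v)
    (hfree : ∀ v, X v = v → v = 0) (hSX : ∀ v, S (X v) = X (S v))
    (hSY : ∀ v, S (Y v) = X (Y (S v))) {α : Type v} (τ : α → V ≃+ V) (σ : α → α)
    (hσ : ∀ a v, S (τ a v) = τ (σ a) (S v))
    (hτX : ∀ a v, τ a (X v) = X (τ a v)) (hτY : ∀ a v, τ a (Y v) = Y (τ a v))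
    (hthree : ∀ a b c, (∃ v, τ a v ≠ v) → (∃ v, τ b v ≠ v) → (∃ v, τ c v ≠ v) → a ≠ b → a ≠ c →
      b ≠ c → ∀ v, τ c v = τ a (τ b v))
    (hbound : ∀ a, Nat.card (diffHom (τ a)).range ≤ 16) (hne : ∃ a v, τ a v ≠ v) :
    ∃ a, Nat.card (diffHom (τ a)).range = 16 ∧
      Nat.card ((diffHom (τ a)).range ⊓ fixedPart Y : AddSubgroup V) = 4 := by
  -- the cycle
  have hS12 : ∀ v, Y v = v ↔ X (Y (S v)) = S v := fun v => by
    rw [← hSY]; exact S.injective.eq_iff.symm
  have hS23 : ∀ v, X (Y v) = v ↔ X (X (Y (S v))) = S v := fun v => by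
    rw [← hSY, ← hSX]; exact S.injective.eq_iff.symm
  have hS31 : ∀ v, X (X (Y v)) = v ↔ Y (S v) = S v := fun v => by
    have e : S (X (X (Y v))) = Y (S v) := by rw [hSX, hSX, hSY, h3x]
    rw [← e]; exact S.injective.eq_iff.symm
  let T1 : α → Prop := fun a => ∀ v, Y v = v → τ a v = v
  let T2 : α → Prop := fun a => ∀ v, X (Y v) = v → τ a v = v
  let T3 : α → Prop := fun a => ∀ v, X (X (Y v)) = v → τ a v = v
  have moveT : ∀ (P Q : V → Prop), (∀ v, P v ↔ Q (S v)) → ∀ a,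
      (∀ v, P v → τ a v = v) ↔ ∀ v, Q v → τ (σ a) v = v := by
    intro P Q hPQ a
    constructor
    · intro h v hv
      obtain ⟨w, rfl⟩ := S.surjective v
      rw [← hσ, h w ((hPQ w).2 hv)]
    · intro h v hv
      exact S.injective ((hσ a v).trans (h _ ((hPQ v).1 hv)))
  have m12 : ∀ a, T1 a ↔ T2 (σ a) := moveT _ _ hS12
  have m23 : ∀ a, T2 a ↔ T3 (σ a) := moveT _ _ hS23
  have m31 : ∀ a, T3 a ↔ T1 (σ a) := moveT _ _ hS31
  obtain ⟨t, ht⟩ : ∃ t, ¬ T1 t := by
    by_contra hcon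
    push Not at hcon
    obtain ⟨a, v, hv⟩ := hne
    refine hv ?_
    have h3 : T3 a := (m31 a).2 (hcon _)
    have h2' : T2 a := (m23 a).2 ((m31 _).2 (hcon _))
    have hs := sum_traces X Y hxy h3x h3y hfree h2 v
    have e1 := hcon a _ (mem_fixedPart.1 (traceOf_mem h3y v))
    have e2 := h2' _ (mem_fixedPart.1 (traceOf_mem (lineTwo_cube X Y hxy h3x h3y hfree h2) v))
    have e3 := h3 _ (mem_fixedPart.1 (traceOf_mem (lineThree_cube X Y hxy h3x h3y hfree h2) v))
    calc τ a v = τ a (traceOf Y v + traceOf (lineTwo X Y) v + traceOf (lineThree X Y) v) := by rw [hs]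
      _ = v := by rw [map_add, map_add, e1, e2, e3, hs]
  have h23 : ¬ (T2 t ∧ T3 t) := by
    rintro ⟨h2t, h3t⟩
    set t1 := σ t
    set t2 := σ t1
    have a1 : T1 t1 := (m31 t).1 h3t
    have a3 : T3 t1 := (m23 t).1 h2t
    have a2 : ¬ T2 t1 := fun h => ht ((m12 t).2 h)
    have b1 : T1 t2 := (m31 t1).1 a3
    have b2 : T2 t2 := (m12 t1).1 a1
    have b3 : ¬ T3 t2 := fun h => a2 ((m23 t1).2 h)
    have n0 : ∃ v, τ t v ≠ v := by
      by_contra hc; push Not at hc; exact ht fun v _ => hc v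
    have n1 : ∃ v, τ t1 v ≠ v := by
      by_contra hc; push Not at hc; exact a2 fun v _ => hc v
    have n2 : ∃ v, τ t2 v ≠ v := by
      by_contra hc; push Not at hc; exact b3 fun v _ => hc v
    have h := hthree t t1 t2 n0 n1 n2 (fun e => ht (e ▸ a1)) (fun e => ht (e ▸ b1))
      (fun e => a2 (e ▸ b2))
    refine ht fun v hv => ?_
    have e := h v
    rwa [a1 v hv, b1 v hv, eq_comm] at e
  refine ⟨t, ?_⟩
  set R := (diffHom (τ t)).range with hR
  have hRX : ∀ w ∈ R, X w ∈ R := by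
    rintro _ ⟨v, rfl⟩
    exact ⟨X v, by rw [diffHom_apply, diffHom_apply, hτX, map_add]⟩
  have hRY : ∀ w ∈ R, Y w ∈ R := by
    rintro _ ⟨v, rfl⟩
    exact ⟨Y v, by rw [diffHom_apply, diffHom_apply, hτY, map_add]⟩
  let res : ∀ (Z : V ≃+ V), (∀ w ∈ R, Z w ∈ R) → (∀ v, Z (Z (Z v)) = v) → R ≃+ R := fun Z hZ h3 =>
    { toFun := fun w => ⟨Z w, hZ w w.2⟩
      invFun := fun w => ⟨Z (Z w), hZ _ (hZ w w.2)⟩
      left_inv := fun w => Subtype.ext (h3 w)
      right_inv := fun w => Subtype.ext (h3 w)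
      map_add' := fun a b => Subtype.ext (map_add Z a.1 b.1) }
  let XR := res X hRX h3x
  let YR := res Y hRY h3y
  have hsplit := card_split XR YR (fun w => Subtype.ext (hxy w)) (fun w => Subtype.ext (h3x w))
    (fun w => Subtype.ext (h3y w)) (fun w hw => Subtype.ext (hfree w (congrArg Subtype.val hw)))
    (fun w => Subtype.ext (h2 w))
  have hpart : ∀ (Z : V ≃+ V) (ZR : R ≃+ R), (∀ w : R, (ZR w : V) = Z w) →
      Nat.card (fixedPart ZR) = Nat.card (R ⊓ fixedPart Z : AddSubgroup V) := fun Z ZR hZ =>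
    Nat.card_congr
      { toFun := fun w => ⟨w.1.1, w.1.2, mem_fixedPart.2
          ((hZ w.1).symm.trans (congrArg Subtype.val (mem_fixedPart.1 w.2)))⟩
        invFun := fun w => ⟨⟨w.1, w.2.1⟩,
          mem_fixedPart.2 (Subtype.ext ((hZ _).trans (mem_fixedPart.1 w.2.2)))⟩
        left_inv := fun w => rfl
        right_inv := fun w => rfl }
  rw [hpart Y YR fun w => rfl, hpart (lineTwo X Y) (lineTwo XR YR) fun w => rfl,
    hpart (lineThree X Y) (lineThree XR YR) fun w => rfl] at hsplit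
  have heven : ∀ Z : V ≃+ V, (∀ v, Z (X v) = X (Z v)) →
      ∃ k, Nat.card (R ⊓ fixedPart Z : AddSubgroup V) = 4 ^ k := fun Z hZ =>
    even_dim h2 X hfree h3x _ fun w hw => ⟨hRX w hw.1, mem_fixedPart.2 (by rw [hZ, mem_fixedPart.1 hw.2])⟩
  have hbig : ∀ Z : V ≃+ V, (∀ v, τ t (Z v) = Z (τ t v)) → (¬ ∀ v, Z v = v → τ t v = v) →
      Nat.card (R ⊓ fixedPart Z : AddSubgroup V) ≠ 1 := by
    intro Z hZ hn e
    refine hn fun v hv => ?_
    have hsub : Subsingleton (R ⊓ fixedPart Z : AddSubgroup V) := (Nat.card_eq_one_iff_unique.1 e).1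
    have hmem : τ t v + v ∈ R ⊓ fixedPart Z :=
      ⟨⟨v, rfl⟩, mem_fixedPart.2 (by rw [map_add, ← hZ, hv])⟩
    have h0 : τ t v + v = 0 := congrArg Subtype.val (hsub.elim ⟨_, hmem⟩ ⟨0, zero_mem _⟩)
    calc τ t v = τ t v + (v + v) := by rw [h2, add_zero]
      _ = v := by rw [← add_assoc, h0, zero_add]
  obtain ⟨a, ha⟩ := heven Y fun v => (hxy v).symm
  obtain ⟨b, hb⟩ := heven (lineTwo X Y) fun v => by simp only [lineTwo_apply, ← hxy]
  obtain ⟨c, hc⟩ := heven (lineThree X Y) fun v => by simp only [lineThree_apply, ← hxy]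
  have hY2 : ∀ v, τ t (lineTwo X Y v) = lineTwo X Y (τ t v) := fun v => by
    simp only [lineTwo_apply, hτX, hτY]
  have hY3 : ∀ v, τ t (lineThree X Y v) = lineThree X Y (τ t v) := fun v => by
    simp only [lineThree_apply, hτX, hτY]
  have a0 : a ≠ 0 := fun e => hbig Y (hτY t) ht (by rw [ha, e, pow_zero])
  have bc : b + c ≠ 0 := fun e => by
    refine h23 ⟨?_, ?_⟩
    · by_contra hh
      exact hbig (lineTwo X Y) hY2 hh (by rw [hb, show b = 0 by omega, pow_zero])
    · by_contra hh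
      exact hbig (lineThree X Y) hY3 hh (by rw [hc, show c = 0 by omega, pow_zero])
  have hle := hbound t
  rw [← hR, hsplit, ha, hb, hc, ← pow_add, ← pow_add] at hle
  have habc : a + b + c ≤ 2 := (Nat.pow_le_pow_iff_right (show 1 < 4 by norm_num)).1 (by simpa using hle)
  refine ⟨?_, by rw [ha, show a = 1 by omega, pow_one]⟩
  rw [hsplit, ha, hb, hc, ← pow_add, ← pow_add, show a + b + c = 2 by omega]
  norm_num

end CfsgLib.J4Cover
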