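import Cfsg.Agent.Lib.J4Cover.Cover
import Cfsg.Prelude.Def_JankoFourType

/-!
The set-up: an element `x` of order three with centraliser `6.M22` and a conjugate `y` commuting
with it; the automisers of `⟨x, y⟩`.
-/

set_option autoImplicit false
set_option linter.unusedSectionVars false

namespace CfsgLib.J4Cover

open Subgroup
open CfsgLib.MathieuTwentyTwo (orderOf_conj)

universe u

/-- The centraliser of one element. -/
abbrev cC {G : Type u} [Group G] (a : G) : Subgroup G := centralizer ({a} : Set G)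

/-- The data of the theorem. -/
structure Setup (G : Type u) [Group G] where
  x : G
  z : G
  y : G
  hx : orderOf x = 3
  hcov : Cover ↥(cC x)
  hz : orderOf z = 2
  hzc : ∀ c ∈ cC x, Commute z c
  hzx : Commute z x
  hxy : Commute x y
  hy : y ∉ zpowers x
  hconj : ∃ g : G, g * x * g⁻¹ = y
  sylow3 : ∀ P : Sylow 3 G, Nat.card (P : Subgroup G) = 27

theorem mem_cC {G : Type u} [Group G] {a b : G} : b ∈ cC a ↔ Commute b a := mem_centralizer_singleton_iff

/-- The hypotheses give the set-up. -/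
theorem exists_setup {G : Type u} [Group G] [Finite G] (x : G) (hx : orderOf x = 3)
    (hcov : Cover ↥(cC x)) (S : Sylow 3 G) (g : G)
    (hng : ((center ↥(S : Subgroup G)).map (S : Subgroup G).subtype).map (MulAut.conj g).toMonoidHom ≤
      (S : Subgroup G))
    (hne : ((center ↥(S : Subgroup G)).map (S : Subgroup G).subtype).map (MulAut.conj g).toMonoidHom ≠
      ((center ↥(S : Subgroup G)).map (S : Subgroup G).subtype)) :
    ∃ M : Setup G, M.x = x := by
  have : Fact (Nat.Prime 3) := ⟨Nat.prime_three⟩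
  have : Fact (Nat.Prime 2) := ⟨Nat.prime_two⟩
  set C := cC x
  set xc : C := ⟨x, mem_cC.2 rfl⟩ with hxc
  have hxZ : xc ∈ center C := mem_center_iff.2 fun c => Subtype.ext (mem_cC.1 c.2)
  have hxo : orderOf xc = 3 := by rw [← Subgroup.orderOf_coe]; exact hx
  obtain ⟨R⟩ := (inferInstance : Nonempty (Sylow 3 C))
  obtain ⟨P, hP⟩ := (R.isPGroup'.map C.subtype).exists_le_sylow
  set R' := (R : Subgroup C).map C.subtype with hR'
  have hPR : (P : Subgroup G) = R' := by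
    refine le_antisymm (fun a ha => ?_) hP
    by_contra hn
    have hlt : R'.subgroupOf P < ⊤ := by
      rw [lt_top_iff_ne_top]
      exact fun e => hn (mem_subgroupOf.1 (e ▸ mem_top (⟨a, ha⟩ : P)))
    haveI := P.isPGroup'.isNilpotent
    have hlt2 := Group.normalizerCondition_of_isNilpotent (G := (P : Subgroup G)) _ hlt
    obtain ⟨⟨m, hm⟩, hmN, hmR⟩ := SetLike.exists_of_lt hlt2
    rw [mem_subgroupOf] at hmR
    -- `m` centralises the centre of `R`
    have hxR : x ∈ R' := ⟨xc, hcov.three_mem_sylow R hxZ hxo, rfl⟩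
    have hconj : ∀ r, r ∈ R' → m * r * m⁻¹ ∈ R' := fun r hr =>
      mem_subgroupOf.1 ((mem_normalizer_iff.1 hmN ⟨r, hP hr⟩).1 (mem_subgroupOf.2 hr))
    have hconj' : ∀ r, r ∈ R' → m⁻¹ * r * m ∈ R' := fun r hr => by
      have := mem_subgroupOf.1 ((mem_normalizer_iff.1 (inv_mem hmN) ⟨r, hP hr⟩).1 (mem_subgroupOf.2 hr))
      simpa using this
    obtain ⟨d, hd, hdx⟩ := hconj x hxR
    have hdc : d ∈ zpowers xc := by
      refine hcov.center_sylow_three R hxZ hxo hd fun b hb => Subtype.ext ?_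
      obtain ⟨b', -, hb'⟩ := hconj' (b : G) ⟨b, hb, rfl⟩
      have hc : x * (b' : G) = b' * x := (mem_cC.1 b'.2).symm
      show (d : G) * b = b * d
      rw [show (d : G) = m * x * m⁻¹ from hdx, show (b : G) = m * b' * m⁻¹ by
        rw [show (b' : G) = m⁻¹ * b * m from hb']; group]
      calc m * x * m⁻¹ * (m * b' * m⁻¹) = m * (x * b') * m⁻¹ := by group
        _ = m * (b' * x) * m⁻¹ := by rw [hc]
        _ = m * b' * m⁻¹ * (m * x * m⁻¹) := by group
    obtain ⟨i, hi⟩ := mem_zpowers_iff.1 hdc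
    have hmx : m * x * m⁻¹ = x ^ i := hdx.symm.trans (congrArg Subtype.val hi.symm)
    have hpow : ∀ k : ℕ, m ^ k * x * (m ^ k)⁻¹ = x ^ (i ^ k) := by
      intro k
      induction k with
      | zero => simp
      | succ k ih =>
        calc m ^ (k + 1) * x * (m ^ (k + 1))⁻¹ = MulAut.conj m (m ^ k * x * (m ^ k)⁻¹) := by
              rw [pow_succ', MulAut.conj_apply]; group
          _ = (m * x * m⁻¹) ^ (i ^ k) := by rw [ih, map_zpow, MulAut.conj_apply]
          _ = x ^ (i ^ (k + 1)) := by rw [hmx, ← zpow_mul, pow_succ']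
    obtain ⟨n, hn'⟩ := P.isPGroup' ⟨m, hm⟩
    have hn'' : m ^ (3 ^ n) = 1 := congrArg Subtype.val hn'
    have e3 := hpow (3 ^ n)
    rw [hn'', one_mul, inv_one, mul_one] at e3
    have hmod : (i ^ (3 ^ n) : ZMod 3) = (i : ZMod 3) := ZMod.pow_card_pow _
    have hi1 : x ^ i = x := by
      have h1 : ((i ^ (3 ^ n) : ℤ) : ZMod 3) = ((1 : ℤ) : ZMod 3) := by
        rw [ZMod.intCast_eq_intCast_iff, Int.ModEq]
        have hdvd : (3 : ℤ) ∣ i ^ (3 ^ n) - 1 := by
          have h3 : ((orderOf x : ℕ) : ℤ) ∣ i ^ (3 ^ n) - 1 := by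
            rw [orderOf_dvd_iff_zpow_eq_one, zpow_sub_one, ← e3, mul_inv_cancel]
          rw [hx] at h3
          exact_mod_cast h3
        norm_num
        omega
      rw [Int.cast_pow, hmod, ZMod.intCast_eq_intCast_iff] at h1
      have hdvd : (3 : ℤ) ∣ i - 1 := by
        have := h1.symm.dvd
        exact_mod_cast this
      rw [← mul_inv_eq_one, ← zpow_sub_one, ← orderOf_dvd_iff_zpow_eq_one, hx]
      exact_mod_cast hdvd
    have hmC : m ∈ C := mem_cC.2 (mul_inv_eq_iff_eq_mul.1 (hmx.trans hi1))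
    -- `m` and `R` generate a larger 3-subgroup of `C`
    have hle : R' ⊔ zpowers m ≤ (P : Subgroup G) ⊓ C :=
      le_inf (sup_le hP (zpowers_le.2 hm)) (sup_le (map_subtype_le _) (zpowers_le.2 hmC))
    have h3 : IsPGroup 3 ((R' ⊔ zpowers m).subgroupOf C) :=
      (P.isPGroup'.to_le (hle.trans inf_le_left)).of_equiv (subgroupOfEquivOfLe (hle.trans inf_le_right)).symm
    have hR3 := R.is_maximal' h3 (fun r hr => mem_subgroupOf.2 (mem_sup_left ⟨r, hr, rfl⟩))
    refine hmR ⟨⟨m, hmC⟩, ?_, rfl⟩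
    rw [← hR3]
    exact mem_subgroupOf.2 (mem_sup_right (mem_zpowers m))
  have hsyl : ∀ Q : Sylow 3 G, Nat.card (Q : Subgroup G) = 27 := fun Q => by
    rw [Sylow.card_eq_multiplicity, ← Sylow.card_eq_multiplicity P, hPR, hR',
      card_map_of_injective C.subtype_injective, hcov.card_sylow_three R]
  -- the centre of the Sylow subgroup
  have hZ : ∀ a ∈ (P : Subgroup G), (∀ b ∈ (P : Subgroup G), Commute a b) → a ∈ zpowers x := by
    intro a ha hab
    rw [hPR] at ha hab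
    obtain ⟨a', ha', rfl⟩ := ha
    have := hcov.center_sylow_three R hxZ hxo ha' fun b hb => Subtype.ext (hab b ⟨b, hb, rfl⟩)
    obtain ⟨i, hi⟩ := mem_zpowers_iff.1 this
    exact mem_zpowers_iff.2 ⟨i, congrArg Subtype.val hi⟩
  have hxP : x ∈ (P : Subgroup G) := hPR ▸ ⟨xc, hcov.three_mem_sylow R hxZ hxo, rfl⟩
  obtain ⟨h, hh⟩ := MulAction.exists_smul_eq G P S
  have hS : ∀ a, a ∈ (P : Subgroup G) ↔ h * a * h⁻¹ ∈ (S : Subgroup G) := fun a => by
    rw [← hh]
    exact (Subgroup.smul_mem_pointwise_smul_iff (a := MulAut.conj h) (x := a) (S := (P : Subgroup G))).symm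
  have hxS : ∀ a, a ∈ (center ↥(S : Subgroup G)).map (S : Subgroup G).subtype ↔
      a ∈ zpowers (h * x * h⁻¹) := by
    intro a
    constructor
    · rintro ⟨⟨a, ha⟩, hac, rfl⟩
      have haP : h⁻¹ * a * h ∈ (P : Subgroup G) := (hS _).2 (by simpa [mul_assoc] using ha)
      have := hZ _ haP fun b hb => by
        have e : a * (h * b * h⁻¹) = h * b * h⁻¹ * a :=
          congrArg Subtype.val ((mem_center_iff.1 hac ⟨_, (hS b).1 hb⟩)).symm
        show h⁻¹ * a * h * b = b * (h⁻¹ * a * h)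
        calc h⁻¹ * a * h * b = h⁻¹ * (a * (h * b * h⁻¹)) * h := by group
          _ = _ := by rw [e]; group
      obtain ⟨i, hi⟩ := mem_zpowers_iff.1 this
      exact mem_zpowers_iff.2 ⟨i, by
        show (h * x * h⁻¹) ^ i = a
        rw [conj_zpow, hi]; group⟩
    · intro ha
      obtain ⟨i, rfl⟩ := mem_zpowers_iff.1 ha
      refine zpow_mem ?_ i
      refine ⟨⟨_, (hS x).1 hxP⟩, mem_center_iff.2 fun ⟨b, hb⟩ => Subtype.ext ?_, rfl⟩
      have hbP : h⁻¹ * b * h ∈ (P : Subgroup G) := (hS _).2 (by simpa [mul_assoc] using hb)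
      rw [hPR] at hbP
      obtain ⟨b', -, hb'⟩ := hbP
      have hc : (b' : G) * x = x * b' := mem_cC.1 b'.2
      rw [show (b' : G) = h⁻¹ * b * h from hb'] at hc
      show b * (h * x * h⁻¹) = h * x * h⁻¹ * b
      calc b * (h * x * h⁻¹) = h * (h⁻¹ * b * h * x) * h⁻¹ := by group
        _ = _ := by rw [hc]; group
  set g' := h⁻¹ * g * h with hg'
  set y := g' * x * g'⁻¹ with hy
  have hyP : y ∈ (P : Subgroup G) := (hS y).2 (by
    have := hng (mem_map_of_mem _ ((hxS _).2 (mem_zpowers _)))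
    rw [MulEquiv.coe_toMonoidHom, MulAut.conj_apply] at this
    rw [hy, hg']
    simpa [mul_assoc] using this)
  have hyn : y ∉ zpowers x := by
    intro hmem
    refine hne (eq_of_le_of_card_ge ?_ ?_)
    · rintro _ ⟨a, ha, rfl⟩
      obtain ⟨i, rfl⟩ := mem_zpowers_iff.1 ((hxS a).1 ha)
      refine (hxS _).2 ?_
      obtain ⟨j, hj⟩ := mem_zpowers_iff.1 hmem
      rw [MulEquiv.coe_toMonoidHom, MulAut.conj_apply, ← conj_zpow]
      refine zpow_mem (mem_zpowers_iff.2 ⟨j, ?_⟩) i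
      rw [conj_zpow, hj, hy, hg']
      group
    · exact le_of_eq (card_map_of_injective (MulAut.conj g).injective).symm
  have hyC : Commute x y := by
    rw [hPR] at hyP
    obtain ⟨y', -, hy'⟩ := hyP
    exact (hy' ▸ (mem_cC.1 y'.2 : Commute (y' : G) x) : Commute y x).symm
  obtain ⟨⟨z, hz⟩, hzo⟩ := exists_prime_orderOf_dvd_card' (G := center C) 2
    (by rw [hcov.six]; norm_num)
  refine ⟨⟨x, z, y, hx, hcov, ?_, ?_, ?_, hyC, hyn, ⟨g', rfl⟩, hsyl⟩, rfl⟩
  · rw [Subgroup.orderOf_coe]; rw [Subgroup.orderOf_mk] at hzo; exact hzo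
  · intro c hc
    exact (congrArg Subtype.val (mem_center_iff.1 hz ⟨c, hc⟩)).symm
  · exact mem_cC.1 z.2

namespace Setup

variable {G : Type u} [Group G] [Finite G] (M : Setup G)

theorem x_cube : M.x ^ 3 = 1 := M.hx ▸ pow_orderOf_eq_one _

theorem y_order : orderOf M.y = 3 := by
  obtain ⟨g, hg⟩ := M.hconj
  rw [← hg, orderOf_conj, M.hx]

theorem y_cube : M.y ^ 3 = 1 := M.y_order ▸ pow_orderOf_eq_one _

/-- `x` inside its centraliser. -/
def xC : cC M.x := ⟨M.x, mem_cC.2 rfl⟩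

theorem xC_center : M.xC ∈ center (cC M.x) := mem_center_iff.2 fun c => Subtype.ext (mem_cC.1 c.2)

theorem xC_order : orderOf M.xC = 3 := by rw [← Subgroup.orderOf_coe]; exact M.hx

theorem le_cen_z : cC M.x ≤ cC M.z := fun c hc => mem_cC.2 (M.hzc c hc).symm

/-- The shift of an element of order three of the centraliser. -/
theorem exists_shift {v : G} (hv : orderOf v = 3) (hvx : Commute v M.x) (hvn : v ∉ zpowers M.x) :
    ∃ s ∈ cC M.x, s * v * s⁻¹ = M.x * v := by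
  obtain ⟨⟨s, hs⟩, e, -⟩ := M.hcov.exists_shift M.xC_center M.xC_order (y := ⟨v, mem_cC.2 hvx⟩)
    (by rw [← Subgroup.orderOf_coe]; exact hv)
    (fun hmem => hvn (by
      obtain ⟨i, hi⟩ := mem_zpowers_iff.1 hmem
      exact mem_zpowers_iff.2 ⟨i, congrArg Subtype.val hi⟩))
  exact ⟨s, hs, congrArg Subtype.val e⟩

/-- An element exchanging the roles of `x` and `y`. -/
theorem exists_swap : ∃ W : G, W * M.x * W⁻¹ = M.y⁻¹ ∧ W * M.y * W⁻¹ = M.x := by
  obtain ⟨g, hg⟩ := M.hconj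
  have hv : orderOf (g⁻¹ * M.x * g) = 3 := by
    have := orderOf_conj g⁻¹ M.x
    rw [inv_inv] at this
    rw [this, M.hx]
  have hcomm : Commute (g⁻¹ * M.x * g) M.x := by
    have h := M.hxy.map (MulAut.conj g⁻¹).toMonoidHom
    simp only [MulEquiv.coe_toMonoidHom, MulAut.conj_apply, inv_inv] at h
    rwa [← hg, show g⁻¹ * (g * M.x * g⁻¹) * g = M.x by group] at h
  have hn : g⁻¹ * M.x * g ∉ zpowers M.x := by
    intro hmem
    have he : zpowers (g⁻¹ * M.x * g) = zpowers M.x :=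
      eq_of_le_of_card_ge (zpowers_le.2 hmem) (by rw [Nat.card_zpowers, Nat.card_zpowers, hv, M.hx])
    obtain ⟨i, hi⟩ := mem_zpowers_iff.1 (he.ge (mem_zpowers M.x))
    refine M.hy ?_
    refine mem_zpowers_iff.2 ⟨i, ?_⟩
    rw [← hg]
    conv_rhs => rw [← hi]
    rw [← conj_zpow, show g * (g⁻¹ * M.x * g) * g⁻¹ = M.x by group]
  obtain ⟨s', hs', es'⟩ := M.exists_shift hv hcomm hn
  set t := g * s' * g⁻¹ with ht
  have hty : t * M.y = M.y * t := by
    rw [ht, ← hg]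
    calc g * s' * g⁻¹ * (g * M.x * g⁻¹) = g * (s' * M.x) * g⁻¹ := by group
      _ = _ := by rw [mem_cC.1 hs']; group
  have htx : t * M.x * t⁻¹ = M.y * M.x := by
    rw [ht, ← hg]
    calc g * s' * g⁻¹ * M.x * (g * s' * g⁻¹)⁻¹ = g * (s' * (g⁻¹ * M.x * g) * s'⁻¹) * g⁻¹ := by group
      _ = _ := by rw [es']; group
  obtain ⟨s, hs, es⟩ := M.exists_shift M.y_order M.hxy.symm M.hy
  have hsx : s * M.x * s⁻¹ = M.x := by rw [mem_cC.1 hs, mul_inv_cancel_right]
  have htx' : t⁻¹ * M.x * t = M.y⁻¹ * M.x := by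
    have h1 : M.x = M.y⁻¹ * (t * M.x * t⁻¹) := by rw [htx]; group
    have h2 : t⁻¹ * M.y⁻¹ = M.y⁻¹ * t⁻¹ := by
      rw [← mul_inv_rev, ← mul_inv_rev, hty]
    conv_lhs => rw [h1]
    calc t⁻¹ * (M.y⁻¹ * (t * M.x * t⁻¹)) * t = t⁻¹ * M.y⁻¹ * t * M.x := by group
      _ = _ := by rw [h2]; group
  have hty' : t⁻¹ * M.y * t = M.y := by rw [mul_assoc, ← hty, inv_mul_cancel_left]
  refine ⟨s * t⁻¹ * s, ?_, ?_⟩
  · calc s * t⁻¹ * s * M.x * (s * t⁻¹ * s)⁻¹ = s * (t⁻¹ * (s * M.x * s⁻¹) * t) * s⁻¹ := by group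
      _ = s * (M.y⁻¹ * M.x) * s⁻¹ := by rw [hsx, htx']
      _ = (s * M.y * s⁻¹)⁻¹ * (s * M.x * s⁻¹) := by group
      _ = _ := by rw [es, hsx, mul_inv_rev, inv_mul_cancel_right]
  · calc s * t⁻¹ * s * M.y * (s * t⁻¹ * s)⁻¹ = s * (t⁻¹ * (s * M.y * s⁻¹) * t) * s⁻¹ := by group
      _ = s * (t⁻¹ * M.x * t * (t⁻¹ * M.y * t)) * s⁻¹ := by rw [es]; group
      _ = s * M.x * s⁻¹ := by
        rw [htx', hty', show M.y⁻¹ * M.x * M.y = M.x by rw [mul_assoc, M.hxy.eq, inv_mul_cancel_left]]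
      _ = M.x := hsx

/-- The involution of the centre is the only one. -/
theorem z_unique {a : G} (ha : a ∈ cC M.x) (hc : ∀ c ∈ cC M.x, Commute a c) (h2 : a ^ 2 = 1) :
    a ∈ zpowers M.z := by
  have hzm : M.z ∈ cC M.x := mem_cC.2 M.hzx
  have := M.hcov.center_prime (a := ⟨M.z, hzm⟩) (b := ⟨a, ha⟩) Nat.prime_two
    (mem_center_iff.2 fun c => Subtype.ext (M.hzc c c.2).eq.symm)
    (by rw [← Subgroup.orderOf_coe]; exact M.hz)
    (mem_center_iff.2 fun c => Subtype.ext (hc c c.2).eq.symm) (Subtype.ext h2)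
  obtain ⟨i, hi⟩ := mem_zpowers_iff.1 this
  exact mem_zpowers_iff.2 ⟨i, congrArg Subtype.val hi⟩

/-- An element of `C(z)` inverting both `x` and `y`. -/
theorem exists_inverter : ∃ w ∈ cC M.z, w * M.x * w⁻¹ = M.x⁻¹ ∧ w * M.y * w⁻¹ = M.y⁻¹ := by
  obtain ⟨W, hWx, hWy⟩ := M.exists_swap
  have hwx : W * W * M.x * (W * W)⁻¹ = M.x⁻¹ := by
    calc W * W * M.x * (W * W)⁻¹ = W * (W * M.x * W⁻¹) * W⁻¹ := by group
      _ = (W * M.y * W⁻¹)⁻¹ := by rw [hWx]; group
      _ = _ := by rw [hWy]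
  refine ⟨W * W, ?_, hwx, ?_⟩
  · have hnorm : ∀ c, c ∈ cC M.x → (W * W)⁻¹ * c * (W * W) ∈ cC M.x := fun c hc => by
      rw [mem_cC] at hc ⊢
      have hx2 : (W * W)⁻¹ * M.x * (W * W) = M.x⁻¹ := by
        have e := congrArg (fun q => (W * W)⁻¹ * q⁻¹ * (W * W)) hwx
        simpa [mul_assoc] using e.symm
      have h := hc.inv_right.map (MulAut.conj (W * W)⁻¹).toMonoidHom
      simp only [MulEquiv.coe_toMonoidHom, MulAut.conj_apply, inv_inv] at h
      generalize W * W = v at h hx2 ⊢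
      rw [show v⁻¹ * M.x⁻¹ * v = (v⁻¹ * M.x * v)⁻¹ by group, hx2, inv_inv] at h
      exact h
    set a := W * W * M.z * (W * W)⁻¹ with ha
    have hac : ∀ c ∈ cC M.x, Commute a c := fun c hc => by
      have h := (M.hzc _ (hnorm c hc)).map (MulAut.conj (W * W)).toMonoidHom
      simp only [MulEquiv.coe_toMonoidHom, MulAut.conj_apply] at h
      rwa [show W * W * ((W * W)⁻¹ * c * (W * W)) * (W * W)⁻¹ = c by group] at h
    have hax : a ∈ cC M.x := mem_cC.2 (hac _ (mem_cC.2 rfl))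
    have hao : orderOf a = 2 := by rw [ha, orderOf_conj, M.hz]
    obtain ⟨i, hi⟩ := mem_zpowers_iff.1 (M.z_unique hax hac (by rw [← hao, pow_orderOf_eq_one]))
    rw [← zpow_mod_orderOf, M.hz] at hi
    rcases Int.emod_two_eq_zero_or_one i with e | e
    · exfalso
      have : a = 1 := by rw [← hi]; norm_num [e]
      rw [this, orderOf_one] at hao
      omega
    · have : a = M.z := by rw [← hi]; norm_num [e]
      exact mem_cC.2 (mul_inv_eq_iff_eq_mul.1 (ha ▸ this))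
  · calc W * W * M.y * (W * W)⁻¹ = W * (W * M.y * W⁻¹) * W⁻¹ := by group
      _ = _ := by rw [hWy, hWx]

end Setup

end CfsgLib.J4Cover
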