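import Mathlib

/-!
A finite lemma on `GL₄(2)` used for `S3317`: the interplay of a fixed-point-free automorphism `x`
of order 3 of an elementary abelian group of order 16, an automorphism `y` of order 3 commuting
with it and with a fixed subgroup of order 4, and an arbitrary conjugate of `x`.
-/

namespace CfsgLib.J4Cover

open Subgroup

/-- the image of the bit vector `n` under the linear map with column code `m` -/
def glAct (m n : ℕ) : ℕ :=
  (cond (n.testBit 0) (m % 16) 0) ^^^ (cond (n.testBit 1) (m / 16 % 16) 0) ^^^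
    (cond (n.testBit 2) (m / 256 % 16) 0) ^^^ (cond (n.testBit 3) (m / 4096 % 16) 0)

/-- composition of column codes -/
def glComp (f g : ℕ) : ℕ :=
  glAct f (g % 16) + 16 * glAct f (g / 16 % 16) + 256 * glAct f (g / 256 % 16) +
    4096 * glAct f (g / 4096 % 16)

/-- code of a word in the three generators -/
def glWord (m : ℕ) : List ℕ → ℕ
  | [] => 33825
  | a :: l => glComp (match a with | 0 => 51250 | 1 => 51233 | _ => m) (glWord m l)

/-- value of a word in the three generators -/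
def glVal {G : Type*} [Group G] (x y z : G) : List ℕ → G
  | [] => 1
  | a :: l => (match a with | 0 => x | 1 => y | _ => z) * glVal x y z l

/-- certificates: code, kind, word, second word -/
def glTable : List (ℕ × ℕ × List ℕ × List ℕ) :=
[
  (4713, 2, [0,2,0,2,2], [2,0,2,2,0]),
  (5097, 0, [2,1,2,1], []),
  (5705, 0, [2,1,2,2,1], []),
  (6105, 0, [2,0,1], []),
  (6905, 0, [2,1,2,0,1], []),
  (7033, 0, [2,0,1,2,0,1], []),
  (7769, 0, [2,2,1,2,1], []),
  (8137, 0, [2,2,0,1], []),
  (8613, 0, [2,1,2,1], []),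
  (9133, 2, [0,2,0,2,2], [2,0,2,2,0]),
  (9636, 0, [2,0,1], []),
  (10158, 0, [2,1,2,2,1], []),
  (10671, 0, [2,0,1,2,0,1], []),
  (11175, 0, [2,1,2,0,1], []),
  (11686, 0, [2,2,0,1], []),
  (12204, 0, [2,2,1,2,1], []),
  (12773, 2, [0,2,0,2,2], [2,0,2,2,0]),
  (12909, 0, [2,1,2,1], []),
  (13812, 0, [2,1,2,2,1], []),
  (13903, 0, [2,0,1], []),
  (14686, 0, [2,1,2,0,1], []),
  (15062, 0, [2,0,1,2,0,1], []),
  (15815, 0, [2,2,1,2,1], []),
  (15996, 0, [2,2,0,1], []),
  (19506, 0, [], []),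
  (19547, 2, [0,2], [2,0]),
  (19582, 0, [2,1], []),
  (19615, 2, [0,2], [2,0]),
  (19638, 0, [2,1], []),
  (19671, 2, [0,2], [2,0]),
  (19706, 0, [2,1], []),
  (21103, 0, [2,1,2,0,1], []),
  (21406, 0, [2,0,1,2,0,1], []),
  (22091, 0, [2,2,1,2,1], []),
  (22506, 0, [2,2,0,1], []),
  (23223, 0, [2,0,1,2,0,1], []),
  (23494, 0, [2,1,2,0,1], []),
  (24083, 2, [0,2], [2,0]),
  (24370, 0, [2,1], []),
  (25077, 0, [2,0,1,2,0,1], []),
  (25562, 0, [2,1,2,0,1], []),
  (26036, 0, [2,2,0,1], []),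
  (26525, 0, [2,2,1,2,1], []),
  (27003, 0, [2,1,2,0,1], []),
  (27484, 0, [2,0,1,2,0,1], []),
  (27954, 0, [2,1], []),
  (28435, 2, [0,2], [2,0]),
  (29109, 0, [2,1,2,0,1], []),
  (29291, 0, [2,0,1,2,0,1], []),
  (30180, 0, [2,2,1,2,1], []),
  (30285, 0, [2,2,0,1], []),
  (31178, 0, [2,0,1,2,0,1], []),
  (31388, 0, [2,1,2,0,1], []),
  (32019, 2, [0,2], [2,0]),
  (32306, 0, [2,1], []),
  (37480, 0, [2,2,1,2,1], []),
  (37880, 0, [2,2,0,1], []),
  (38472, 2, [0,2,0,2,2], [2,0,2,2,0]),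
  (38856, 0, [2,1,2,1], []),
  (39544, 0, [2,1,2,2,1], []),
  (39912, 0, [2,0,1], []),
  (40664, 0, [2,0,1,2,0,1], []),
  (40792, 0, [2,1,2,0,1], []),
  (41349, 0, [2,2,0,1], []),
  (41871, 0, [2,2,1,2,1], []),
  (42372, 0, [2,1,2,1], []),
  (42892, 2, [0,2,0,2,2], [2,0,2,2,0]),
  (43399, 0, [2,0,1], []),
  (43917, 0, [2,1,2,2,1], []),
  (44430, 0, [2,1,2,0,1], []),
  (44934, 0, [2,0,1,2,0,1], []),
  (45525, 0, [2,2,1,2,1], []),
  (45678, 0, [2,2,0,1], []),
  (46532, 2, [0,2,0,2,2], [2,0,2,2,0]),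
  (46668, 0, [2,1,2,1], []),
  (47590, 0, [2,1,2,2,1], []),
  (47709, 0, [2,0,1], []),
  (48511, 0, [2,0,1,2,0,1], []),
  (48887, 0, [2,1,2,0,1], []),
  (51219, 0, [], []),
  (51295, 0, [2,1,1], []),
  (51322, 2, [0,0,2], [0,2,0]),
  (51351, 0, [2,1,1], []),
  (51390, 2, [0,0,2], [0,2,0]),
  (51419, 0, [2,1,1], []),
  (51446, 2, [0,0,2], [0,2,0]),
  (53866, 0, [2,1,2,2,1], []),
  (54219, 0, [2,0,1], []),
  (54862, 0, [2,0,1,2,0,1], []),
  (55231, 0, [2,1,2,0,1], []),
  (55858, 2, [0,0,2], [0,2,0]),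
  (56083, 0, [2,1,1], []),
  (56982, 0, [2,1,2,0,1], []),
  (57319, 0, [2,0,1,2,0,1], []),
  (57749, 0, [2,0,1], []),
  (58300, 0, [2,1,2,2,1], []),
  (58836, 0, [2,1,2,0,1], []),
  (59387, 0, [2,0,1,2,0,1], []),
  (59667, 0, [2,1,1], []),
  (60210, 2, [0,0,2], [0,2,0]),
  (60762, 0, [2,0,1,2,0,1], []),
  (61309, 0, [2,1,2,0,1], []),
  (61893, 0, [2,1,2,2,1], []),
  (62060, 0, [2,0,1], []),
  (62868, 0, [2,0,1,2,0,1], []),
  (63050, 0, [2,1,2,0,1], []),
  (63794, 2, [0,0,2], [0,2,0]),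
  (64019, 0, [2,1,1], []),
  (65003, 0, [2,1,2,0,1], []),
  (65213, 0, [2,0,1,2,0,1], [])
]

/-- validity of a certificate -/
def glCert : ℕ × ℕ × List ℕ × List ℕ → Bool
  | (m, 0, u, _) =>
      let h := glWord m u
      glComp h m == glComp 19506 h || glComp h m == glComp 51219 h
  | (m, _, u, v) =>
      let a := glWord m u
      let b := glWord m v
      let c := glComp a b
      glComp a a == 33825 && glComp b b == 33825 && glComp b a == c && a != 33825 &&
        b != 33825 && a != b && glComp 51250 a != glComp a 51250 &&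
        [51250, 51233].all fun k => [a, b].all fun s =>
          glComp k s == glComp a k || glComp k s == glComp b k || glComp k s == glComp c k

/-- necessary condition on the code of a fixed-point-free map of order 3 -/
def glCand (m : ℕ) : Bool :=
  glAct m (m % 16) == m % 16 ^^^ 1 && glAct m (m / 16 % 16) == m / 16 % 16 ^^^ 2 &&
    glAct m (m / 256 % 16) == m / 256 % 16 ^^^ 4 &&
    glAct m (m / 4096 % 16) == m / 4096 % 16 ^^^ 8

/-- a candidate is `X`, `X²` or has a certificate -/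
def glDone (m : ℕ) : Bool :=
  cond (glCand m) (m == 51250 || m == 19475 || glTable.any fun e => e.1 == m && glCert e) true

/-- bounded universal check by halving -/
def glBelow (f : ℕ → Bool) : ℕ → ℕ → Bool
  | 0, o => f o
  | k + 1, o => glBelow f k o && glBelow f k (o + 2 ^ k)

theorem glBelow_spec (f : ℕ → Bool) : ∀ k o, glBelow f k o = true →
    ∀ n, o ≤ n → n < o + 2 ^ k → f n = true := by
  intro k
  induction k with
  | zero =>
      intro o h n h1 h2
      simp [glBelow] at h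
      rw [show n = o by simp at h2; omega]; exact h
  | succ k ih =>
      intro o h n h1 h2
      simp only [glBelow, Bool.and_eq_true] at h
      rw [pow_succ] at h2
      by_cases hn : n < o + 2 ^ k
      · exact ih o h.1 n h1 hn
      · exact ih _ h.2 n (by omega) (by omega)

theorem glDone_check : glBelow glDone 16 0 = true := by decide +kernel

theorem glDone_all (m : ℕ) (hm : m < 65536) : glDone m = true :=
  glBelow_spec _ 16 0 glDone_check m (Nat.zero_le _) (by simpa using hm)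

theorem glAct_lt (m n : ℕ) : glAct m n < 16 := by
  have h : ∀ (b : Bool) (r : ℕ), cond b (r % 16) 0 < 2 ^ 4 := by
    intro b r; cases b <;> simp <;> omega
  exact Nat.xor_lt_two_pow (Nat.xor_lt_two_pow (Nat.xor_lt_two_pow (h _ _) (h _ _)) (h _ _)) (h _ _)

section core

variable {W : Type*} [CommGroup W] [Finite W]

/-- the coordinates -/
def glPhi (a b c d : W) (n : ℕ) : W :=
  cond (n.testBit 0) a 1 * cond (n.testBit 1) b 1 * (cond (n.testBit 2) c 1 * cond (n.testBit 3) d 1)

omit [Finite W] in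
theorem glPhi_xor {a b c d : W} (h2 : ∀ w : W, w ^ 2 = 1) (m n : ℕ) :
    glPhi a b c d (m ^^^ n) = glPhi a b c d m * glPhi a b c d n := by
  have h : ∀ (p q : Bool) (r : W), cond (p ^^ q) r 1 = cond p r 1 * cond q r 1 := by
    intro p q r
    have := h2 r; rw [sq] at this
    cases p <;> cases q <;> simp [this]
  simp only [glPhi, Nat.testBit_xor, h]
  ac_rfl

omit [Finite W] in
theorem glPhi_zero (a b c d : W) : glPhi a b c d 0 = 1 := by simp [glPhi]

/-- `f` acts as the code `m` -/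
def GlMdl (φ : ℕ → W) (f : MulAut W) (m : ℕ) : Prop :=
  m < 65536 ∧ ∀ n < 16, f (φ n) = φ (glAct m n)

theorem glFour_core (hW : Nat.card W = 16) (h2 : ∀ w : W, w ^ 2 = 1) (x y g : MulAut W)
    (hx3 : x ^ 3 = 1) (hxfix : ∀ w, x w = w → w = 1) (hxy : Commute x y)
    (w1 t : W) (hw1 : w1 ≠ 1) (hyw1 : y w1 = w1) (ht : t ≠ 1) (hyt : y t = x t)
    (hne : g * x * g⁻¹ ∉ zpowers x)
    (K K2 : Subgroup (MulAut W)) (hxK : x ∈ K) (hyK : y ∈ K) (hgK : g ∈ K) (hxK2 : x ∈ K2)
    (hyK2 : y ∈ K2) :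
    (∃ h ∈ K, h * x * h⁻¹ ∈ K2 ∧ h * x * h⁻¹ ∉ zpowers x) ∨
    (∃ U ≤ K, Nat.card U = 4 ∧ (∀ u ∈ U, u ^ 2 = 1) ∧ (∀ u ∈ U, x * u * x⁻¹ ∈ U) ∧
      (∀ u ∈ U, y * u * y⁻¹ ∈ U) ∧ ∃ u ∈ U, x * u ≠ u * x) := by
  have hinv : ∀ w : W, w * w = 1 := fun w => by rw [← sq]; exact h2 w
  have hinj : ∀ a b : W, a * b = 1 → a = b := fun a b h =>
    mul_right_cancel (h.trans (hinv b).symm)
  have hfpf : ∀ f : MulAut W, f ^ 3 = 1 → (∀ w, f w = w → w = 1) →
      ∀ w, f (f w) = f w * w := by
    intro f hf hfx w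
    have h3 : f (f (f w)) = w := by
      have := DFunLike.congr_fun hf w
      simpa [pow_succ] using this
    refine hinj _ _ ?_
    apply hfx
    rw [map_mul, map_mul, h3]
    ac_rfl
  have hxx : ∀ w, x (x w) = x w * w := hfpf x hx3 hxfix
  have hxyw : ∀ w, x (y w) = y (x w) := fun w => DFunLike.congr_fun hxy.eq w
  have hind : ∀ (c : W), c ≠ 1 → ∀ p q : Bool, cond p c 1 * cond q (x c) 1 = 1 →
      p = false ∧ q = false := by
    intro c hc p q h
    cases p <;> cases q <;> simp at h ⊢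
    · exact hc h
    · exact hc h
    · exact hc (hxfix c (hinj _ _ h).symm)
  set φ : ℕ → W := glPhi w1 (x w1) t (x t) with hφ
  have hadd : ∀ m n, φ (m ^^^ n) = φ m * φ n := glPhi_xor h2
  have hφ0 : φ 0 = 1 := glPhi_zero _ _ _ _
  have hker : ∀ n < 16, φ n = 1 → n = 0 := by
    intro n hn h
    rw [hφ, glPhi] at h
    have e : cond (n.testBit 0) w1 1 * cond (n.testBit 1) (x w1) 1 =
        cond (n.testBit 2) t 1 * cond (n.testBit 3) (x t) 1 := hinj _ _ h
    have hyC : y (cond (n.testBit 0) w1 1 * cond (n.testBit 1) (x w1) 1) =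
        cond (n.testBit 0) w1 1 * cond (n.testBit 1) (x w1) 1 := by
      cases n.testBit 0 <;> cases n.testBit 1 <;> simp [map_mul, hyw1, ← hxyw]
    have hyT : y (cond (n.testBit 2) t 1 * cond (n.testBit 3) (x t) 1) =
        x (cond (n.testBit 2) t 1 * cond (n.testBit 3) (x t) 1) := by
      cases n.testBit 2 <;> cases n.testBit 3 <;> simp [map_mul, hyt, ← hxyw]
    rw [e, hyT] at hyC
    have e2 := hxfix _ hyC
    obtain ⟨b2, b3⟩ := hind t ht _ _ e2
    obtain ⟨b0, b1⟩ := hind w1 hw1 _ _ (e.trans e2)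
    apply Nat.eq_of_testBit_eq
    intro i
    rw [Nat.zero_testBit]
    match i with
    | 0 => exact b0
    | 1 => exact b1
    | 2 => exact b2
    | 3 => exact b3
    | j + 4 => exact Nat.testBit_lt_two_pow (lt_of_lt_of_le hn
        (Nat.pow_le_pow_right (by omega : 2 > 0) (by omega : 4 ≤ j + 4)))
  have hφinj : ∀ m < 16, ∀ n < 16, φ m = φ n → m = n := by
    intro m hm n hn h
    have : φ (m ^^^ n) = 1 := by rw [hadd, h, hinv]
    exact Nat.xor_eq_zero_iff.mp (hker _ (Nat.xor_lt_two_pow (n := 4) hm hn) this)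
  have hbij : Function.Bijective (fun i : Fin 16 => φ i.1) :=
    (Nat.bijective_iff_injective_and_card _).mpr
      ⟨fun a b h => Fin.ext (hφinj _ a.2 _ b.2 h), by simp [hW]⟩
  have hsurj : ∀ w, ∃ n < 16, φ n = w := fun w => by
    obtain ⟨i, hi⟩ := hbij.2 w; exact ⟨i.1, i.2, hi⟩
  -- models
  have hbasis : ∀ (f : MulAut W) (m : ℕ), m < 65536 →
      f (φ 1) = φ (m % 16) → f (φ 2) = φ (m / 16 % 16) → f (φ 4) = φ (m / 256 % 16) →
      f (φ 8) = φ (m / 4096 % 16) → GlMdl φ f m := by
    intro f m hm e0 e1 e2 e3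
    refine ⟨hm, fun n _ => ?_⟩
    have hc : ∀ (b : Bool) (r : ℕ) (a : W), f a = φ r → f (cond b a 1) = φ (cond b r 0) := by
      intro b r a h; cases b <;> simp [h, hφ0]
    have p1 : φ 1 = w1 := by simp [hφ, glPhi, Nat.testBit, Nat.shiftRight_eq_div_pow]
    have p2 : φ 2 = x w1 := by simp [hφ, glPhi, Nat.testBit, Nat.shiftRight_eq_div_pow]
    have p4 : φ 4 = t := by simp [hφ, glPhi, Nat.testBit, Nat.shiftRight_eq_div_pow]
    have p8 : φ 8 = x t := by simp [hφ, glPhi, Nat.testBit, Nat.shiftRight_eq_div_pow]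
    rw [p1] at e0; rw [p2] at e1; rw [p4] at e2; rw [p8] at e3
    unfold glAct
    rw [hadd, hadd, hadd, ← hc _ _ _ e0, ← hc _ _ _ e1, ← hc _ _ _ e2, ← hc _ _ _ e3]
    rw [← map_mul, ← map_mul, ← map_mul]
    congr 1
    rw [hφ, glPhi, mul_assoc _ (cond (n.testBit 2) t 1)]
  have hcode : ∀ f : MulAut W, ∃ m, GlMdl φ f m := by
    intro f
    obtain ⟨a, ha, ea⟩ := hsurj (f (φ 1))
    obtain ⟨b, hb, eb⟩ := hsurj (f (φ 2))
    obtain ⟨c, hc, ec⟩ := hsurj (f (φ 4))
    obtain ⟨d, hd, ed⟩ := hsurj (f (φ 8))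
    refine ⟨a + 16 * b + 256 * c + 4096 * d, hbasis f _ (by omega) ?_ ?_ ?_ ?_⟩
    · rw [← ea]; congr 1; omega
    · rw [← eb]; congr 1; omega
    · rw [← ec]; congr 1; omega
    · rw [← ed]; congr 1; omega
  have hmul : ∀ {a b : MulAut W} {m n : ℕ}, GlMdl φ a m → GlMdl φ b n →
      GlMdl φ (a * b) (glComp m n) := by
    intro a b m n ha hb
    have l := fun k => glAct_lt m k
    have := l (n % 16); have := l (n / 16 % 16); have := l (n / 256 % 16)
    have := l (n / 4096 % 16)
    have hc : ∀ e < 16, ∀ r, glAct n e = r → (a * b) (φ e) = φ (glAct m r) := by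
      intro e he r hr
      rw [MulAut.mul_apply, hb.2 e he, hr, ha.2 r (hr ▸ glAct_lt n e)]
    refine hbasis _ _ (by unfold glComp; omega) ?_ ?_ ?_ ?_
    · rw [hc 1 (by omega) (n % 16) (by simp [glAct, Nat.testBit, Nat.shiftRight_eq_div_pow])]
      congr 1; unfold glComp; omega
    · rw [hc 2 (by omega) (n / 16 % 16) (by simp [glAct, Nat.testBit, Nat.shiftRight_eq_div_pow])]
      congr 1; unfold glComp; omega
    · rw [hc 4 (by omega) (n / 256 % 16) (by simp [glAct, Nat.testBit, Nat.shiftRight_eq_div_pow])]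
      congr 1; unfold glComp; omega
    · rw [hc 8 (by omega) (n / 4096 % 16) (by simp [glAct, Nat.testBit, Nat.shiftRight_eq_div_pow])]
      congr 1; unfold glComp; omega
  have heq : ∀ {a b : MulAut W} {m : ℕ}, GlMdl φ a m → GlMdl φ b m → a = b := by
    intro a b m ha hb
    refine MulEquiv.ext fun w => ?_
    obtain ⟨n, hn, rfl⟩ := hsurj w
    rw [ha.2 n hn, hb.2 n hn]
  have huniq : ∀ {a : MulAut W} {m n : ℕ}, GlMdl φ a m → GlMdl φ a n → m = n := by
    intro a m n ha hb
    have h : ∀ e < 16, glAct m e = glAct n e := fun e he =>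
      hφinj _ (glAct_lt _ _) _ (glAct_lt _ _) ((ha.2 e he).symm.trans (hb.2 e he))
    have h0 := h 1 (by omega); have h1 := h 2 (by omega); have h3 := h 4 (by omega)
    have h4 := h 8 (by omega)
    simp [glAct, Nat.testBit, Nat.shiftRight_eq_div_pow] at h0 h1 h3 h4
    have := ha.1; have := hb.1
    omega
  have M1 : GlMdl φ 1 33825 := by
    refine hbasis _ _ (by omega) ?_ ?_ ?_ ?_ <;> simp
  have MX : GlMdl φ x 51250 := by
    refine hbasis _ _ (by omega) ?_ ?_ ?_ ?_ <;>
      simp [hφ, glPhi, Nat.testBit, Nat.shiftRight_eq_div_pow, hxx, mul_comm]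
  have MY : GlMdl φ y 51233 := by
    refine hbasis _ _ (by omega) ?_ ?_ ?_ ?_ <;>
      simp [hφ, glPhi, Nat.testBit, Nat.shiftRight_eq_div_pow, hxx, hyw1, hyt, ← hxyw, mul_comm]
  have MX2 : GlMdl φ (x * x) 19475 := by
    have := hmul MX MX
    rwa [show glComp 51250 51250 = 19475 by decide +kernel] at this
  have MT1 : GlMdl φ (x * y) 19506 := by
    have := hmul MX MY
    rwa [show glComp 51250 51233 = 19506 by decide +kernel] at this
  have MT2 : GlMdl φ (x * y * (x * y)) 51219 := by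
    have := hmul MT1 MT1
    rwa [show glComp 19506 19506 = 51219 by decide +kernel] at this
  have hzp : ∀ {a : MulAut W} {m : ℕ}, GlMdl φ a m → m ≠ 33825 → m ≠ 51250 → m ≠ 19475 →
      a ∉ zpowers x := by
    intro a m ha e1 e2 e3 hz
    obtain ⟨k, hk⟩ := Subgroup.mem_zpowers_iff.mp hz
    have hk' : x ^ k = x ^ (k % 3) := zpow_eq_zpow_emod' k hx3
    have : k % 3 = 0 ∨ k % 3 = 1 ∨ k % 3 = 2 := by omega
    rcases this with h | h | h <;> rw [h] at hk' <;> rw [hk'] at hk <;> subst hk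
    · exact e1 (huniq ha (by simpa using M1))
    · exact e2 (huniq ha (by simpa using MX))
    · exact e3 (huniq ha (by rw [zpow_two]; exact MX2))
  -- the candidate
  set x1 : MulAut W := g * x * g⁻¹ with hx1
  obtain ⟨m, hm⟩ := hcode x1
  have hx13 : x1 ^ 3 = 1 := by rw [hx1, conj_pow, hx3]; simp
  have hx1f : ∀ w, x1 w = w → w = 1 := by
    intro w hw
    have : x (g⁻¹ w) = g⁻¹ w := by
      have := congrArg (⇑(g⁻¹)) hw
      simpa [hx1] using this
    have := hxfix _ this
    simpa using this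
  have hcand : glCand m = true := by
    have hh := hfpf x1 hx13 hx1f
    have h : ∀ e < 16, glAct m (glAct m e) = glAct m e ^^^ e := by
      intro e he
      refine hφinj _ (glAct_lt _ _) _ (Nat.xor_lt_two_pow (n := 4) (glAct_lt _ _) he) ?_
      rw [hadd, ← hm.2 _ (glAct_lt _ _), ← hm.2 e he, hh]
    have h0 := h 1 (by omega); have h1 := h 2 (by omega); have h3 := h 4 (by omega)
    have h4 := h 8 (by omega)
    have f0 : glAct m 1 = m % 16 := by simp [glAct, Nat.testBit, Nat.shiftRight_eq_div_pow]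
    have f1 : glAct m 2 = m / 16 % 16 := by simp [glAct, Nat.testBit, Nat.shiftRight_eq_div_pow]
    have f2 : glAct m 4 = m / 256 % 16 := by simp [glAct, Nat.testBit, Nat.shiftRight_eq_div_pow]
    have f3 : glAct m 8 = m / 4096 % 16 := by simp [glAct, Nat.testBit, Nat.shiftRight_eq_div_pow]
    rw [f0] at h0; rw [f1] at h1; rw [f2] at h3; rw [f3] at h4
    simp [glCand, h0, h1, h3, h4]
  have hd := glDone_all m hm.1
  rw [glDone, hcand] at hd
  simp only [cond_true, Bool.or_eq_true, beq_iff_eq, List.any_eq_true, Bool.and_eq_true] at hd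
  rcases hd with (hd | hd) | ⟨e, -, he, hcert⟩
  · subst hd; exact absurd (heq hm MX ▸ mem_zpowers x) hne
  · subst hd; exact absurd (heq hm MX2 ▸ mul_mem (mem_zpowers x) (mem_zpowers x)) hne
  obtain ⟨m', kind, u, v⟩ := e
  simp only at he
  subst he
  have hword : ∀ l, GlMdl φ (glVal x y x1 l) (glWord m' l) ∧ glVal x y x1 l ∈ K := by
    intro l
    induction l with
    | nil => exact ⟨M1, one_mem K⟩
    | cons a l ih =>
        match a with
        | 0 => exact ⟨hmul MX ih.1, mul_mem hxK ih.2⟩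
        | 1 => exact ⟨hmul MY ih.1, mul_mem hyK ih.2⟩
        | _ + 2 => exact ⟨hmul hm ih.1, mul_mem
            (mul_mem (mul_mem hgK hxK) (inv_mem hgK)) ih.2⟩
  match kind with
  | 0 =>
      left
      simp only [glCert, Bool.or_eq_true, beq_iff_eq] at hcert
      obtain ⟨Mh, hhK⟩ := hword u
      set a := glVal x y x1 u with ha
      refine ⟨a * g, mul_mem hhK hgK, ?_⟩
      have key : ∀ (T : MulAut W) (k : ℕ), GlMdl φ T k → T ∈ K2 → k ≠ 33825 → k ≠ 51250 →
          k ≠ 19475 → glComp (glWord m' u) m' = glComp k (glWord m' u) →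
          a * g * x * (a * g)⁻¹ ∈ K2 ∧ a * g * x * (a * g)⁻¹ ∉ zpowers x := by
        intro T k hT hTK e1 e2 e3 hk
        have h5 : a * x1 = T * a := heq (hk ▸ hmul Mh hm) (hmul hT Mh)
        have h6 : a * g * x * (a * g)⁻¹ = T := by
          rw [mul_inv_rev, ← mul_inv_cancel_right T a, ← h5, hx1]; group
        rw [h6]; exact ⟨hTK, hzp hT e1 e2 e3⟩
      rcases hcert with h | h
      · exact key _ _ MT1 (mul_mem hxK2 hyK2) (by omega) (by omega) (by omega) h
      · exact key _ _ MT2 (mul_mem (mul_mem hxK2 hyK2) (mul_mem hxK2 hyK2))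
          (by omega) (by omega) (by omega) h
  | k + 1 =>
      right
      simp only [glCert, Bool.and_eq_true, Bool.or_eq_true, beq_iff_eq, bne_iff_ne,
        List.all_cons, List.all_nil, Bool.and_true, ne_eq] at hcert
      obtain ⟨Ma, haK⟩ := hword u
      obtain ⟨Mb, hbK⟩ := hword v
      set a := glVal x y x1 u
      set b := glVal x y x1 v
      obtain ⟨⟨⟨⟨⟨⟨⟨caa, cbb⟩, cba⟩, ca1⟩, cb1⟩, cab⟩, cxa⟩, ⟨cXa, cXb⟩, cYa, cYb⟩ := hcert
      have haa : a * a = 1 := heq (caa ▸ hmul Ma Ma) M1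
      have hbb : b * b = 1 := heq (cbb ▸ hmul Mb Mb) M1
      have hba : b * a = a * b := heq (cba ▸ hmul Mb Ma) (hmul Ma Mb)
      have ha1 : a ≠ 1 := fun h => ca1 (huniq Ma (h ▸ M1))
      have hb1 : b ≠ 1 := fun h => cb1 (huniq Mb (h ▸ M1))
      have hab : a ≠ b := fun h => cab (huniq Ma (h ▸ Mb))
      have hxa : x * a ≠ a * x := fun h => cxa (huniq (h ▸ hmul MX Ma) (hmul Ma MX))
      let U : Subgroup (MulAut W) :=
        { carrier := {1, a, b, a * b}
          one_mem' := by simp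
          mul_mem' := by
            have r1 : ∀ z, a * (a * z) = z := fun z => by rw [← mul_assoc, haa, one_mul]
            have r3 : ∀ z, b * (a * z) = a * (b * z) := fun z => by
              rw [← mul_assoc, hba, mul_assoc]
            intro p q hp hq
            rcases hp with rfl | rfl | rfl | rfl <;> rcases hq with rfl | rfl | rfl | rfl <;>
              simp [mul_assoc, haa, hbb, hba, r1, r3]
          inv_mem' := by
            have r : (a * b)⁻¹ = a * b := by
              rw [mul_inv_rev, inv_eq_of_mul_eq_one_left haa, inv_eq_of_mul_eq_one_left hbb, hba]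
            intro p hp
            rcases hp with rfl | rfl | rfl | rfl <;>
              simp [r, inv_eq_of_mul_eq_one_left haa, inv_eq_of_mul_eq_one_left hbb] }
      have hU : ∀ p, p ∈ U ↔ p = 1 ∨ p = a ∨ p = b ∨ p = a * b := fun p => Iff.rfl
      have hUa : a ∈ U := (hU a).mpr (by simp)
      have hUb : b ∈ U := (hU b).mpr (by simp)
      have hnorm : ∀ (z : MulAut W) (c : ℕ), GlMdl φ z c →
          ∀ (s : MulAut W) (r : ℕ), GlMdl φ s r →
          ((glComp c r = glComp (glWord m' u) c ∨ glComp c r = glComp (glWord m' v) c) ∨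
            glComp c r = glComp (glComp (glWord m' u) (glWord m' v)) c) →
          z * s * z⁻¹ ∈ U := by
        intro z c hz s r hs h
        rcases h with (h | h) | h
        · have e : z * s = a * z := heq (h ▸ hmul hz hs) (hmul Ma hz)
          rw [e, mul_inv_cancel_right]; exact hUa
        · have e : z * s = b * z := heq (h ▸ hmul hz hs) (hmul Mb hz)
          rw [e, mul_inv_cancel_right]; exact hUb
        · have e : z * s = a * b * z := heq (h ▸ hmul hz hs) (hmul (hmul Ma Mb) hz)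
          rw [e, mul_inv_cancel_right]; exact mul_mem hUa hUb
      have hall : ∀ z : MulAut W, z * a * z⁻¹ ∈ U → z * b * z⁻¹ ∈ U →
          ∀ p ∈ U, z * p * z⁻¹ ∈ U := by
        intro z za zb p hp
        rcases (hU p).mp hp with rfl | rfl | rfl | rfl
        · simp
        · exact za
        · exact zb
        · rw [← conj_mul]; exact mul_mem za zb
      refine ⟨U, ?_, ?_, ?_, ?_, ?_, a, hUa, hxa⟩
      · intro p hp
        rcases (hU p).mp hp with rfl | rfl | rfl | rfl
        exacts [one_mem K, haK, hbK, mul_mem haK hbK]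
      · classical
          rw [← SetLike.coe_sort_coe, Nat.card_coe_set_eq]
          rw [show ((U : Set (MulAut W))) = (↑({1, a, b, a * b} : Finset (MulAut W))) by
            ext p; simp [hU]]
          rw [Set.ncard_coe_finset]
          have h1 : a * b ≠ 1 := fun h => hab (by
            rw [← mul_one a, ← hbb, ← mul_assoc, h, one_mul])
          rw [Finset.card_insert_of_notMem (by simp [Ne.symm ha1, Ne.symm hb1, Ne.symm h1]),
            Finset.card_insert_of_notMem (by simp [hab, hb1]),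
            Finset.card_insert_of_notMem (by simp [Ne.symm, ha1]),
            Finset.card_singleton]
      · intro p hp
        rw [sq]
        rcases (hU p).mp hp with rfl | rfl | rfl | rfl
        · simp
        · exact haa
        · exact hbb
        · rw [← mul_assoc, mul_assoc a b a, hba, ← mul_assoc, haa, one_mul, hbb]
      · exact hall x (hnorm _ _ MX _ _ Ma cXa) (hnorm _ _ MX _ _ Mb cXb)
      · exact hall y (hnorm _ _ MY _ _ Ma cYa) (hnorm _ _ MY _ _ Mb cYb)

theorem glFour (hW : Nat.card W = 16) (h2 : ∀ w : W, w ^ 2 = 1) (x y g : MulAut W)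
    (hx3 : x ^ 3 = 1) (hxfix : ∀ w, x w = w → w = 1) (hy3 : y ^ 3 = 1) (hxy : Commute x y)
    (hyC : Nat.card {w // y w = w} = 4) (hne : g * x * g⁻¹ ∉ zpowers x) :
    (∃ h ∈ closure {x, y, g}, h * x * h⁻¹ ∈ closure {x, y} ∧ h * x * h⁻¹ ∉ zpowers x) ∨
    (∃ U ≤ closure {x, y, g}, Nat.card U = 4 ∧ (∀ u ∈ U, u ^ 2 = 1) ∧
      (∀ u ∈ U, x * u * x⁻¹ ∈ U) ∧ (∀ u ∈ U, y * u * y⁻¹ ∈ U) ∧ ∃ u ∈ U, x * u ≠ u * x) := by
  have hinv : ∀ w : W, w * w = 1 := fun w => by rw [← sq]; exact h2 w
  have hinj : ∀ a b : W, a * b = 1 → a = b := fun a b h =>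
    mul_right_cancel (h.trans (hinv b).symm)
  have : Nontrivial {w // y w = w} := Finite.one_lt_card_iff_nontrivial.mp (by omega)
  obtain ⟨⟨w1, hyw1⟩, hw1'⟩ := exists_ne (⟨1, map_one y⟩ : {w // y w = w})
  have hw1 : w1 ≠ 1 := fun h => hw1' (Subtype.ext h)
  have hy3' : ∀ w, y (y (y w)) = w := fun w => by
    have := DFunLike.congr_fun hy3 w
    simpa [pow_succ] using this
  let D : W →* W := y.toMonoidHom * MonoidHom.id W
  have hD : ∀ w, D w = y w * w := fun w => rfl
  have hDker : Nat.card D.ker = 4 := by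
    rw [← hyC]
    refine Nat.card_congr (Equiv.subtypeEquivRight fun w => ?_)
    rw [MonoidHom.mem_ker, hD]
    exact ⟨hinj _ _, fun h => by rw [h, hinv]⟩
  have hDr : Nat.card D.range = 4 := by
    have := Subgroup.card_mul_index D.ker
    rw [Subgroup.index_ker, hDker, hW] at this
    omega
  obtain ⟨w, hw⟩ : ∃ w, y w ≠ w := by
    by_contra hh
    push Not at hh
    rw [Nat.card_congr (Equiv.subtypeUnivEquiv hh), hW] at hyC
    omega
  set t := y w * w with htdef
  have ht : t ≠ 1 := fun h => hw (hinj _ _ h)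
  have hyt : y t ≠ t := by
    intro h
    apply ht
    have e : t * y t * y (y t) = 1 := by
      rw [htdef, map_mul, map_mul, hy3']
      calc _ = (y w * y w) * (w * w) * (y (y w) * y (y w)) := by ac_rfl
        _ = 1 := by simp [hinv]
    rwa [h, h, hinv, one_mul] at e
  have hyyt : y (y t) ≠ t := fun h => hyt (by
    have := congrArg y h; rw [hy3'] at this; exact this.symm)
  have hyyt' : y (y t) ≠ y t := fun h => hyt (y.injective h)
  classical
  have hcases : x t = y t ∨ x t = y (y t) := by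
    have hxt1 : x t ≠ 1 := fun h => ht (x.injective (h.trans (map_one x).symm))
    have hxtt : x t ≠ t := fun h => ht (hxfix t h)
    let S : Finset W := {1, t, y t, y (y t)}
    have hS : S.card = 4 := by
      have q1 : y t ≠ 1 := fun h => ht (y.injective (h.trans (map_one y).symm))
      have q2 : y (y t) ≠ 1 := fun h => q1 (y.injective (h.trans (map_one y).symm))
      simp [S, Ne.symm ht, Ne.symm q1, Ne.symm q2, Ne.symm hyt, Ne.symm hyyt, Ne.symm hyyt']
    have hsub : (S : Set W) = (D.range : Set W) := by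
      refine Set.eq_of_subset_of_ncard_le ?_ ?_ (Set.toFinite _)
      · intro v hv
        simp [S] at hv
        rcases hv with rfl | rfl | rfl | rfl
        · exact one_mem _
        · exact ⟨w, rfl⟩
        · exact ⟨y w, by rw [hD, htdef, map_mul]⟩
        · exact ⟨y (y w), by rw [hD, htdef, map_mul, map_mul]⟩
      · rw [Set.ncard_coe_finset, hS, ← Nat.card_coe_set_eq]
        exact hDr.le
    have : x t ∈ (S : Set W) := by
      rw [hsub]
      exact ⟨x w, by rw [hD, htdef, map_mul]; congr 1; exact (DFunLike.congr_fun hxy.eq w).symm⟩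
    simp [S, hxt1, hxtt] at this
    exact this
  have hxK : x ∈ closure {x, y, g} := subset_closure (by simp)
  have hyK : y ∈ closure {x, y, g} := subset_closure (by simp)
  have hgK : g ∈ closure {x, y, g} := subset_closure (by simp)
  have hxK2 : x ∈ closure {x, y} := subset_closure (by simp)
  have hyK2 : y ∈ closure {x, y} := subset_closure (by simp)
  rcases hcases with h | h
  · exact glFour_core hW h2 x y g hx3 hxfix hxy w1 t hw1 hyw1 ht h.symm hne _ _ hxK hyK hgK
      hxK2 hyK2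
  · have hyinv : y⁻¹ = y * y := inv_eq_of_mul_eq_one_right (by rw [← pow_three]; exact hy3)
    rcases glFour_core hW h2 x y⁻¹ g hx3 hxfix hxy.inv_right w1 t hw1
      (by rw [hyinv, MulAut.mul_apply, hyw1, hyw1]) ht (by rw [hyinv, MulAut.mul_apply, h]) hne
      _ _ hxK (inv_mem hyK) hgK hxK2 (inv_mem hyK2) with hh | ⟨U, hUK, h4, hsq, hux, huy, hu⟩
    · exact Or.inl hh
    · refine Or.inr ⟨U, hUK, h4, hsq, hux, fun u hu' => ?_, hu⟩
      have := huy _ (huy u hu')
      rw [inv_inv] at this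
      have e : y⁻¹ * y⁻¹ = y := by
        rw [← mul_inv_rev, ← hyinv, inv_inv]
      have e2 : y * u * y⁻¹ = (y⁻¹ * y⁻¹) * u * (y⁻¹ * y⁻¹)⁻¹ := by rw [e]
      rw [e2]
      simpa [mul_assoc] using this

end core

end CfsgLib.J4Cover
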