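import Cfsg.Agent.Lib.J4Cover.Quot
import Cfsg.Agent.Lib.MathieuTwentyTwo.Four

/-!
The image of `C(x)` in `C(z)/E`: one class of involutions, the four group commuting with `y`, and the
centralisers of the elements of `⟨x, y⟩`.
-/

set_option autoImplicit false
set_option linter.unusedSectionVars false

namespace CfsgLib.J4Cover

open Subgroup

universe u

namespace Setup

variable {G : Type u} [Group G] [Finite G] (M : Setup G)

/-- The map of `C(x)` into the quotient. -/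
def fX : cC M.x →* M.Qt := M.mq.comp (Subgroup.inclusion M.le_cen_z)

/-- `y` in `C(x)`. -/
def yC : cC M.x := ⟨M.y, mem_cC.2 M.hxy.symm⟩

theorem fX_xC : M.fX M.xC = M.xq := rfl

theorem fX_yC : M.fX M.yC = M.yq := rfl

theorem mem_cImg {q : M.Qt} : q ∈ M.cImg ↔ ∃ c, M.fX c = q :=
  ⟨fun ⟨h, hh, e⟩ => ⟨⟨h, mem_subgroupOf.1 hh⟩, e⟩,
    fun ⟨c, e⟩ => ⟨Subgroup.inclusion M.le_cen_z c, mem_subgroupOf.2 c.2, e⟩⟩

theorem fX_mem (c : cC M.x) : M.fX c ∈ M.cImg := M.mem_cImg.2 ⟨c, rfl⟩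

theorem xq_cube : M.xq ^ 3 = 1 := by
  rw [← fX_xC, ← map_pow, show M.xC ^ 3 = 1 from Subtype.ext M.x_cube, map_one]

theorem yq_cube : M.yq ^ 3 = 1 := by
  rw [← fX_yC, ← map_pow, show M.yC ^ 3 = 1 from Subtype.ext M.y_cube, map_one]

theorem xq_ne_one : M.xq ≠ 1 := fun e => by
  have hE := M.mem_coreH.1 ((QuotientGroup.eq_one_iff _).1 e)
  obtain ⟨k, hk⟩ := M.core_two ⟨M.x, hE⟩
  have hd : orderOf M.x ∣ 2 ^ k := orderOf_dvd_of_pow_eq_one (congrArg Subtype.val hk)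
  rw [M.hx] at hd
  exact absurd (Nat.prime_three.dvd_of_dvd_pow hd) (by norm_num)

theorem xq_order : orderOf M.xq = 3 :=
  haveI : Fact (Nat.Prime 3) := ⟨Nat.prime_three⟩
  orderOf_eq_prime M.xq_cube M.xq_ne_one

theorem eq_one_of_sq {q : M.Qt} (hq : q ∈ zpowers M.xq) (h2 : q * q = 1) : q = 1 := by
  obtain ⟨i, rfl⟩ := mem_zpowers_iff.1 hq
  have h3 : M.xq ^ i * M.xq ^ i * M.xq ^ i = 1 := by
    rw [← zpow_add, ← zpow_add, show i + i + i = ((3 : ℕ) : ℤ) * i by push_cast; ring, zpow_mul,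
      zpow_natCast, M.xq_cube, one_zpow]
  rwa [h2, one_mul] at h3

theorem comm_xq {q : M.Qt} (hq : q ∈ M.cImg) : Commute q M.xq := by
  rw [M.cImg_eq] at hq
  exact mem_centralizer_singleton_iff.1 hq

theorem proj_of_fX {c d : cC M.x} (h : M.fX c = M.fX d) : M.hcov.proj c = M.hcov.proj d := by
  have h1 : M.fX (c * d⁻¹) = 1 := by rw [map_mul, map_inv, h, mul_inv_cancel]
  obtain ⟨i, hi⟩ := mem_zpowers_iff.1
    (M.fixed_x (M.mem_coreH.1 ((QuotientGroup.eq_one_iff _).1 h1)) (mem_cC.1 (c * d⁻¹).2))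
  have hc : c * d⁻¹ ∈ center (cC M.x) := mem_center_iff.2 fun e => Subtype.ext (by
    show (e : G) * ((c * d⁻¹ : cC M.x) : G) = (c * d⁻¹ : cC M.x) * e
    rw [show ((c * d⁻¹ : cC M.x) : G) = M.z ^ i from hi.symm]
    exact ((M.hzc e e.2).zpow_left i).eq.symm)
  have := M.hcov.mem_ker.2 hc
  rwa [map_mul, map_inv, mul_inv_eq_one] at this

theorem center_img {c : cC M.x} (hc : c ∈ center (cC M.x)) : M.fX c ∈ zpowers M.xq := by
  have h6 := M.hcov.center_pow hc
  have h3 : M.fX (c ^ 3) = 1 := by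
    refine (QuotientGroup.eq_one_iff _).2 (M.mem_coreH.2 (M.zpowers_z_le ?_))
    refine M.z_unique (c ^ 3).2 (fun d hd => ?_) (congrArg Subtype.val (show (c ^ 3) ^ 2 = 1 by
      rw [← pow_mul]; exact h6))
    exact (congrArg Subtype.val (mem_center_iff.1 (pow_mem hc 3) ⟨d, hd⟩)).symm
  obtain ⟨i, hi⟩ := mem_zpowers_iff.1 (M.hcov.center_prime Nat.prime_three M.xC_center M.xC_order
    (pow_mem hc 4) (show (c ^ 4) ^ 3 = 1 by
      rw [← pow_mul, show 4 * 3 = 6 * 2 by norm_num, pow_mul, h6, one_pow]))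
  have e : c = c ^ 4 * (c ^ 3)⁻¹ := by group
  rw [e, map_mul, map_inv, h3, inv_one, mul_one, ← hi, map_zpow, fX_xC]
  exact zpow_mem (mem_zpowers _) i

theorem img_of_proj {c d : cC M.x} (h : M.hcov.proj c = M.hcov.proj d) :
    ∃ e ∈ zpowers M.xq, M.fX c = e * M.fX d := by
  refine ⟨M.fX (c * d⁻¹), M.center_img (M.hcov.mem_ker.1 (by rw [map_mul, map_inv, h, mul_inv_cancel])), ?_⟩
  rw [← map_mul, inv_mul_cancel_right]

theorem eq_of_proj {c d : cC M.x} (hc : M.fX c * M.fX c = 1) (hd : M.fX d * M.fX d = 1)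
    (h : M.hcov.proj c = M.hcov.proj d) : M.fX c = M.fX d := by
  obtain ⟨e, he, hce⟩ := M.img_of_proj h
  have hcomm : Commute e (M.fX d) := by
    obtain ⟨i, rfl⟩ := mem_zpowers_iff.1 he
    exact ((M.comm_xq (M.fX_mem d)).symm.zpow_left i)
  rw [hce] at hc
  have he2 : e * e = 1 := by
    calc e * e = e * e * (M.fX d * M.fX d) := by rw [hd, mul_one]
      _ = e * M.fX d * (e * M.fX d) := (hcomm.symm.mul_mul_mul_comm e (M.fX d)).symm
      _ = 1 := hc
  rw [hce, M.eq_one_of_sq he he2, one_mul]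

theorem proj_y_order : orderOf (M.hcov.proj M.yC) = 3 := by
  haveI : Fact (Nat.Prime 3) := ⟨Nat.prime_three⟩
  have hy3 : M.yC ^ 3 = 1 := Subtype.ext M.y_cube
  refine orderOf_eq_prime (by rw [← map_pow, hy3, map_one]) fun e => M.hy ?_
  obtain ⟨i, hi⟩ := mem_zpowers_iff.1
    (M.hcov.center_prime Nat.prime_three M.xC_center M.xC_order (M.hcov.mem_ker.1 e) hy3)
  exact mem_zpowers_iff.2 ⟨i, congrArg Subtype.val hi⟩

theorem proj_involution {c : cC M.x} (h2 : M.fX c * M.fX c = 1) (h1 : M.fX c ≠ 1) :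
    orderOf (M.hcov.proj c) = 2 := by
  haveI : Fact (Nat.Prime 2) := ⟨Nat.prime_two⟩
  refine orderOf_eq_prime ?_ fun e => h1 ?_
  · rw [pow_two, ← map_mul, M.proj_of_fX (d := 1) (by rw [map_mul, h2, map_one]), map_one]
  · have := M.eq_of_proj h2 (d := 1) (by rw [map_one, one_mul]) (by rw [e, map_one])
    rwa [map_one] at this

/-- One class of involutions. -/
theorem inner_class {s t : M.Qt} (hs : s ∈ M.cImg) (ht : t ∈ M.cImg) (hs2 : orderOf s = 2)
    (ht2 : orderOf t = 2) : ∃ c ∈ M.cImg, c * s * c⁻¹ = t := by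
  obtain ⟨a, rfl⟩ := M.mem_cImg.1 hs
  obtain ⟨b, rfl⟩ := M.mem_cImg.1 ht
  have sq : ∀ {q : M.Qt}, orderOf q = 2 → q * q = 1 ∧ q ≠ 1 := fun {q} h =>
    ⟨by rw [← pow_two, ← h, pow_orderOf_eq_one], fun e => by rw [e, orderOf_one] at h; omega⟩
  obtain ⟨ha, ha1⟩ := sq hs2
  obtain ⟨hb, hb1⟩ := sq ht2
  obtain ⟨e, he⟩ := isConj_iff.1 (m22.isConj_two (M.proj_involution ha ha1) (M.proj_involution hb hb1))
  obtain ⟨d, rfl⟩ := M.hcov.proj_surjective e
  refine ⟨M.fX d, M.fX_mem d, ?_⟩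
  rw [← map_inv, ← map_mul, ← map_mul]
  refine M.eq_of_proj ?_ hb (by rw [map_mul, map_mul, map_inv, he])
  rw [map_mul, map_mul, map_inv]
  calc M.fX d * M.fX a * (M.fX d)⁻¹ * (M.fX d * M.fX a * (M.fX d)⁻¹)
      = M.fX d * (M.fX a * M.fX a) * (M.fX d)⁻¹ := by group
    _ = 1 := by rw [ha]; group

/-- The involutions of the image commuting with `y`. -/
def IsFour (t : M.Qt) : Prop := t ∈ M.cImg ∧ t * t = 1 ∧ Commute t M.yq

theorem four_proj {c : cC M.x} (h : M.IsFour (M.fX c)) :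
    M.hcov.proj c ∈ CfsgLib.MathieuTwentyTwo.NseRoute.fourOf (M.hcov.proj M.yC) := by
  refine (m22.mem_fourOf M.proj_y_order).2 ⟨?_, ?_⟩
  · show M.hcov.proj M.yC * M.hcov.proj c = M.hcov.proj c * M.hcov.proj M.yC
    rw [← map_mul, ← map_mul]
    exact M.proj_of_fX (by rw [map_mul, map_mul, fX_yC, h.2.2.eq])
  · rw [← map_mul, M.proj_of_fX (d := 1) (by rw [map_mul, h.2.1, map_one]), map_one]

theorem four_comm {a b : M.Qt} (ha : M.IsFour a) (hb : M.IsFour b) : Commute a b := by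
  obtain ⟨c, rfl⟩ := M.mem_cImg.1 ha.1
  obtain ⟨d, rfl⟩ := M.mem_cImg.1 hb.1
  have hp := m22.fourOf_comm M.proj_y_order (M.four_proj ha) (M.four_proj hb)
  have e : M.fX (c * d * c⁻¹) = M.fX d := by
    refine M.eq_of_proj ?_ hb.2.1 (by rw [map_mul, map_mul, map_inv, hp.eq, mul_inv_cancel_right])
    rw [map_mul, map_mul, map_inv]
    calc M.fX c * M.fX d * (M.fX c)⁻¹ * (M.fX c * M.fX d * (M.fX c)⁻¹)
        = M.fX c * (M.fX d * M.fX d) * (M.fX c)⁻¹ := by group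
      _ = 1 := by rw [hb.2.1]; group
  rw [map_mul, map_mul, map_inv, mul_inv_eq_iff_eq_mul] at e
  exact e

theorem four_mul {a b : M.Qt} (ha : M.IsFour a) (hb : M.IsFour b) : M.IsFour (a * b) := by
  refine ⟨mul_mem ha.1 hb.1, ?_, ha.2.2.mul_left hb.2.2⟩
  rw [(M.four_comm ha hb).symm.mul_mul_mul_comm, ha.2.1, hb.2.1, one_mul]

theorem four_one : M.IsFour 1 := ⟨one_mem _, one_mul 1, Commute.one_left _⟩

theorem four_three {a b c : M.Qt} (ha : M.IsFour a) (hb : M.IsFour b) (hc : M.IsFour c) (ha1 : a ≠ 1)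
    (hb1 : b ≠ 1) (hc1 : c ≠ 1) (hab : a ≠ b) (hac : a ≠ c) (hbc : b ≠ c) : c = a * b := by
  classical
  by_contra hne
  have hlift : ∀ t : {t // M.IsFour t}, ∃ d, M.fX d = t.1 := fun t => M.mem_cImg.1 t.2.1
  choose g hg using hlift
  have hle : Nat.card {t // M.IsFour t} ≤ 4 := by
    rw [← m22.card_fourOf M.proj_y_order]
    refine Nat.card_le_card_of_injective
      (fun t => ⟨M.hcov.proj (g t), M.four_proj ((hg t).symm ▸ t.2)⟩) fun t t' e => Subtype.ext ?_
    rw [← hg t, ← hg t']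
    exact M.eq_of_proj (by rw [hg]; exact t.2.2.1) (by rw [hg]; exact t'.2.2.1) (congrArg Subtype.val e)
  have hab1 : a * b ≠ 1 := fun e => hab (by
    rw [eq_inv_of_mul_eq_one_left e, inv_eq_of_mul_eq_one_right hb.2.1])
  have haba : a * b ≠ a := fun e => hb1 (mul_eq_left.1 e)
  have habb : a * b ≠ b := fun e => ha1 (mul_eq_right.1 e)
  have hsub : ↑({1, a, b, a * b, c} : Finset M.Qt) ⊆ {t | M.IsFour t} := by
    intro q hq
    simp only [Finset.coe_insert, Finset.coe_singleton, Set.mem_insert_iff, Set.mem_singleton_iff] at hq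
    rcases hq with rfl | rfl | rfl | rfl | rfl
    exacts [M.four_one, ha, hb, M.four_mul ha hb, hc]
  have h5 : ({1, a, b, a * b, c} : Finset M.Qt).card = 5 := by
    rw [Finset.card_insert_of_notMem, Finset.card_insert_of_notMem, Finset.card_insert_of_notMem,
      Finset.card_pair]
    all_goals simp only [Finset.mem_insert, Finset.mem_singleton, not_or, ne_eq]
    · exact fun e => hne e.symm
    · exact ⟨habb.symm, hbc⟩
    · exact ⟨hab, haba.symm, hac⟩
    · exact ⟨ha1.symm, hb1.symm, hab1.symm, hc1.symm⟩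
  have h := Set.ncard_le_ncard hsub (Set.toFinite _)
  rw [Set.ncard_coe_finset, h5, ← Nat.card_coe_set_eq] at h
  exact absurd (h.trans hle) (by norm_num)

theorem exists_four_over {v : ↥Cfsg.Spor.M22}
    (hv : v ∈ CfsgLib.MathieuTwentyTwo.NseRoute.fourOf (M.hcov.proj M.yC)) :
    ∃ c : cC M.x, M.IsFour (M.fX c) ∧ M.hcov.proj c = v := by
  obtain ⟨K, -, hK8, hKx, hKy, hKm⟩ := M.exists_K
  obtain ⟨c, hc, rfl⟩ := hKm.symm.le hv
  have hcomm : Commute (M.fX c) M.yq :=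
    (show Commute c M.yC from Subtype.ext (mem_cC.1 (hKy (mem_subgroupOf.1 hc))).eq).map M.fX
  refine ⟨c, ⟨M.fX_mem c, ?_, hcomm⟩, rfl⟩
  have hv2 := ((m22.mem_fourOf M.proj_y_order).1 hv).2
  rw [← map_mul] at hv2 ⊢
  refine M.eq_one_of_sq (M.center_img (M.hcov.mem_ker.1 hv2)) ?_
  rw [← map_mul]
  have h8 : c ^ 8 = 1 := Subtype.ext (by
    have h := congrArg Subtype.val (pow_card_eq_one' (x := (⟨c, mem_subgroupOf.1 hc⟩ : K)))
    rw [hK8] at h
    exact h)
  have hz := M.center_img (M.hcov.mem_ker.1 hv2)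
  refine M.eq_one_of_sq ?_ ?_
  · rw [map_mul]
    exact mul_mem hz hz
  · rw [← map_mul, ← map_one M.fX]
    refine congrArg M.fX ?_
    rw [← h8]
    simp only [pow_succ, pow_zero, one_mul, mul_assoc]

theorem exists_four : ∃ t, M.IsFour t ∧ t ≠ 1 := by
  obtain ⟨v, hv, hv1⟩ := m22.exists_ne_one_fourOf M.proj_y_order
  obtain ⟨c, hc, rfl⟩ := M.exists_four_over hv
  exact ⟨M.fX c, hc, fun e => hv1 (by rw [M.proj_of_fX (d := 1) (by rw [e, map_one]), map_one])⟩

theorem four_conj {s t : M.Qt} (hs : s ∈ M.cImg) (hsy : s * M.yq * s⁻¹ = M.xq * M.yq)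
    (ht : M.IsFour t) : M.IsFour (s * t * s⁻¹) := by
  have hmem : s * t * s⁻¹ ∈ M.cImg := mul_mem (mul_mem hs ht.1) (inv_mem hs)
  refine ⟨hmem, ?_, ?_⟩
  · calc s * t * s⁻¹ * (s * t * s⁻¹) = s * (t * t) * s⁻¹ := by group
      _ = 1 := by rw [ht.2.1]; group
  · have h := ht.2.2.map (MulAut.conj s).toMonoidHom
    simp only [MulEquiv.coe_toMonoidHom, MulAut.conj_apply, hsy] at h
    simpa using (M.comm_xq hmem).inv_right.mul_right h

theorem exists_sqrt {t : M.Qt} (ht : t ∈ M.cImg) (ht2 : t * t = 1) (ht1 : t ≠ 1) :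
    ∃ u ∈ M.cImg, u * u = t := by
  obtain ⟨c, rfl⟩ := M.mem_cImg.1 ht
  obtain ⟨g, hg⟩ := m22.exists_eight
  have h4 : orderOf (g ^ 4) = 2 := by rw [orderOf_pow, hg]; rfl
  obtain ⟨e, he⟩ := isConj_iff.1 (m22.isConj_two h4 (M.proj_involution ht2 ht1))
  obtain ⟨d, hd⟩ := M.hcov.proj_surjective (e * g ^ 2 * e⁻¹)
  obtain ⟨w, hw, hdd⟩ := M.img_of_proj (c := d * d) (d := c) (by rw [map_mul, hd, ← he]; group)
  obtain ⟨i, rfl⟩ := mem_zpowers_iff.1 hw
  refine ⟨M.fX d * M.xq ^ i, mul_mem (M.fX_mem d)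
    (zpow_mem (fX_xC M ▸ M.fX_mem M.xC) i), ?_⟩
  rw [((M.comm_xq (M.fX_mem d)).zpow_right i).symm.mul_mul_mul_comm, ← map_mul, hdd]
  have h3 : M.xq ^ i * (M.xq ^ i * M.xq ^ i) = 1 := by
    rw [← zpow_add, ← zpow_add, show i + (i + i) = ((3 : ℕ) : ℤ) * i by push_cast; ring, zpow_mul,
      zpow_natCast, M.xq_cube, one_zpow]
  rw [((M.comm_xq ht).zpow_right i).symm.eq, mul_assoc, h3, mul_one]

theorem conj_mem_of_norX {q : M.Qt} (hq : q ∈ M.norX) : q * M.xq * q⁻¹ ∈ zpowers M.xq :=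
  (mem_normalizer_iff.1 hq M.xq).1 (mem_zpowers _)

theorem cImg_of_norX_three {q : M.Qt} (hq : q ∈ M.norX) (h3 : q ^ 3 = 1) : q ∈ M.cImg := by
  rw [M.cImg_eq, mem_centralizer_singleton_iff]
  obtain ⟨i, hi⟩ := mem_zpowers_iff.1 (M.conj_mem_of_norX hq)
  rcases CfsgLib.MathieuTwentyTwo.NseRoute.zpow_three_cases M.xq_order i with e | e | e <;>
    rw [e] at hi
  · exact absurd (by simpa using hi.symm) M.xq_ne_one
  · exact mul_inv_eq_iff_eq_mul.1 hi.symm
  · exfalso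
    have hneg : q * M.xq⁻¹ * q⁻¹ = M.xq := by
      calc q * M.xq⁻¹ * q⁻¹ = (q * M.xq * q⁻¹)⁻¹ := by group
        _ = M.xq := by rw [← hi, inv_inv]
    have h2 : M.xq = M.xq⁻¹ := by
      calc M.xq = q ^ 3 * M.xq * (q ^ 3)⁻¹ := by rw [h3, one_mul, inv_one, mul_one]
        _ = q * (q * (q * M.xq * q⁻¹) * q⁻¹) * q⁻¹ := by rw [pow_succ, pow_two]; group
        _ = _ := by rw [← hi, hneg, ← hi]
    refine M.xq_ne_one (M.eq_one_of_sq (mem_zpowers _) ?_)
    nth_rw 1 [h2]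
    exact inv_mul_cancel _

variable (hchar : Cfsg.IsCharacteristicTwoType G)

include hchar in
theorem yq_not_mem : M.yq ∉ zpowers M.xq := fun h => by
  have h9 := M.card_vImg hchar
  rw [vImg, sup_eq_left.2 (zpowers_le.2 h), Nat.card_zpowers, M.xq_order] at h9
  omega

include hchar in
/-- A conjugate of `x` normalising `⟨x⟩` lies in it. -/
theorem mem_norX_of_conj {q : M.Qt} (h : q * M.xq * q⁻¹ ∈ M.norX) : q ∈ M.norX := by
  haveI : Fact (Nat.Prime 3) := ⟨Nat.prime_three⟩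
  set a := q * M.xq * q⁻¹ with ha
  have h3 : a ^ 3 = 1 := by rw [ha, conj_pow, M.xq_cube, mul_one, mul_inv_cancel]
  obtain ⟨w, hw⟩ := M.mem_cImg.1 (M.cImg_of_norX_three h h3)
  have hw3 : M.hcov.proj w ^ 3 = 1 := by
    rw [← map_pow, M.proj_of_fX (d := 1) (by rw [map_pow, hw, h3, map_one]), map_one]
  by_cases hw1 : M.hcov.proj w = 1
  · refine M.mem_norX ?_
    rw [← ha, ← hw]
    exact M.center_img (M.hcov.mem_ker.1 hw1)
  · exfalso
    obtain ⟨e, he⟩ := isConj_iff.1 (m22.isConj_three (orderOf_eq_prime hw3 hw1) M.proj_y_order)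
    obtain ⟨d, rfl⟩ := M.hcov.proj_surjective e
    obtain ⟨k, hk, hke⟩ := M.img_of_proj (c := d * w * d⁻¹) (d := M.yC)
      (by rw [map_mul, map_mul, map_inv, he])
    rw [map_mul, map_mul, map_inv, hw, fX_yC, ha] at hke
    have hv : k * M.yq ∈ M.vImg :=
      mul_mem (mem_sup_left hk) (mem_sup_right (mem_zpowers _))
    have h1 := M.eq_zpowers_of_mem_vImg hchar hv (q := M.fX d * q) (by rw [← hke]; group)
    exact M.yq_not_mem hchar ((mul_mem_cancel_left hk).1 h1)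

include hchar in
theorem centralizer_v_le {v : M.Qt} (hv : v ∈ M.vImg) (hv1 : v ≠ 1) : centralizer {v} ≤ M.norX := by
  rw [M.vImg_eq] at hv
  obtain ⟨w, hw, rfl⟩ := hv
  intro q hq
  rw [mem_centralizer_singleton_iff] at hq
  by_cases hn : (w : G) ∈ zpowers M.x
  · obtain ⟨i, hi⟩ := mem_zpowers_iff.1 hn
    have hwi : M.mq w = M.xq ^ i := by
      rw [xq, ← map_zpow]; exact congrArg M.mq (Subtype.ext hi.symm)
    refine M.cImg_le ?_
    rw [M.cImg_eq, mem_centralizer_singleton_iff]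
    rcases CfsgLib.MathieuTwentyTwo.NseRoute.zpow_three_cases M.xq_order i with e | e | e <;>
      rw [e] at hwi <;> rw [hwi] at hq
    · exact absurd hwi hv1
    · exact hq
    · exact (Commute.inv_right_iff.1 (show Commute q M.xq⁻¹ from hq)).eq
  · obtain ⟨-, hwx, c, hc, hcv⟩ := M.other_of_mem (mem_subgroupOf.1 hw) hn
    set e := M.fX ⟨c, hc⟩ with he
    have hcomm : Commute (e * q * e⁻¹) (e * M.mq w * e⁻¹) :=
      (show Commute q (M.mq w) from hq).map (MulAut.conj e).toMonoidHom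
    have hey : Commute (e * q * e⁻¹) M.yq := by
      rcases hcv with h | h
      · rwa [show e * M.mq w * e⁻¹ = M.yq from
          (by rw [he, fX, MonoidHom.comp_apply, ← map_inv, ← map_mul, ← map_mul]
              exact congrArg M.mq (Subtype.ext h))] at hcomm
      · rw [show e * M.mq w * e⁻¹ = M.yq⁻¹ from
          (by rw [he, fX, MonoidHom.comp_apply, yq, ← map_inv, ← map_inv, ← map_mul, ← map_mul]
              exact congrArg M.mq (Subtype.ext h))] at hcomm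
        exact Commute.inv_right_iff.1 hcomm
    have h1 := M.centralizer_y_le hchar (mem_centralizer_singleton_iff.2 hey.eq)
    have he' : e ∈ M.norX := M.cImg_le (M.fX_mem _)
    simpa [mul_assoc] using mul_mem (mul_mem (inv_mem he') h1) he'

include hchar in
/-- Subgroups of order prime to three normalised by `⟨x, y⟩` normalise `⟨x⟩`. -/
theorem le_norX_of_coprime (U : Subgroup M.Qt) (hV : M.vImg ≤ normalizer (U : Set M.Qt))
    (h3 : ¬ 3 ∣ Nat.card U) : U ≤ M.norX := by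
  haveI : Fact (Nat.Prime 3) := ⟨Nat.prime_three⟩
  have h9 := M.card_vImg hchar
  haveI : IsMulCommutative M.vImg := ⟨⟨fun a b => by
    have hle : M.vImg ≤ centralizer (M.vImg : Set M.Qt) := by
      rw [le_centralizer_iff_isMulCommutative]
      refine IsPGroup.isMulCommutative_of_card_eq_prime_sq (p := 3) ?_
      rw [h9]; norm_num
    exact Subtype.ext (mem_centralizer_iff.1 (hle b.2) a a.2)⟩⟩
  have hcyc : ¬ IsCyclic M.vImg := fun hc => by
    obtain ⟨g, hg⟩ := hc.exists_generator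
    have hg9 : orderOf g = 9 := by rw [orderOf_eq_card_of_forall_mem_zpowers hg, h9]
    have hg3 : g ^ 3 = 1 := by
      refine Subtype.ext ?_
      have hmem := M.vImg_eq.le g.2
      obtain ⟨w, hw, hwg⟩ := hmem
      show (g : M.Qt) ^ 3 = 1
      rw [← hwg]
      by_cases hn : (w : G) ∈ zpowers M.x
      · obtain ⟨i, hi⟩ := mem_zpowers_iff.1 hn
        rw [← map_pow, show w ^ 3 = 1 from Subtype.ext (by
          show (w : G) ^ 3 = 1
          rw [← hi, ← zpow_natCast, ← zpow_mul, mul_comm, zpow_mul, zpow_natCast, M.x_cube, one_zpow]),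
          map_one]
      · rw [← map_pow, show w ^ 3 = 1 from Subtype.ext (by
          show (w : G) ^ 3 = 1
          rw [← (M.other_of_mem (mem_subgroupOf.1 hw) hn).1, pow_orderOf_eq_one]), map_one]
    have := orderOf_dvd_of_pow_eq_one hg3
    rw [hg9] at this
    exact absurd this (by norm_num)
  have hcop : (Nat.card M.vImg).Coprime (Nat.card U) := by
    rw [h9, show 9 = 3 ^ 2 by norm_num]
    exact Nat.Coprime.pow_left 2 ((Nat.prime_three.coprime_iff_not_dvd).2 h3)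
  rw [← CfsgLib.CoprimeGeneration.iSup_centralizer_eq M.vImg U hcyc hV hcop]
  exact iSup₂_le fun a ha => inf_le_right.trans (M.centralizer_v_le hchar ha.1 ha.2)

end Setup

end CfsgLib.J4Cover
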