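import Cfsg.Agent.Lib.J4Cover.Inner
import Cfsg.Agent.Lib.J4Cover.FourParts
import Cfsg.Agent.Lib.J4Cover.GLFour

/-!
The centraliser of an inner involution of `C(z)/E` normalises `⟨x⟩`.
-/

set_option autoImplicit false
set_option linter.unusedSectionVars false

namespace CfsgLib.J4Cover

open Subgroup

universe u

/-- The map `w ↦ a w * w`. -/
def sqHom {W : Type u} [CommGroup W] (a : MulAut W) : W →* W := a.toMonoidHom * MonoidHom.id W

theorem sqHom_apply {W : Type u} [CommGroup W] (a : MulAut W) (w : W) : sqHom a w = a w * w := rfl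

theorem sqHom_conj {W : Type u} [CommGroup W] {a g : MulAut W} (h : Commute g a) {w : W}
    (hw : w ∈ (sqHom a).range) : g w ∈ (sqHom a).range := by
  obtain ⟨v, rfl⟩ := hw
  refine ⟨g v, ?_⟩
  rw [sqHom_apply, sqHom_apply, map_mul, ← MulAut.mul_apply, ← h.eq, MulAut.mul_apply]

namespace Setup

variable {G : Type u} [Group G] [Finite G] (M : Setup G)

theorem fX_action_faithful {W : Type u} [CommGroup W] (ρ : M.Qt →* MulAut W)
    (hx : ∀ w, ρ M.xq w = w → w = 1) (hW : Nat.card W ≠ 1) {t : M.Qt} (ht : t ∈ M.cImg)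
    (ht2 : t * t = 1) (ht1 : t ≠ 1) : ρ t ≠ 1 := by
  intro e
  obtain ⟨c, rfl⟩ := M.mem_cImg.1 ht
  set f := ρ.comp M.fX with hf
  haveI := m22.isSimple
  rcases ((inferInstance : f.ker.Normal).map M.hcov.proj M.hcov.proj_surjective).eq_bot_or_eq_top with
    h | h
  · refine ht1 ?_
    have := (Subgroup.eq_bot_iff_forall _).1 h _ (mem_map_of_mem _ (show c ∈ f.ker from e))
    exact M.eq_one_of_sq (M.center_img (M.hcov.mem_ker.1 this)) ht2
  · have hlift : ∀ d : cC M.x, ∃ k ∈ center (cC M.x), f d = f k := by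
      intro d
      obtain ⟨n, hn, he⟩ := h.ge (mem_top (M.hcov.proj d))
      refine ⟨d * n⁻¹, M.hcov.mem_ker.1 (by rw [map_mul, map_inv, he, mul_inv_cancel]), ?_⟩
      rw [map_mul, map_inv, MonoidHom.mem_ker.1 hn, inv_one, mul_one]
    have htop : f.ker = ⊤ := by
      rw [eq_top_iff, ← M.hcov.perfect, commutator_eq_closure, closure_le]
      rintro _ ⟨p, q, rfl⟩
      obtain ⟨k, hk, hpk⟩ := hlift p
      rw [SetLike.mem_coe, MonoidHom.mem_ker, map_commutatorElement, commutatorElement_eq_one_iff_commute,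
        hpk]
      exact (show Commute k q from (mem_center_iff.1 hk q).symm).map f
    have hx1 : ρ M.xq = 1 := MonoidHom.mem_ker.1 (htop.ge (mem_top M.xC))
    refine hW (Nat.card_eq_one_iff_unique.2 ⟨⟨fun a b => ?_⟩, ⟨1⟩⟩)
    rw [hx a (by rw [hx1]; rfl), hx b (by rw [hx1]; rfl)]

variable (hchar : Cfsg.IsCharacteristicTwoType G)

include hchar in
theorem exists_four_sixteen : ∃ (W : Type u) (_ : CommGroup W) (_ : Finite W) (ρ : M.Qt →* MulAut W)
    (t : M.Qt), M.IsFour t ∧ t ≠ 1 ∧ Nat.card W = 2 ^ 12 ∧ (∀ w : W, w * w = 1) ∧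
    (∀ w, ρ M.xq w = w → w = 1) ∧
    Nat.card (sqHom (ρ t)).range = 16 ∧
    Nat.card {w : (sqHom (ρ t)).range // ρ M.yq w = w} = 4 := by
  obtain ⟨W, iW, iF, ρ, π, hπ, hker, hsq, hcard, hρ⟩ := M.exists_act hchar
  have hx1 : ∀ w, ρ M.xq w = w → w = 1 := fun w hw => M.act_fpf ρ π hπ hker hρ hw
  obtain ⟨s, hs, hse⟩ := M.exists_cycle
  set sq := M.fX ⟨s, hs⟩
  have hsy : sq * M.yq * sq⁻¹ = M.xq * M.yq := by
    rw [← fX_yC, ← fX_xC, ← map_inv, ← map_mul, ← map_mul, ← map_mul]
    exact congrArg M.fX (Subtype.ext hse)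
  let act : M.Qt → Additive W ≃+ Additive W := fun q => MulEquiv.toAdditive (ρ q)
  have hmul : ∀ a b v, act (a * b) v = act a (act b v) := fun a b v =>
    congrArg Additive.ofMul (DFunLike.congr_fun (map_mul ρ a b) v.toMul)
  have hone : ∀ v, act 1 v = v := fun v =>
    congrArg Additive.ofMul (DFunLike.congr_fun (map_one ρ) v.toMul)
  have hcomm : ∀ {a b : M.Qt}, Commute a b → ∀ v, act a (act b v) = act b (act a v) := fun h v => by
    rw [← hmul, h.eq, hmul]
  have h2 : ∀ v : Additive W, v + v = 0 := fun v => congrArg Additive.ofMul (hsq v.toMul)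
  have hfree : ∀ v, act M.xq v = v → v = 0 := fun v hv =>
    congrArg Additive.ofMul (hx1 v.toMul (congrArg Additive.toMul hv))
  have hcube : ∀ {q : M.Qt}, q ^ 3 = 1 → ∀ v, act q (act q (act q v)) = v := fun {q} h v => by
    rw [← hmul, ← hmul, show q * q * q = q ^ 3 by rw [pow_succ, pow_two], h, hone]
  have hne : ∃ a : {t // M.IsFour t}, ∃ v, act a.1 v ≠ v := by
    obtain ⟨t, ht, ht1⟩ := M.exists_four
    refine ⟨⟨t, ht⟩, ?_⟩
    by_contra hc
    push Not at hc
    exact M.fX_action_faithful ρ hx1 (by rw [hcard]; norm_num) ht.1 ht.2.1 ht1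
      (MulEquiv.ext fun w => congrArg Additive.toMul (hc (Additive.ofMul w)))
  obtain ⟨⟨t, ht⟩, hT, hY⟩ := exists_sixteen h2 (act M.xq) (act M.yq) (act sq)
    (hcomm M.xq_comm) (hcube M.xq_cube) (hcube M.yq_cube) hfree
    (hcomm (M.comm_xq (M.fX_mem _)))
    (fun v => by
      rw [← hmul, ← hmul, ← hmul, ← hsy, inv_mul_cancel_right])
    (fun a : {t // M.IsFour t} => act a.1)
    (fun a => ⟨sq * a.1 * sq⁻¹, M.four_conj (M.fX_mem _) hsy a.2⟩)
    (fun a v => by rw [← hmul, ← hmul, inv_mul_cancel_right])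
    (fun a => hcomm (M.comm_xq a.2.1)) (fun a => hcomm a.2.2.2)
    (fun a b c ha hb hc hab hac hbc v => by
      have n : ∀ q : {t // M.IsFour t}, (∃ v, act q.1 v ≠ v) → q.1 ≠ 1 := fun q ⟨w, hw⟩ e =>
        hw (by rw [e, hone])
      rw [M.four_three a.2 b.2 c.2 (n a ha) (n b hb) (n c hc) (fun e => hab (Subtype.ext e))
        (fun e => hac (Subtype.ext e)) (fun e => hbc (Subtype.ext e)), hmul])
    (fun a => by
      by_cases ha : a.1 = 1
      · refine le_trans (le_of_eq (Nat.card_eq_one_iff_unique.2 ⟨⟨fun p q => ?_⟩, ⟨0⟩⟩)) (by norm_num)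
        obtain ⟨_, v, rfl⟩ := p
        obtain ⟨_, w, rfl⟩ := q
        refine Subtype.ext ?_
        simp only [diffHom_apply, ha, hone, h2]
      · obtain ⟨r, hr, hrr⟩ := M.exists_sqrt a.2.1 a.2.2.1 ha
        have hb := card_range_sq_sub_one h2 (act M.xq) hfree (hcube M.xq_cube) (act r)
          (hcomm (M.comm_xq hr))
          (fun v => by
            rw [← hmul, ← hmul, ← hmul, hrr, mul_assoc, hrr, a.2.2.1, hone])
          (by rw [show Nat.card (Additive W) = Nat.card W from rfl, hcard])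
        refine le_trans (le_of_eq (Nat.card_congr (Equiv.subtypeEquivRight fun w => ?_))) hb
        rw [AddMonoidHom.mem_range, Set.mem_range]
        refine exists_congr fun v => ?_
        rw [diffHom_apply, ← hmul r r, hrr])
    hne
  have hmem : ∀ w : W, w ∈ (sqHom (ρ t)).range ↔ Additive.ofMul w ∈ (diffHom (act t)).range := fun w =>
    ⟨fun ⟨v, hv⟩ => ⟨Additive.ofMul v, congrArg Additive.ofMul hv⟩,
      fun ⟨v, hv⟩ => ⟨v.toMul, congrArg Additive.toMul hv⟩⟩
  have hT' : Nat.card (sqHom (ρ t)).range = 16 :=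
    (Nat.card_congr (Equiv.subtypeEquiv Additive.ofMul hmem)).trans hT
  refine ⟨W, iW, iF, ρ, t, ht, fun e => ?_, hcard, hsq, hx1, hT', ?_⟩
  · have h1 : (sqHom (ρ t)).range = ⊥ := by
      rw [MonoidHom.range_eq_bot_iff]
      refine MonoidHom.ext fun w => ?_
      rw [sqHom_apply, e, map_one]
      exact hsq w
    rw [h1, Subgroup.card_bot] at hT'
    omega
  · refine (Nat.card_congr ?_).trans hY
    exact
      { toFun := fun w => ⟨Additive.ofMul (w.1 : W), (hmem _).1 w.1.2,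
          mem_fixedPart.2 (congrArg Additive.ofMul w.2)⟩
        invFun := fun w => ⟨⟨w.1.toMul, (hmem _).2 w.2.1⟩,
          congrArg Additive.toMul (mem_fixedPart.1 w.2.2)⟩
        left_inv := fun w => rfl
        right_inv := fun w => rfl }

include hchar in
/-- Some involution of the four group has its centraliser in `N(⟨x⟩)`. -/
theorem exists_four_centralizer : ∃ t, M.IsFour t ∧ t ≠ 1 ∧ centralizer {t} ≤ M.norX := by
  haveI : Fact (Nat.Prime 3) := ⟨Nat.prime_three⟩
  obtain ⟨W, _, _, ρ, t, ht, ht1, -, hsq, hx1, hT, hY⟩ := M.exists_four_sixteen hchar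
  refine ⟨t, ht, ht1, ?_⟩
  set T := (sqHom (ρ t)).range
  set L := centralizer ({t} : Set M.Qt) with hL
  have hinv : ∀ g ∈ L, ∀ w ∈ T, ρ g w ∈ T := fun g hg w hw =>
    sqHom_conj ((show Commute g t from mem_centralizer_singleton_iff.1 hg).map ρ) hw
  let σ : L →* MulAut T :=
    { toFun := fun g =>
        { toFun := fun w => ⟨ρ (g : M.Qt) w, hinv g g.2 w w.2⟩
          invFun := fun w => ⟨ρ (g : M.Qt)⁻¹ w, hinv _ (inv_mem g.2) w w.2⟩
          left_inv := fun w => Subtype.ext (by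
            show ρ (g : M.Qt)⁻¹ (ρ (g : M.Qt) w) = w
            rw [← MulAut.mul_apply, ← map_mul, inv_mul_cancel, map_one]; rfl)
          right_inv := fun w => Subtype.ext (by
            show ρ (g : M.Qt) (ρ (g : M.Qt)⁻¹ w) = w
            rw [← MulAut.mul_apply, ← map_mul, mul_inv_cancel, map_one]; rfl)
          map_mul' := fun a b => Subtype.ext (map_mul (ρ (g : M.Qt)) a.1 b.1) }
      map_one' := MulEquiv.ext fun w => Subtype.ext (DFunLike.congr_fun (map_one ρ) w.1)
      map_mul' := fun g h => MulEquiv.ext fun w => Subtype.ext (DFunLike.congr_fun (map_mul ρ (g : M.Qt) (h : M.Qt)) w.1) }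
  have hσ : ∀ (g : L) (w : T), ((σ g w : T) : W) = ρ (g : M.Qt) w := fun g w => rfl
  have hxL : M.xq ∈ L := mem_centralizer_singleton_iff.2 (M.comm_xq ht.1).eq.symm
  have hyL : M.yq ∈ L := mem_centralizer_singleton_iff.2 ht.2.2.eq.symm
  set xL : L := ⟨M.xq, hxL⟩
  set yL : L := ⟨M.yq, hyL⟩
  have hVL : M.vImg ≤ L := sup_le (zpowers_le.2 hxL) (zpowers_le.2 hyL)
  have hxT : ∀ w : T, σ xL w = w → w = 1 := fun w hw => Subtype.ext (hx1 w (congrArg Subtype.val hw))
  have hyT : Nat.card {w : T // σ yL w = w} = 4 := by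
    rw [← hY]
    exact Nat.card_congr (Equiv.subtypeEquivRight fun w => Subtype.ext_iff)
  obtain ⟨w0, hw0, hw01⟩ : ∃ w0 : T, σ yL w0 = w0 ∧ w0 ≠ 1 := by
    by_contra hc
    push Not at hc
    have : Subsingleton {w : T // σ yL w = w} := ⟨fun a b => Subtype.ext ((hc _ a.2).trans (hc _ b.2).symm)⟩
    have := Finite.card_le_one_iff_subsingleton.2 this
    omega
  -- the kernel
  have htriv : ∀ v : L, (v : M.Qt) ∈ M.vImg → σ v = 1 → v = 1 := by
    intro v hv hv1
    obtain ⟨a, ha, b, hb, hab⟩ := CfsgLib.Coprime.exists_mul_of_mem_sup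
      (centralizer_le_normalizer _ |>.trans' (zpowers_le.2 (mem_centralizer_iff.2 fun w hw => by
        obtain ⟨i, rfl⟩ := mem_zpowers_iff.1 hw
        exact (M.xq_comm.symm.zpow_left i).eq))) hv
    obtain ⟨i, rfl⟩ := mem_zpowers_iff.1 ha
    obtain ⟨j, rfl⟩ := mem_zpowers_iff.1 hb
    have hv' : v = xL ^ i * yL ^ j := Subtype.ext (by
      rw [Subgroup.coe_mul, SubgroupClass.coe_zpow, SubgroupClass.coe_zpow]
      exact hab)
    have hxLo : orderOf xL = 3 := by rw [← Subgroup.orderOf_coe]; exact M.xq_order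
    have hyLo : orderOf yL = 3 := by
      refine orderOf_eq_prime (Subtype.ext M.yq_cube) fun e => M.yq_not_mem hchar ?_
      rw [show M.yq = 1 from congrArg Subtype.val e]
      exact one_mem _
    have hfix : σ (yL ^ j) w0 = w0 := by
      rcases CfsgLib.MathieuTwentyTwo.NseRoute.zpow_three_cases hyLo j with e | e | e <;> rw [e]
      · rw [map_one]; rfl
      · exact hw0
      · rw [map_inv]
        conv_lhs => rw [← hw0]
        exact (σ yL).symm_apply_apply w0
    rw [hv', map_mul] at hv1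
    have hxi : xL ^ i = 1 := by
      have e0 : σ (xL ^ i) w0 = w0 := by
        have := DFunLike.congr_fun hv1 w0
        rwa [MulAut.mul_apply, hfix] at this
      rcases CfsgLib.MathieuTwentyTwo.NseRoute.zpow_three_cases hxLo i with e | e | e
      · exact e
      · rw [e] at e0; exact absurd (hxT _ e0) hw01
      · rw [e, map_inv] at e0
        refine absurd (hxT _ ?_) hw01
        conv_lhs => rw [← e0]
        exact (σ xL).apply_symm_apply w0
    rw [hxi, map_one, one_mul] at hv1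
    rw [hv', hxi, one_mul]
    rcases CfsgLib.MathieuTwentyTwo.NseRoute.zpow_three_cases hyLo j with e | e | e
    · exact e
    all_goals
      exfalso
      rw [e] at hv1
      try rw [map_inv, inv_eq_one] at hv1
      rw [Nat.card_congr (Equiv.subtypeUnivEquiv fun w => by rw [hv1]; rfl), hT] at hyT
      omega
  set U0 := σ.ker.map L.subtype with hU0
  have h3U : ¬ 3 ∣ Nat.card σ.ker := by
    intro h3
    obtain ⟨a, ha⟩ := exists_prime_orderOf_dvd_card' (G := σ.ker) 3 h3
    have ha' : orderOf (a : L) = 3 := by rw [Subgroup.orderOf_coe]; exact ha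
    have hV3 : IsPGroup 3 (M.vImg.subgroupOf L) := IsPGroup.of_card (n := 2) (by
      rw [Nat.card_congr (subgroupOfEquivOfLe hVL).toEquiv, M.card_vImg hchar]; norm_num)
    obtain ⟨R, hR⟩ := hV3.exists_le_sylow
    obtain ⟨R', hR'⟩ := (IsPGroup.of_card (n := 1) (by rw [Nat.card_zpowers, ha', pow_one] :
      Nat.card (zpowers (a : L)) = 3 ^ 1)).exists_le_sylow
    obtain ⟨g, hg⟩ := MulAction.exists_smul_eq L R' R
    have ha1 : g * a * g⁻¹ ∈ (R : Subgroup L) ⊓ σ.ker := by
      refine ⟨?_, Normal.conj_mem inferInstance _ a.2 g⟩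
      rw [← hg]
      exact Subgroup.smul_mem_pointwise_smul (a : L) (MulAut.conj g) _ (hR' (mem_zpowers _))
    set D := (R : Subgroup L) ⊓ σ.ker
    obtain ⟨n, hn⟩ := IsPGroup.iff_card.1 (R.isPGroup'.to_le (inf_le_left : D ≤ R))
    have hn0 : n ≠ 0 := fun e => by
      replace hn : D = ⊥ := Subgroup.card_eq_one.1 (by rw [hn, e, pow_zero])
      replace ha1 : g * (a : L) * g⁻¹ ∈ (⊥ : Subgroup L) := hn.le ha1
      rw [Subgroup.mem_bot] at ha1
      rw [mul_inv_eq_one, mul_eq_left] at ha1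
      rw [ha1, orderOf_one] at ha'
      omega
    obtain ⟨b, ⟨hbD, hb1⟩, hb⟩ := CfsgLib.MathieuTwentyTwo.exists_fixed_of_isPGroup hV3
      ((D : Set L) \ {1}) (by
        rintro v hv w ⟨hw, hw1⟩
        refine ⟨⟨(R : Subgroup L).mul_mem ((R : Subgroup L).mul_mem (hR hv) hw.1) ((R : Subgroup L).inv_mem (hR hv)), Normal.conj_mem inferInstance _ hw.2 v⟩,
          fun e => hw1 ?_⟩
        rw [Set.mem_singleton_iff] at e ⊢
        rwa [mul_inv_eq_one, mul_eq_left] at e) (by
        rw [Set.ncard_sdiff_singleton_of_mem (one_mem D), ← Nat.card_coe_set_eq, SetLike.coe_sort_coe, hn]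
        obtain ⟨m, rfl⟩ := Nat.exists_eq_succ_of_ne_zero hn0
        have : 1 ≤ 3 ^ m := Nat.one_le_pow _ _ (by norm_num)
        rw [pow_succ]
        omega)
    rw [Set.mem_singleton_iff] at hb1
    obtain ⟨k, hk⟩ := R.isPGroup' ⟨b, hbD.1⟩
    obtain ⟨m, hm, hbo⟩ := (Nat.dvd_prime_pow Nat.prime_three).1
      (orderOf_dvd_of_pow_eq_one (congrArg Subtype.val hk : b ^ 3 ^ k = 1))
    obtain ⟨c, hc3, hcb⟩ : ∃ c, orderOf c = 3 ∧ c ∈ zpowers b := by
      have hm0 : m ≠ 0 := fun e => hb1 (orderOf_eq_one_iff.1 (by rw [hbo, e, pow_zero]))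
      refine ⟨b ^ (orderOf b / 3), orderOf_pow_orderOf_div (orderOf_pos b).ne' ?_, pow_mem (mem_zpowers b) _⟩
      rw [hbo]
      exact dvd_pow_self 3 hm0
    have hcK : c ∈ σ.ker := zpowers_le.2 hbD.2 hcb
    have hcc : ∀ v ∈ M.vImg.subgroupOf L, Commute v c := fun v hv => by
      obtain ⟨i, rfl⟩ := mem_zpowers_iff.1 hcb
      exact (show Commute v b from mul_inv_eq_iff_eq_mul.1 (hb v hv)).zpow_right i
    have hxc : Commute M.xq (c : M.Qt) :=
      congrArg Subtype.val (hcc xL (mem_subgroupOf.2 (mem_sup_left (mem_zpowers _))))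
    have hyc : Commute M.yq (c : M.Qt) :=
      congrArg Subtype.val (hcc yL (mem_subgroupOf.2 (mem_sup_right (mem_zpowers _))))
    obtain ⟨d, hd⟩ := M.mem_cImg.1 (show (c : M.Qt) ∈ M.cImg by
      rw [M.cImg_eq]; exact mem_centralizer_singleton_iff.2 hxc.eq.symm)
    obtain ⟨e, he⟩ := M.mem_cImg.1 ht.1
    set py := M.hcov.proj M.yC with hpy
    set pd := M.hcov.proj d with hpd
    have hct : Commute (c : M.Qt) t := mem_centralizer_singleton_iff.1 c.2
    have hdy : Commute py pd := by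
      rw [hpy, hpd]
      show M.hcov.proj M.yC * M.hcov.proj d = M.hcov.proj d * M.hcov.proj M.yC
      rw [← map_mul, ← map_mul]
      exact M.proj_of_fX (by rw [map_mul, map_mul, fX_yC, hd, hyc.eq])
    have hde : Commute (M.hcov.proj e) pd := by
      rw [hpd]
      show M.hcov.proj e * M.hcov.proj d = M.hcov.proj d * M.hcov.proj e
      rw [← map_mul, ← map_mul]
      exact M.proj_of_fX (by rw [map_mul, map_mul, hd, he, hct.eq])
    have hc3' : c ^ 3 = 1 := by rw [← hc3, pow_orderOf_eq_one]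
    have hd3 : pd ^ 3 = 1 := by
      rw [hpd, ← map_pow, M.proj_of_fX (d := 1) (by
        rw [map_pow, hd, map_one, ← SubgroupClass.coe_pow, hc3']; rfl), map_one]
    have hpdn : pd ∉ zpowers py := by
      intro hmem
      obtain ⟨j, hj⟩ := mem_zpowers_iff.1 hmem
      obtain ⟨q, hq, hdq⟩ := M.img_of_proj (c := d) (d := M.yC ^ j) (by rw [map_zpow, ← hpy, hj])
      rw [hd, map_zpow, fX_yC] at hdq
      have h1 := htriv c (hdq ▸ mul_mem (mem_sup_left hq) (mem_sup_right (zpow_mem (mem_zpowers _) j)))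
        (MonoidHom.mem_ker.1 hcK)
      rw [h1, orderOf_one] at hc3
      omega
    set P := zpowers py ⊔ zpowers pd
    have hN : zpowers pd ≤ normalizer ((zpowers py : Subgroup ↥Cfsg.Spor.M22) : Set ↥Cfsg.Spor.M22) :=
      zpowers_le.2 (centralizer_le_normalizer _ (mem_centralizer_iff.2 fun w hw => by
        obtain ⟨i, rfl⟩ := mem_zpowers_iff.1 hw
        exact (hdy.zpow_left i).eq))
    have hP9 : Nat.card P = 9 := by
      have hrel : (zpowers py).relIndex P = 3 := by
        show (zpowers py).relIndex (zpowers py ⊔ zpowers pd) = 3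
        rw [sup_comm, relIndex_sup_normal hN]
        have hd' := relIndex_dvd_card (zpowers py) (zpowers pd)
        have hpd3 : Nat.card (zpowers pd) ∣ 3 := by
          rw [Nat.card_zpowers]; exact orderOf_dvd_of_pow_eq_one hd3
        rcases (Nat.dvd_prime Nat.prime_three).1 (hd'.trans hpd3) with e | e
        · exact absurd (relIndex_eq_one.1 e (mem_zpowers _)) hpdn
        · exact e
      rw [← card_mul_rel (le_sup_left : zpowers py ≤ P), hrel, Nat.card_zpowers, M.proj_y_order]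
    have hPc : P ≤ centralizer ({M.hcov.proj e} : Set ↥Cfsg.Spor.M22) := by
      refine sup_le (zpowers_le.2 (mem_centralizer_singleton_iff.2 ?_))
        (zpowers_le.2 (mem_centralizer_singleton_iff.2 hde.eq.symm))
      exact ((m22.mem_fourOf M.proj_y_order).1 (M.four_proj (he.symm ▸ ht))).1.eq
    have h9 := card_dvd_of_le hPc
    rw [hP9, m22.card_centralizer_involution (M.proj_involution (by rw [he]; exact ht.2.1)
      (by rw [he]; exact ht1))] at h9
    norm_num at h9
  have hU0n : L ≤ normalizer (U0 : Set M.Qt) := by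
    refine le_normalizer_iff.2 fun g hg a ha => ?_
    obtain ⟨a, ha', rfl⟩ := ha
    exact ⟨⟨g, hg⟩ * a * ⟨g, hg⟩⁻¹, Normal.conj_mem inferInstance _ ha' _, rfl⟩
  have hU0le : U0 ≤ M.norX := M.le_norX_of_coprime hchar U0 (hVL.trans hU0n)
    (by rwa [hU0, card_map_of_injective L.subtype_injective])
  have hVN : M.vImg ≤ M.norX := sup_le (zpowers_le.2 (M.cImg_le (fX_xC M ▸ M.fX_mem M.xC)))
    (zpowers_le.2 (M.centralizer_y_le hchar (mem_centralizer_singleton_iff.2 rfl)))
  -- elements fixing the image of `⟨x⟩`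
  have hzp : ∀ g : L, (g : M.Qt) ∈ M.norX → σ g * σ xL * (σ g)⁻¹ ∈ zpowers (σ xL) := by
    intro g hg
    obtain ⟨i, hi⟩ := mem_zpowers_iff.1 (M.conj_mem_of_norX hg)
    refine mem_zpowers_iff.2 ⟨i, ?_⟩
    rw [← map_zpow, ← map_inv, ← map_mul, ← map_mul]
    exact congrArg σ (Subtype.ext (by
      rw [SubgroupClass.coe_zpow]; exact hi))
  have hlift : ∀ (g : L) (v : L), (v : M.Qt) ∈ M.norX → σ g * σ xL * (σ g)⁻¹ = σ v →
      (g : M.Qt) ∈ M.norX := by
    intro g v hv e
    refine M.mem_norX_of_conj hchar ?_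
    have hk : g * xL * g⁻¹ * v⁻¹ ∈ σ.ker := MonoidHom.mem_ker.2 (by
      rw [map_mul, map_mul, map_mul, map_inv, map_inv, e, mul_inv_cancel])
    rw [show (g : M.Qt) * M.xq * (g : M.Qt)⁻¹ = L.subtype (g * xL * g⁻¹ * v⁻¹) * (v : M.Qt) from
      (inv_mul_cancel_right _ _).symm]
    exact mul_mem (hU0le (mem_map_of_mem L.subtype hk)) hv
  intro q hq
  by_cases hcase : σ ⟨q, hq⟩ * σ xL * (σ ⟨q, hq⟩)⁻¹ ∈ zpowers (σ xL)
  · obtain ⟨i, hi⟩ := mem_zpowers_iff.1 hcase
    exact hlift ⟨q, hq⟩ (xL ^ i) (by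
      rw [SubgroupClass.coe_zpow]
      exact zpow_mem (hVN (mem_sup_left (mem_zpowers _))) i) (by rw [map_zpow, hi])
  exfalso
  have hσ3 : ∀ v : L, (v : M.Qt) ^ 3 = 1 → σ v ^ 3 = 1 := fun v hv => by
    rw [← map_pow, show v ^ 3 = 1 from Subtype.ext hv, map_one]
  have hrange : closure {σ xL, σ yL, σ ⟨q, hq⟩} ≤ σ.range :=
    (closure_le _).2 (by rintro _ (rfl | rfl | rfl) <;> exact ⟨_, rfl⟩)
  rcases glFour hT (fun w => Subtype.ext (by rw [pow_two]; exact hsq w.1)) (σ xL) (σ yL) (σ ⟨q, hq⟩)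
      (hσ3 xL M.xq_cube) hxT (hσ3 yL M.yq_cube)
      ((show Commute xL yL from Subtype.ext M.xq_comm.eq).map σ) hyT hcase with
    ⟨h, hh, hh2, hh3⟩ | ⟨U, hU, hU4, hU2, hUx, hUy, u, hu, hux⟩
  · obtain ⟨g, rfl⟩ := hrange hh
    have hle : closure {σ xL, σ yL} ≤ (M.vImg.subgroupOf L).map σ := (closure_le _).2 (by
      rintro _ (rfl | rfl)
      exacts [mem_map_of_mem _ (mem_subgroupOf.2 (mem_sup_left (mem_zpowers _))),
        mem_map_of_mem _ (mem_subgroupOf.2 (mem_sup_right (mem_zpowers _)))])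
    obtain ⟨v, hv, hve⟩ := hle hh2
    exact hh3 (hzp g (hlift g v (hVN (mem_subgroupOf.1 hv)) hve.symm))
  · obtain ⟨g, rfl⟩ := hrange (hU hu)
    set U' := (U.comap σ).map L.subtype with hU'
    have hn : M.vImg ≤ normalizer (U' : Set M.Qt) := by
      refine sup_le (zpowers_le.2 ?_) (zpowers_le.2 ?_)
      · refine CfsgLib.MathieuTwentyTwo.mem_normalizer_of_conj_mem ?_
        rintro _ ⟨a, ha, rfl⟩
        exact ⟨xL * a * xL⁻¹, by
          rw [SetLike.mem_coe, mem_comap, map_mul, map_mul, map_inv]; exact hUx _ (mem_comap.1 ha), rfl⟩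
      · refine CfsgLib.MathieuTwentyTwo.mem_normalizer_of_conj_mem ?_
        rintro _ ⟨a, ha, rfl⟩
        exact ⟨yL * a * yL⁻¹, by
          rw [SetLike.mem_coe, mem_comap, map_mul, map_mul, map_inv]; exact hUy _ (mem_comap.1 ha), rfl⟩
    have h3 : ¬ 3 ∣ Nat.card U' := by
      rw [hU', card_map_of_injective L.subtype_injective]
      intro h3
      obtain ⟨a, ha⟩ := exists_prime_orderOf_dvd_card' (G := U.comap σ) 3 h3
      have ha3 : (a : L) ^ 3 = 1 := by
        rw [← ha, ← Subgroup.orderOf_coe, pow_orderOf_eq_one]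
      have e3 : σ a ^ 3 = 1 := by rw [← map_pow, ha3, map_one]
      have e2 : σ a ^ 2 = 1 := hU2 _ (mem_comap.1 a.2)
      have e1 : σ a = 1 := by simpa using pow_gcd_eq_one.2 ⟨e3, e2⟩
      refine h3U ?_
      rw [← ha, ← Subgroup.orderOf_coe]
      exact Subgroup.orderOf_dvd_natCard _ (MonoidHom.mem_ker.2 e1)
    have hgN : (g : M.Qt) ∈ M.norX :=
      M.le_norX_of_coprime hchar U' hn h3 (mem_map_of_mem L.subtype (mem_comap.2 hu))
    obtain ⟨i, hi⟩ := mem_zpowers_iff.1 (hzp g hgN)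
    have hmem : σ xL ^ i * (σ xL)⁻¹ ∈ U := by
      rw [hi, show σ g * σ xL * (σ g)⁻¹ * (σ xL)⁻¹ = σ g * (σ xL * (σ g)⁻¹ * (σ xL)⁻¹) by group]
      exact mul_mem hu (hUx _ (inv_mem hu))
    have e2 := hU2 _ hmem
    have e3 : (σ xL ^ i * (σ xL)⁻¹) ^ 3 = 1 := by
      rw [((Commute.refl (σ xL)).zpow_left i).inv_right.mul_pow, inv_pow, hσ3 xL M.xq_cube,
        ← zpow_natCast, ← zpow_mul, mul_comm i, zpow_mul, zpow_natCast, hσ3 xL M.xq_cube, one_zpow,
        inv_one, one_mul]
    have e1 : σ xL ^ i * (σ xL)⁻¹ = 1 := by simpa using pow_gcd_eq_one.2 ⟨e3, e2⟩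
    rw [mul_inv_eq_one, hi] at e1
    exact hux (mul_inv_eq_iff_eq_mul.1 e1).symm

include hchar in
/-- The centraliser of an inner involution normalises `⟨x⟩`. -/
theorem inner_centralizer {t : M.Qt} (ht : t ∈ M.cImg) (ht2 : orderOf t = 2) :
    centralizer {t} ≤ M.norX := by
  haveI : Fact (Nat.Prime 2) := ⟨Nat.prime_two⟩
  obtain ⟨t0, h0, h01, hle⟩ := M.exists_four_centralizer hchar
  obtain ⟨c, hc, rfl⟩ := M.inner_class h0.1 ht
    (orderOf_eq_prime (by rw [pow_two]; exact h0.2.1) h01) ht2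
  intro q hq
  rw [mem_centralizer_singleton_iff] at hq
  have h1 : c⁻¹ * q * c ∈ M.norX := hle (mem_centralizer_singleton_iff.2 (by
    calc c⁻¹ * q * c * t0 = c⁻¹ * (q * (c * t0 * c⁻¹)) * c := by group
      _ = _ := by rw [hq]; group))
  simpa [mul_assoc] using mul_mem (mul_mem (M.cImg_le hc) h1) (inv_mem (M.cImg_le hc))

end Setup

end CfsgLib.J4Cover
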