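import Cfsg.Agent.Lib.J4Cover.Invol
import Cfsg.Agent.Lib.J4Cover.Criterion
import Cfsg.Agent.Lib.J4Cover.AutQuot

/-!
`⟨x⟩` is normal in `C(z)/E`, and the quotient by it is the automorphism group of `M22`.
-/

set_option autoImplicit false
set_option linter.unusedSectionVars false

namespace CfsgLib.J4Cover

open Subgroup

universe u

namespace Setup

variable {G : Type u} [Group G] [Finite G] (M : Setup G)

theorem norX_cases {q : M.Qt} (hq : q ∈ M.norX) : q ∈ M.cImg ∨ q * M.xq * q⁻¹ = M.xq⁻¹ := by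
  obtain ⟨i, hi⟩ := mem_zpowers_iff.1 (M.conj_mem_of_norX hq)
  rcases CfsgLib.MathieuTwentyTwo.NseRoute.zpow_three_cases M.xq_order i with e | e | e <;> rw [e] at hi
  · exact absurd (by simpa using hi.symm) M.xq_ne_one
  · left
    rw [M.cImg_eq, mem_centralizer_singleton_iff]
    exact mul_inv_eq_iff_eq_mul.1 hi.symm
  · exact Or.inr hi.symm

theorem exists_invert : ∃ a ∈ M.norX, a ∉ M.cImg ∧ a * M.xq * a⁻¹ = M.xq⁻¹ := by
  obtain ⟨w, hw, hwx, -⟩ := M.exists_inverter
  have e : M.mq ⟨w, hw⟩ * M.xq * (M.mq ⟨w, hw⟩)⁻¹ = M.xq⁻¹ := by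
    rw [xq, ← map_inv, ← map_inv, ← map_mul, ← map_mul]
    exact congrArg M.mq (Subtype.ext hwx)
  refine ⟨_, M.mem_norX (e ▸ inv_mem (mem_zpowers _)), fun hmem => ?_, e⟩
  have hc := M.comm_xq hmem
  rw [hc.eq, mul_inv_cancel_right] at e
  refine M.xq_ne_one (M.eq_one_of_sq (mem_zpowers _) ?_)
  nth_rw 1 [e]
  exact inv_mul_cancel _

theorem relIndex_cImg : M.cImg.relIndex M.norX = 2 := by
  obtain ⟨a, ha, haC, hax⟩ := M.exists_invert
  refine relIndex_eq_two_iff.2 ⟨a, ha, fun b hb => ?_⟩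
  rcases M.norX_cases hb with h | h
  · exact Or.inr ⟨h, fun h' => haC ((mul_mem_cancel_left h).1 h')⟩
  · refine Or.inl ⟨?_, fun h' => ?_⟩
    · rw [M.cImg_eq, mem_centralizer_singleton_iff]
      refine mul_inv_eq_iff_eq_mul.1 ?_
      calc b * a * M.xq * (b * a)⁻¹ = b * (a * M.xq * a⁻¹) * b⁻¹ := by group
        _ = (b * M.xq * b⁻¹)⁻¹ := by rw [hax]; group
        _ = M.xq := by rw [h, inv_inv]
    · have hc := M.comm_xq h'
      rw [hc.eq, mul_inv_cancel_right] at h
      refine M.xq_ne_one (M.eq_one_of_sq (mem_zpowers _) ?_)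
      nth_rw 1 [h]
      exact inv_mul_cancel _

theorem cImg_eq_range : M.cImg = M.fX.range := Subgroup.ext fun _ => M.mem_cImg

theorem cImg_perfect : commutator M.cImg = ⊤ := by
  rw [cImg_eq_range, _root_.commutator_def,
    ← map_top_of_surjective M.fX.rangeRestrict M.fX.rangeRestrict_surjective, ← map_commutator,
    ← _root_.commutator_def, M.hcov.perfect]

theorem cImg_not_solvable : ¬ Group.IsSolvable M.cImg := by
  intro h
  haveI : Nontrivial M.cImg :=
    ⟨⟨⟨M.xq, M.fX_xC ▸ M.fX_mem M.xC⟩, 1, fun e => M.xq_ne_one (congrArg Subtype.val e)⟩⟩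
  exact (Group.IsSolvable.commutator_lt_top_of_nontrivial M.cImg).ne M.cImg_perfect

variable (hchar : Cfsg.IsCharacteristicTwoType G)

include hchar in
theorem inner_not_conj {t v : M.Qt} (ht : t ∈ M.cImg) (hv : v ∈ M.norX) (hvC : v ∉ M.cImg)
    (ht2 : orderOf t = 2) (hv2 : orderOf v = 2) : ¬ IsConj t v := by
  intro hconj
  haveI : Fact (Nat.Prime 2) := ⟨Nat.prime_two⟩
  obtain ⟨W, _, _, ρ, t0, h0, h01, hcard, hsq, hx1, hT, -⟩ := M.exists_four_sixteen hchar
  obtain ⟨c, -, hct⟩ := M.inner_class h0.1 ht (orderOf_eq_prime (by rw [pow_two]; exact h0.2.1) h01) ht2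
  obtain ⟨g, hg⟩ := isConj_iff.1 ((isConj_iff.2 ⟨c, hct⟩ : IsConj t0 t).trans hconj)
  let act : M.Qt → Additive W ≃+ Additive W := fun q => MulEquiv.toAdditive (ρ q)
  have hmul : ∀ a b w, act (a * b) w = act a (act b w) := fun a b w =>
    congrArg Additive.ofMul (DFunLike.congr_fun (map_mul ρ a b) w.toMul)
  have hone : ∀ w, act 1 w = w := fun w =>
    congrArg Additive.ofMul (DFunLike.congr_fun (map_one ρ) w.toMul)
  have hvx : v * M.xq = M.xq * (M.xq * v) := by
    rcases M.norX_cases hv with h | h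
    · exact absurd h hvC
    · rw [mul_inv_eq_iff_eq_mul.1 h, inv_eq_of_mul_eq_one_right (a := M.xq) (b := M.xq * M.xq) (by
        rw [← mul_assoc, ← pow_two, ← pow_succ]; exact M.xq_cube), mul_assoc]
  have hfix := card_fixed_of_inverts (fun w => congrArg Additive.ofMul (hsq w.toMul)) (act M.xq)
    (fun w hw => congrArg Additive.ofMul (hx1 w.toMul (congrArg Additive.toMul hw)))
    (fun w => by
      rw [← hmul, ← hmul, ← pow_two, ← pow_succ, M.xq_cube, hone])
    (act v) (fun w => by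
      rw [← hmul, show v * v = 1 by rw [← pow_two, ← hv2, pow_orderOf_eq_one], hone])
    (fun w => by rw [← hmul, ← hmul, ← hmul, hvx, mul_assoc])
  have hker : Nat.card (sqHom (ρ t0)).ker = Nat.card {w : Additive W // act v w = w} := by
    refine Nat.card_congr (Equiv.subtypeEquiv
      ((ρ g).toEquiv.trans Additive.ofMul) fun w => ?_)
    show sqHom (ρ t0) w = 1 ↔ Additive.ofMul (ρ v (ρ g w)) = Additive.ofMul (ρ g w)
    have e : ρ v (ρ g w) = ρ g (ρ t0 w) := by
      rw [← MulAut.mul_apply, ← map_mul, ← hg, inv_mul_cancel_right, map_mul, MulAut.mul_apply]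
    rw [e, Additive.ofMul.injective.eq_iff, (ρ g).injective.eq_iff, sqHom_apply]
    exact ⟨fun h => mul_right_cancel (h.trans (hsq w).symm), fun h => by rw [h, hsq]⟩
  have e := card_eq_card_quotient_mul_card_subgroup (sqHom (ρ t0)).ker
  rw [Nat.card_congr (QuotientGroup.quotientKerEquivRange (sqHom (ρ t0))).toEquiv, hT, hker, hcard] at e
  rw [show Nat.card (Additive W) = Nat.card W from rfl, hcard] at hfix
  set k := Nat.card {w : Additive W // act v w = w}
  rw [show k = 256 by norm_num at e; omega] at hfix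
  norm_num at hfix

include hchar in
/-- `⟨x⟩` is normal in `C(z)/E`. -/
theorem norX_eq_top : M.norX = ⊤ := by
  haveI : Fact (Nat.Prime 2) := ⟨Nat.prime_two⟩
  haveI : Nontrivial (CfsgLib.MathieuTwentyTwo.NseRoute.fourOf (M.hcov.proj M.yC)) :=
    Finite.one_lt_card_iff_nontrivial.1 (by rw [m22.card_fourOf M.proj_y_order]; norm_num)
  refine eq_top_of_inner_centralizers M.norX M.cImg M.cImg_le M.relIndex_cImg M.cImg_perfect
    M.cImg_not_solvable ?_ (fun t ht ht2 => M.inner_centralizer hchar ht ht2)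
    (fun s hs t ht hs2 ht2 => M.inner_class hs ht hs2 ht2)
    (fun t ht v hv hvC ht2 hv2 => M.inner_not_conj hchar ht hv hvC ht2 hv2)
  obtain ⟨v1, hv1, n1⟩ := m22.exists_ne_one_fourOf M.proj_y_order
  obtain ⟨v2, hv2, n2, n12⟩ : ∃ v2 ∈ CfsgLib.MathieuTwentyTwo.NseRoute.fourOf (M.hcov.proj M.yC),
      v2 ≠ 1 ∧ v1 ≠ v2 := by
    by_contra hc
    push Not at hc
    have hle := Set.ncard_le_ncard (s := (CfsgLib.MathieuTwentyTwo.NseRoute.fourOf
      (M.hcov.proj M.yC) : Set ↥Cfsg.Spor.M22)) (t := {1, v1}) (fun w hw => by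
        by_cases h1 : w = 1
        · exact Or.inl h1
        · exact Or.inr (hc w hw h1).symm) (Set.toFinite _)
    rw [← Nat.card_coe_set_eq, SetLike.coe_sort_coe, m22.card_fourOf M.proj_y_order] at hle
    have := hle.trans (Set.ncard_insert_le _ _)
    rw [Set.ncard_singleton] at this
    omega
  obtain ⟨a, ha, rfl⟩ := M.exists_four_over hv1
  obtain ⟨b, hb, rfl⟩ := M.exists_four_over hv2
  have hne : ∀ c : cC M.x, M.hcov.proj c ≠ 1 → M.fX c ≠ 1 := fun c hc e =>
    hc (by rw [M.proj_of_fX (d := 1) (by rw [e, map_one]), map_one])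
  exact ⟨M.fX a, M.fX b, M.fX_mem a, M.fX_mem b,
    orderOf_eq_prime (by rw [pow_two]; exact ha.2.1) (hne a n1),
    orderOf_eq_prime (by rw [pow_two]; exact hb.2.1) (hne b n2),
    fun e => n12 (M.proj_of_fX e), M.four_comm ha hb⟩

include hchar in
theorem zpowers_xq_normal : (zpowers M.xq).Normal := normalizer_eq_top_iff.1 (M.norX_eq_top hchar)

include hchar in
theorem index_cImg : M.cImg.index = 2 := by
  have := M.relIndex_cImg
  rwa [M.norX_eq_top hchar, relIndex_top_right] at this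

include hchar in
/-- The quotient by `⟨x⟩`. -/
theorem quot_iso [(zpowers M.xq).Normal] :
    Nonempty (M.Qt ⧸ zpowers M.xq ≃* MulAut ↥Cfsg.Spor.M22) := by
  have hlift : ∀ c : M.cImg, ∃ d, M.fX d = c.1 := fun c => M.mem_cImg.1 c.2
  choose g hg using hlift
  let φ : M.cImg →* ↥Cfsg.Spor.M22 :=
    { toFun := fun c => M.hcov.proj (g c)
      map_one' := by rw [M.proj_of_fX (d := 1) (by rw [hg, map_one]; rfl), map_one]
      map_mul' := fun a b => by
        rw [← map_mul]
        exact M.proj_of_fX (by rw [map_mul, hg, hg, hg]; rfl) }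
  refine nonempty_quot_equiv_mulAut M.xq M.xq_order M.cImg M.cImg_eq (M.index_cImg hchar)
    M.cImg_perfect φ (fun m => ?_) fun c => ⟨fun h => ?_, fun h => ?_⟩
  · obtain ⟨d, rfl⟩ := M.hcov.proj_surjective m
    exact ⟨⟨M.fX d, M.fX_mem d⟩, M.proj_of_fX (hg _)⟩
  · rw [← hg c]
    exact M.center_img (M.hcov.mem_ker.1 h)
  · obtain ⟨i, hi⟩ := mem_zpowers_iff.1 h
    show M.hcov.proj (g c) = 1
    rw [M.proj_of_fX (d := M.xC ^ i) (by rw [hg, ← hi, map_zpow, fX_xC]), M.hcov.mem_ker]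
    exact zpow_mem M.xC_center i

end Setup

end CfsgLib.J4Cover
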