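import Cfsg.Agent.Lib.J4Cover.Core
import Cfsg.Agent.Lib.J4Cover.RankFour
import Cfsg.Agent.Lib.Components.Local
import Cfsg.Agent.Lib.Solvable.CoprimeGeneration

/-!
The quotient `C(z)/E`: `x` is not fused to the other elements of `⟨x, y⟩`, and subgroups of order
prime to three normalised by `⟨x, y⟩` normalise `⟨x⟩`.
-/

set_option autoImplicit false
set_option linter.unusedSectionVars false

namespace CfsgLib.J4Cover

open Subgroup

universe u

namespace Setup

variable {G : Type u} [Group G] [Finite G] (M : Setup G)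

/-- The core as a subgroup of `C(z)`. -/
abbrev coreH : Subgroup (cC M.z) := Cfsg.pCore 2 ↥(cC M.z)

instance coreH_normal_inst : M.coreH.Normal := inferInstance

theorem mem_coreH {h : cC M.z} : h ∈ M.coreH ↔ (h : G) ∈ M.core :=
  ⟨fun hh => ⟨h, hh, rfl⟩, fun ⟨k, hk, e⟩ => (Subtype.ext e : k = h) ▸ hk⟩

theorem coreH_coprime : (Nat.card M.coreH).Coprime 3 := by
  have : Fact (Nat.Prime 2) := ⟨Nat.prime_two⟩
  obtain ⟨n, hn⟩ := IsPGroup.iff_card.1 (CfsgLib.PCore.pCore_isPGroup (p := 2) (G := ↥(cC M.z)))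
  rw [hn]
  exact Nat.Coprime.pow_left n (by norm_num)

/-- `C(z)/E`. -/
abbrev Qt := ↥(cC M.z) ⧸ M.coreH

/-- The projection. -/
abbrev mq : ↥(cC M.z) →* M.Qt := QuotientGroup.mk' _

/-- `x` in `C(z)`. -/
abbrev xH : cC M.z := ⟨M.x, M.x_mem⟩

/-- `y` in `C(z)`. -/
abbrev yH : cC M.z := ⟨M.y, M.y_mem⟩

/-- The image of `x`. -/
abbrev xq : M.Qt := M.mq M.xH

/-- The image of `y`. -/
abbrev yq : M.Qt := M.mq M.yH

/-- The image of `C(x)`. -/
def cImg : Subgroup M.Qt := ((cC M.x).subgroupOf (cC M.z)).map M.mq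

/-- `N(⟨x⟩)` in the quotient. -/
def norX : Subgroup M.Qt := normalizer ((zpowers M.xq : Subgroup M.Qt) : Set M.Qt)

/-- The image of `C(z) ∩ C(v)` is the centraliser of the image of `v`. -/
theorem map_cC {v : cC M.z} (hv : orderOf (v : G) = 3) :
    ((cC (v : G)).subgroupOf (cC M.z)).map M.mq = centralizer {M.mq v} := by
  have : Fact (Nat.Prime 3) := ⟨Nat.prime_three⟩
  have h := CfsgLib.Components.map_centralizer_quotient (G := ↥(cC M.z)) M.coreH_coprime
    (P := zpowers v) (IsPGroup.of_card (n := 1)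
      (by rw [Nat.card_zpowers, ← Subgroup.orderOf_coe, hv, pow_one]))
  rw [MonoidHom.map_zpowers] at h
  have hz : ∀ {H : Type u} [Group H] (a : H),
      centralizer ((zpowers a : Subgroup H) : Set H) = centralizer ({a} : Set H) := fun a => by
    rw [zpowers_eq_closure, centralizer_closure]
  rw [hz, hz] at h
  refine Eq.trans (congrArg _ ?_) h
  ext c
  rw [mem_subgroupOf, mem_cC, mem_centralizer_singleton_iff]
  exact ⟨fun e => Subtype.ext e.eq, fun e => congrArg Subtype.val e⟩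

theorem cImg_eq : M.cImg = centralizer {M.xq} := M.map_cC (v := M.xH) M.hx

theorem cImg_le : M.cImg ≤ M.norX := by
  rw [cImg_eq, norX]
  refine le_trans (le_of_eq ?_) (centralizer_le_normalizer _)
  rw [zpowers_eq_closure, centralizer_closure]

variable (hchar : Cfsg.IsCharacteristicTwoType G)

include hchar in
theorem comm_core {e a : G} (he : e ∈ M.core) (ha : a ∈ M.core) :
    a⁻¹ * (e * a * e⁻¹) ∈ zpowers M.z := by
  obtain ⟨-, -, hsq⟩ := M.core_card hchar
  have hc : ∀ w ∈ zpowers M.z, ∀ q ∈ M.core, w * q = q * w := fun w hw q hq => by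
    obtain ⟨i, rfl⟩ := mem_zpowers_iff.1 hw
    exact ((mem_cC.1 (M.core_le hq)).symm.zpow_left i).eq
  have h1 := hsq _ ha
  have h2 := hsq _ (mul_mem ha he)
  have h3 := hsq _ he
  have e1 : a⁻¹ * (e * a * e⁻¹) = (a * a)⁻¹ * (a * e * (a * e)) * (e * e)⁻¹ := by group
  rw [e1]
  exact mul_mem (mul_mem (inv_mem h1) h2) (inv_mem h3)

include hchar in
/-- Conjugation on `E/⟨z⟩`. -/
theorem exists_act : ∃ (W : Type u) (_ : CommGroup W) (_ : Finite W) (ρ : M.Qt →* MulAut W)
    (π : M.core →* W), Function.Surjective π ∧ (∀ a : M.core, π a = 1 ↔ (a : G) ∈ zpowers M.z) ∧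
    (∀ w : W, w * w = 1) ∧ Nat.card W = 2 ^ 12 ∧
    ∀ (h : cC M.z) (a : M.core), ρ (M.mq h) (π a) =
      π ⟨(h : G) * a * (h : G)⁻¹, M.core_conj h.2 a.2⟩ := by
  obtain ⟨hcard, -, hsq⟩ := M.core_card hchar
  have hzc : ∀ h ∈ cC M.z, ∀ a ∈ zpowers M.z, h * a * h⁻¹ ∈ zpowers M.z := fun h hh a ha => by
    obtain ⟨i, rfl⟩ := mem_zpowers_iff.1 ha
    rw [((mem_cC.1 hh).zpow_right i).eq, mul_inv_cancel_right]
    exact zpow_mem (mem_zpowers _) i
  haveI hn : ((zpowers M.z).subgroupOf M.core).Normal :=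
    ⟨fun b hb a => mem_subgroupOf.2 (hzc _ (M.core_le a.2) _ (mem_subgroupOf.1 hb))⟩
  let W := ↥M.core ⧸ (zpowers M.z).subgroupOf M.core
  have hsq' : ∀ w : W, w * w = 1 := by
    intro w
    obtain ⟨a, rfl⟩ := QuotientGroup.mk_surjective w
    exact (QuotientGroup.eq_one_iff (a * a)).2 (mem_subgroupOf.2 (hsq a a.2))
  have hcomm : ∀ a b : W, a * b = b * a := fun a b => by
    calc a * b = a * (a * b * (a * b)) * b := by rw [hsq', mul_one]
      _ = a * a * (b * a) * (b * b) := by group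
      _ = b * a := by rw [hsq', hsq', one_mul, mul_one]
  let inst : CommGroup W := { (inferInstance : Group W) with mul_comm := hcomm }
  let ρ0 : cC M.z →* MulAut W :=
    sectionAct (cC M.z) M.core (zpowers M.z) (fun h hh a ha => M.core_conj hh ha) hzc
  have hker : M.coreH ≤ ρ0.ker := fun e he => MonoidHom.mem_ker.2 (MulEquiv.ext fun w => by
    obtain ⟨a, rfl⟩ := QuotientGroup.mk_surjective w
    exact (QuotientGroup.eq.2 (mem_subgroupOf.2 (M.comm_core hchar (M.mem_coreH.1 he) a.2))).symm)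
  refine ⟨W, inst, inferInstance, QuotientGroup.lift _ ρ0 hker, QuotientGroup.mk' _,
    QuotientGroup.mk'_surjective _, fun a => (QuotientGroup.eq_one_iff a).trans mem_subgroupOf,
    hsq', ?_, fun h a => rfl⟩
  have e := card_eq_card_quotient_mul_card_subgroup ((zpowers M.z).subgroupOf M.core)
  rw [hcard, Nat.card_congr (subgroupOfEquivOfLe M.zpowers_z_le).toEquiv, Nat.card_zpowers, M.hz] at e
  show Nat.card (↥M.core ⧸ (zpowers M.z).subgroupOf M.core) = 2 ^ 12
  omega

/-- `x` has no fixed point on `E/⟨z⟩`. -/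
theorem act_fpf {W : Type u} [CommGroup W] (ρ : M.Qt →* MulAut W) (π : M.core →* W)
    (hπ : Function.Surjective π) (hker : ∀ a : M.core, π a = 1 ↔ (a : G) ∈ zpowers M.z)
    (hρ : ∀ (h : cC M.z) (a : M.core), ρ (M.mq h) (π a) =
      π ⟨(h : G) * a * (h : G)⁻¹, M.core_conj h.2 a.2⟩) {w : W} (hw : ρ M.xq w = w) : w = 1 := by
  obtain ⟨a, rfl⟩ := hπ w
  rw [hρ] at hw
  have hmem : (a : G)⁻¹ * (M.x * a * M.x⁻¹) ∈ zpowers M.z := by
    refine (hker (a⁻¹ * ⟨_, M.core_conj M.x_mem a.2⟩)).1 ?_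
    rw [map_mul, map_inv, hw, inv_mul_cancel]
  obtain ⟨b, hb, hc⟩ := exists_fixed_in_coset M.hx (M.core_two.to_le M.zpowers_z_le)
    (fun b hb => by
      obtain ⟨i, rfl⟩ := mem_zpowers_iff.1 hb
      rw [((M.hzx.symm).zpow_right i).eq, mul_inv_cancel_right]
      exact zpow_mem (mem_zpowers _) i) hmem
  have h1 := M.fixed_x (mul_mem a.2 (M.zpowers_z_le hb)) hc.symm
  rw [hker]
  exact (mul_mem_cancel_right hb).1 h1

/-- The elements of `⟨x, y⟩` other than the powers of `x`, up to conjugation in `C(x)`. -/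
def IsOther (v : G) : Prop :=
  orderOf v = 3 ∧ v ∈ cC M.x ∧ ∃ c ∈ cC M.x, c * v * c⁻¹ = M.y ∨ c * v * c⁻¹ = M.y⁻¹

theorem isOther_y : M.IsOther M.y :=
  ⟨M.y_order, mem_cC.2 M.hxy.symm, 1, one_mem _, Or.inl (by simp)⟩

theorem other_of_mem {v : G} (hv : v ∈ zpowers M.x ⊔ zpowers M.y) (hn : v ∉ zpowers M.x) :
    M.IsOther v := by
  obtain ⟨a, ha, b, hb, rfl⟩ := CfsgLib.Coprime.exists_mul_of_mem_sup
    (centralizer_le_normalizer _ |>.trans' (zpowers_le.2 (mem_centralizer_iff.2 fun w hw => by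
      obtain ⟨i, rfl⟩ := mem_zpowers_iff.1 hw
      exact (M.hxy.symm.zpow_left i).eq))) hv
  obtain ⟨i, rfl⟩ := mem_zpowers_iff.1 ha
  obtain ⟨j, rfl⟩ := mem_zpowers_iff.1 hb
  obtain ⟨s, hs, hse⟩ := M.exists_cycle
  have hsx : Commute s M.x := mem_cC.1 hs
  have hpow : ∀ k : ℕ, s ^ k * M.y * (s ^ k)⁻¹ = M.x ^ k * M.y := by
    intro k
    induction k with
    | zero => simp
    | succ k ih =>
      calc s ^ (k + 1) * M.y * (s ^ (k + 1))⁻¹ = s * (s ^ k * M.y * (s ^ k)⁻¹) * s⁻¹ := by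
            rw [pow_succ']; group
        _ = s * (M.x ^ k) * M.y * s⁻¹ := by rw [ih]; group
        _ = M.x ^ k * (s * M.y * s⁻¹) := by rw [(hsx.pow_right k).eq]; group
        _ = _ := by rw [hse, pow_succ]; group
  have hx3 : ∀ k : ℤ, M.x ^ k = M.x ^ (k % 3).toNat := fun k => by
    rw [← zpow_natCast, Int.toNat_of_nonneg (Int.emod_nonneg k (by norm_num)),
      show (3 : ℤ) = ((orderOf M.x : ℕ) : ℤ) by rw [M.hx]; norm_num, zpow_mod_orderOf]
  have hy3 : M.y ^ j = M.y ^ (j % 3) := by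
    rw [show (3 : ℤ) = ((orderOf M.y : ℕ) : ℤ) by rw [M.y_order]; norm_num, zpow_mod_orderOf]
  have hj : j % 3 = 0 ∨ j % 3 = 1 ∨ j % 3 = 2 := by omega
  rcases hj with e | e | e <;> rw [hy3, e]
  · exact absurd (by rw [hy3, e, zpow_zero, mul_one]; exact zpow_mem (mem_zpowers _) _) hn
  · rw [zpow_one, hx3]
    refine ⟨?_, mem_cC.2 (((Commute.refl M.x).pow_left _).mul_left M.hxy.symm), (s ^ (i % 3).toNat)⁻¹,
      inv_mem (pow_mem hs _), Or.inl ?_⟩
    · rw [← hpow, CfsgLib.MathieuTwentyTwo.orderOf_conj, M.y_order]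
    · rw [← hpow]; group
  · have hy2 : M.y ^ (2 : ℤ) = M.y⁻¹ := by
      rw [eq_inv_iff_mul_eq_one, ← zpow_add_one]
      exact_mod_cast M.y_cube
    rw [hy2]
    have e' : M.x ^ i * M.y⁻¹ = (M.x ^ (-i) * M.y)⁻¹ := by
      rw [mul_inv_rev, zpow_neg, inv_inv, (M.hxy.zpow_left i).inv_right.eq]
    rw [e', hx3 (-i)]
    refine ⟨?_, inv_mem (mem_cC.2 (((Commute.refl M.x).pow_left _).mul_left M.hxy.symm)),
      (s ^ ((-i) % 3).toNat)⁻¹, inv_mem (pow_mem hs _), Or.inr ?_⟩
    · rw [orderOf_inv, ← hpow, CfsgLib.MathieuTwentyTwo.orderOf_conj, M.y_order]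
    · rw [← hpow]; group

include hchar in
/-- `x` is not conjugate to the other elements modulo `E`. -/
theorem not_conj {v : cC M.z} (hv : M.IsOther (v : G)) (q : M.Qt) : q * M.xq * q⁻¹ ≠ M.mq v := by
  intro e
  obtain ⟨W, _, _, ρ, π, hπ, hker, -, -, hρ⟩ := M.exists_act hchar
  have hx1 : ∀ w, ρ M.xq w = w → w = 1 := fun w hw => M.act_fpf ρ π hπ hker hρ hw
  obtain ⟨-, hE5, -⟩ := M.core_card hchar
  obtain ⟨-, hvx, c, hc, hcv⟩ := hv
  -- an element of `E` fixed by `v`, outside `⟨z⟩`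
  obtain ⟨a, ha, haz⟩ : ∃ a ∈ M.core ⊓ cC M.y, a ∉ zpowers M.z := by
    by_contra hcon
    push Not at hcon
    have := card_le_of_le (H := M.core ⊓ cC M.y) (K := zpowers M.z) hcon
    rw [hE5, Nat.card_zpowers, M.hz] at this
    omega
  have hcz := M.le_cen_z hc
  set a' := c⁻¹ * a * c with ha'
  have ha'E : a' ∈ M.core := by simpa using M.core_conj (inv_mem hcz) ha.1
  have hva : (v : G) * a' * (v : G)⁻¹ = a' := by
    have hay : Commute a (c * v * c⁻¹) := by
      rcases hcv with e | e <;> rw [e]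
      exacts [mem_cC.1 ha.2, (mem_cC.1 ha.2 : Commute a M.y).inv_right]
    have h := hay.map (MulAut.conj c⁻¹).toMonoidHom
    simp only [MulEquiv.coe_toMonoidHom, MulAut.conj_apply, inv_inv] at h
    rw [show c⁻¹ * (c * v * c⁻¹) * c = (v : G) by group] at h
    rw [← h.eq, mul_inv_cancel_right]
  have hfix : ρ (M.mq v) (π ⟨a', ha'E⟩) = π ⟨a', ha'E⟩ := by
    rw [hρ]; exact congrArg π (Subtype.ext hva)
  rw [← e, map_mul, map_mul, map_inv, MulAut.mul_apply, MulAut.mul_apply] at hfix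
  have h1 := hx1 _ ((ρ q).injective (by rw [hfix, MulAut.apply_inv_self]))
  have h2 : π ⟨a', ha'E⟩ = 1 := by
    have := congrArg (ρ q) h1
    rwa [MulAut.apply_inv_self, map_one] at this
  have h3 := (hker _).1 h2
  obtain ⟨i, hi⟩ := mem_zpowers_iff.1 h3
  refine haz (mem_zpowers_iff.2 ⟨i, ?_⟩)
  have hi' : M.z ^ i = c⁻¹ * a * c := hi
  calc M.z ^ i = c * M.z ^ i * c⁻¹ := by rw [((mem_cC.1 hcz).zpow_right i).eq, mul_inv_cancel_right]
    _ = a := by rw [hi']; group

/-- The four group over `fourOf` inside `C(x) ∩ C(y)`. -/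
theorem exists_K : ∃ K : Subgroup G, IsPGroup 2 K ∧ Nat.card K = 8 ∧ K ≤ cC M.x ∧ K ≤ cC M.y ∧
    (K.subgroupOf (cC M.x)).map M.hcov.proj =
      CfsgLib.MathieuTwentyTwo.NseRoute.fourOf (M.hcov.proj ⟨M.y, mem_cC.2 M.hxy.symm⟩) := by
  obtain ⟨K0, hK2, hK8, hKy, hKm⟩ := M.hcov.exists_four_lift M.xC_center M.xC_order
    (y := ⟨M.y, mem_cC.2 M.hxy.symm⟩) (by rw [← Subgroup.orderOf_coe]; exact M.y_order)
    (fun hmem => M.hy (by
      obtain ⟨i, hi⟩ := mem_zpowers_iff.1 hmem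
      exact mem_zpowers_iff.2 ⟨i, congrArg Subtype.val hi⟩))
  refine ⟨K0.map (cC M.x).subtype, hK2.map _, ?_, map_subtype_le _, ?_, ?_⟩
  · rw [card_map_of_injective (subtype_injective _), hK8]
  · rintro _ ⟨k, hk, rfl⟩
    exact mem_cC.2 (congrArg Subtype.val (hKy k hk))
  · rw [← hKm]
    congr 1
    exact comap_map_eq_self_of_injective (subtype_injective _) K0

/-- A map of `C(y)` onto `M22`. -/
theorem exists_projY : ∃ π : ↥(cC M.y) →* ↥Cfsg.Spor.M22, Function.Surjective π ∧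
    Nat.card π.ker = 6 ∧ (∀ c : cC M.y, π c = 1 → ∀ d : cC M.y, c * d = d * c) ∧
    (∀ c : cC M.y, (∀ d : cC M.y, c * d = d * c) → π c = 1) := by
  obtain ⟨g, hg⟩ := M.hconj
  have hmem : ∀ c : cC M.y, g⁻¹ * (c : G) * g ∈ cC M.x := fun c => mem_cC.2 (by
    have h := (mem_cC.1 c.2).map (MulAut.conj g⁻¹).toMonoidHom
    simp only [MulEquiv.coe_toMonoidHom, MulAut.conj_apply, inv_inv] at h
    rwa [show g⁻¹ * M.y * g = M.x by rw [← hg]; group] at h)
  have hmem' : ∀ c : cC M.x, g * (c : G) * g⁻¹ ∈ cC M.y := fun c => mem_cC.2 (by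
    have h := (mem_cC.1 c.2).map (MulAut.conj g).toMonoidHom
    simp only [MulEquiv.coe_toMonoidHom, MulAut.conj_apply] at h
    rwa [hg] at h)
  let e : cC M.y ≃* cC M.x :=
    { toFun := fun c => ⟨g⁻¹ * (c : G) * g, hmem c⟩
      invFun := fun c => ⟨g * (c : G) * g⁻¹, hmem' c⟩
      left_inv := fun c => Subtype.ext (by show g * (g⁻¹ * (c : G) * g) * g⁻¹ = c; group)
      right_inv := fun c => Subtype.ext (by show g⁻¹ * (g * (c : G) * g⁻¹) * g = c; group)
      map_mul' := fun c d => Subtype.ext (by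
        show g⁻¹ * ((c : G) * d) * g = g⁻¹ * c * g * (g⁻¹ * d * g); group) }
  refine ⟨M.hcov.proj.comp e.toMonoidHom, M.hcov.proj_surjective.comp e.surjective, ?_, ?_, ?_⟩
  · rw [← M.hcov.six]
    refine Nat.card_congr (e.toEquiv.subtypeEquiv fun c => ?_)
    exact M.hcov.mem_ker
  · intro c hc d
    exact e.injective (by rw [map_mul, map_mul]; exact (mem_center_iff.1 (M.hcov.mem_ker.1 hc) _).symm)
  · intro c hc
    refine M.hcov.mem_ker.2 (mem_center_iff.2 fun d => ?_)
    obtain ⟨d, rfl⟩ := e.surjective d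
    show e d * e c = e c * e d
    rw [← map_mul, ← map_mul, hc d]

/-- The image of `⟨x, y⟩`. -/
def vImg : Subgroup M.Qt := zpowers M.xq ⊔ zpowers M.yq

theorem xq_comm : Commute M.xq M.yq :=
  (show Commute M.xH M.yH from Subtype.ext M.hxy.eq).map M.mq

theorem vImg_eq : M.vImg = ((zpowers M.x ⊔ zpowers M.y).subgroupOf (cC M.z)).map M.mq := by
  rw [subgroupOf_sup (zpowers_le.2 M.x_mem) (zpowers_le.2 M.y_mem), Subgroup.map_sup]
  have e : ∀ (v : cC M.z), (zpowers (v : G)).subgroupOf (cC M.z) = zpowers v := fun v => by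
    ext w
    rw [mem_subgroupOf, mem_zpowers_iff, mem_zpowers_iff]
    exact exists_congr fun i => ⟨fun h => Subtype.ext h, fun h => congrArg Subtype.val h⟩
  rw [show (zpowers M.x).subgroupOf (cC M.z) = zpowers M.xH from e M.xH,
    show (zpowers M.y).subgroupOf (cC M.z) = zpowers M.yH from e M.yH,
    MonoidHom.map_zpowers, MonoidHom.map_zpowers]
  rfl

include hchar in
theorem eq_zpowers_of_mem_vImg {q v : M.Qt} (hv : v ∈ M.vImg) (e : q * M.xq * q⁻¹ = v) :
    v ∈ zpowers M.xq := by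
  rw [M.vImg_eq] at hv
  obtain ⟨w, hw, rfl⟩ := hv
  by_cases hn : (w : G) ∈ zpowers M.x
  · obtain ⟨i, hi⟩ := mem_zpowers_iff.1 hn
    exact mem_zpowers_iff.2 ⟨i, by rw [xq, ← map_zpow]; exact congrArg M.mq (Subtype.ext hi)⟩
  · exact absurd e (M.not_conj hchar (M.other_of_mem (mem_subgroupOf.1 hw) hn) q)

theorem mem_norX {q : M.Qt} (h : q * M.xq * q⁻¹ ∈ zpowers M.xq) : q ∈ M.norX := by
  have hle : (zpowers M.xq).map (MulAut.conj q).toMonoidHom = zpowers M.xq := by
    refine eq_of_le_of_card_ge ?_ (le_of_eq (card_map_of_injective (MulAut.conj q).injective).symm)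
    rw [MonoidHom.map_zpowers]
    exact zpowers_le.2 h
  rw [norX, mem_normalizer_iff]
  intro a
  constructor
  · intro ha
    rw [← hle]
    exact ⟨a, ha, rfl⟩
  · intro ha
    rw [← hle] at ha
    obtain ⟨b, hb, hba⟩ := ha
    have : b = a := (MulAut.conj q).injective hba
    rwa [← this]

include hchar in
theorem card_vImg : Nat.card M.vImg = 9 := by
  have hxo : orderOf M.xq = 3 := by
    refine orderOf_eq_prime ?_ fun e => ?_
    · rw [xq, ← map_pow, show M.xH ^ 3 = 1 from Subtype.ext M.x_cube, map_one]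
    · have hE := M.mem_coreH.1 ((QuotientGroup.eq_one_iff _).1 e)
      obtain ⟨k, hk⟩ := M.core_two ⟨M.x, hE⟩
      have hd : orderOf M.x ∣ 2 ^ k := orderOf_dvd_of_pow_eq_one (congrArg Subtype.val hk)
      rw [M.hx] at hd
      exact absurd (Nat.prime_three.dvd_of_dvd_pow hd) (by norm_num)
  have hyo : orderOf M.yq = 3 := by
    refine orderOf_eq_prime ?_ fun e => ?_
    · rw [yq, ← map_pow, show M.yH ^ 3 = 1 from Subtype.ext M.y_cube, map_one]
    · have hE := M.mem_coreH.1 ((QuotientGroup.eq_one_iff _).1 e)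
      obtain ⟨k, hk⟩ := M.core_two ⟨M.y, hE⟩
      have hd : orderOf M.y ∣ 2 ^ k := orderOf_dvd_of_pow_eq_one (congrArg Subtype.val hk)
      rw [M.y_order] at hd
      exact absurd (Nat.prime_three.dvd_of_dvd_pow hd) (by norm_num)
  have hn : M.yq ∉ zpowers M.xq := by
    intro hmem
    refine M.not_conj hchar M.isOther_y (v := M.yH) 1 ?_
    obtain ⟨i, hi⟩ := mem_zpowers_iff.1 hmem
    rw [← zpow_mod_orderOf, hxo] at hi
    have hr : i % 3 = 0 ∨ i % 3 = 1 ∨ i % 3 = 2 := by omega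
    rcases hr with e | e | e <;> rw [show ((3 : ℕ) : ℤ) = 3 from rfl, e] at hi
    · exfalso
      rw [zpow_zero] at hi
      rw [← hi, orderOf_one] at hyo
      omega
    · rw [one_mul, inv_one, mul_one]
      simpa using hi
    · exfalso
      refine M.not_conj hchar (v := M.yH⁻¹) ?_ 1 ?_
      · exact ⟨by rw [InvMemClass.coe_inv, orderOf_inv]; exact M.y_order, inv_mem (mem_cC.2 M.hxy.symm), 1,
          one_mem _, Or.inr (by simp)⟩
      · rw [one_mul, inv_one, mul_one, map_inv]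
        show M.xq = M.yq⁻¹
        refine eq_inv_of_mul_eq_one_right ?_
        rw [← hi, ← zpow_add_one]
        exact_mod_cast (show M.xq ^ 3 = 1 from hxo ▸ pow_orderOf_eq_one M.xq)
  have hle : zpowers M.xq ⊔ zpowers M.yq ≤ centralizer ({M.xq} : Set M.Qt) :=
    sup_le (zpowers_le.2 (mem_centralizer_singleton_iff.2 rfl))
      (zpowers_le.2 (mem_centralizer_singleton_iff.2 M.xq_comm.eq.symm))
  have hN : zpowers M.yq ≤ normalizer ((zpowers M.xq : Subgroup M.Qt) : Set M.Qt) := by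
    refine zpowers_le.2 (centralizer_le_normalizer _ (mem_centralizer_iff.2 fun w hw => ?_))
    obtain ⟨i, rfl⟩ := mem_zpowers_iff.1 hw
    exact (M.xq_comm.zpow_left i).eq
  have hrel : (zpowers M.xq).relIndex (zpowers M.xq ⊔ zpowers M.yq) = 3 := by
    rw [sup_comm, relIndex_sup_normal hN]
    have hd := relIndex_dvd_card (zpowers M.xq) (zpowers M.yq)
    rw [Nat.card_zpowers, hyo] at hd
    rcases (Nat.dvd_prime Nat.prime_three).1 hd with e | e
    · exact absurd (relIndex_eq_one.1 e (mem_zpowers _)) hn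
    · exact e
  rw [vImg, ← card_mul_rel (le_sup_left : zpowers M.xq ≤ zpowers M.xq ⊔ zpowers M.yq), hrel,
    Nat.card_zpowers, hxo]

include hchar in
/-- `z` is not central in `C(y)`. -/
theorem z_not_central_y : ¬ ∀ d ∈ cC M.y, Commute M.z d := by
  intro hzall
  obtain ⟨W, hWx, hWy⟩ := M.exists_swap
  set a := W⁻¹ * M.z * W with ha
  have hWc : ∀ c ∈ cC M.x, W * c * W⁻¹ ∈ cC M.y := fun c hc => mem_cC.2 (by
    have h := (mem_cC.1 hc).inv_right.map (MulAut.conj W).toMonoidHom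
    simp only [MulEquiv.coe_toMonoidHom, MulAut.conj_apply] at h
    rwa [show W * M.x⁻¹ * W⁻¹ = (W * M.x * W⁻¹)⁻¹ by group, hWx, inv_inv] at h)
  have hac : ∀ c ∈ cC M.x, Commute a c := fun c hc => by
    have h := (hzall _ (hWc c hc)).map (MulAut.conj W⁻¹).toMonoidHom
    simp only [MulEquiv.coe_toMonoidHom, MulAut.conj_apply, inv_inv] at h
    rwa [show W⁻¹ * (W * c * W⁻¹) * W = c by group] at h
  have hao : orderOf a = 2 := by
    rw [ha, show W⁻¹ * M.z * W = W⁻¹ * M.z * W⁻¹⁻¹ by group,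
      CfsgLib.MathieuTwentyTwo.orderOf_conj, M.hz]
  obtain ⟨i, hi⟩ := mem_zpowers_iff.1 (M.z_unique (mem_cC.2 (hac _ (mem_cC.2 rfl))) hac
    (by rw [← hao, pow_orderOf_eq_one]))
  rw [← zpow_mod_orderOf, M.hz] at hi
  rcases Int.emod_two_eq_zero_or_one i with e' | e'
  · have : a = 1 := by rw [← hi]; norm_num [e']
    rw [this, orderOf_one] at hao
    omega
  · have haz : W⁻¹ * M.z * W = M.z := by rw [← ha, ← hi]; norm_num [e']
    have hW : W ∈ cC M.z := mem_cC.2 (by
      show W * M.z = M.z * W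
      conv_lhs => rw [← haz]
      group)
    have hv : M.IsOther ((M.yH⁻¹ : cC M.z) : G) :=
      ⟨by rw [InvMemClass.coe_inv, orderOf_inv]; exact M.y_order, inv_mem (mem_cC.2 M.hxy.symm), 1,
        one_mem _, Or.inr (by simp)⟩
    refine M.not_conj hchar hv (M.mq ⟨W, hW⟩) ?_
    rw [xq, ← map_inv, ← map_mul, ← map_mul]
    exact congrArg M.mq (Subtype.ext hWx)

include hchar in
/-- The centraliser of the image of `y` normalises `⟨x⟩`. -/
theorem centralizer_y_le : centralizer {M.yq} ≤ M.norX := by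
  have : Fact (Nat.Prime 3) := ⟨Nat.prime_three⟩
  obtain ⟨K, -, hK8, hKx, hKy, -⟩ := M.exists_K
  obtain ⟨π, hπs, hπk, hπ1, hπ2⟩ := M.exists_projY
  obtain ⟨-, hE5, -⟩ := M.core_card hchar
  have hzy : M.z ∈ cC M.y := mem_cC.2 (M.hzc _ (mem_cC.2 M.hxy.symm))
  set t := π ⟨M.z, hzy⟩ with ht
  have ht2 : orderOf t = 2 := by
    refine orderOf_eq_prime (by
      rw [ht, ← map_pow, show (⟨M.z, hzy⟩ : cC M.y) ^ 2 = 1 from
        Subtype.ext (M.hz ▸ pow_orderOf_eq_one M.z :), map_one]) fun e => ?_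
    exact M.z_not_central_y hchar fun d hd => congrArg Subtype.val (hπ1 _ e ⟨d, hd⟩)
  -- the order of the image
  set Cy := (cC M.y).subgroupOf (cC M.z)
  have hcard : Nat.card Cy ∣ 2304 := by
    let f : Cy →* ↥(centralizer ({t} : Set ↥Cfsg.Spor.M22)) :=
      { toFun := fun c => ⟨π ⟨((c : cC M.z) : G), mem_subgroupOf.1 c.2⟩, mem_centralizer_singleton_iff.2 (by
          rw [ht, ← map_mul, ← map_mul]
          exact congrArg π (Subtype.ext (mem_cC.1 (c : cC M.z).2).eq))⟩
        map_one' := Subtype.ext (map_one π)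
        map_mul' := fun c d => Subtype.ext (map_mul π ⟨_, _⟩ ⟨_, _⟩) }
    have hk : Nat.card f.ker ∣ 6 := by
      rw [← hπk]
      let g : f.ker →* π.ker :=
        { toFun := fun c => ⟨⟨((c.1 : cC M.z) : G), mem_subgroupOf.1 c.1.2⟩,
            congrArg Subtype.val (MonoidHom.mem_ker.1 c.2)⟩
          map_one' := rfl
          map_mul' := fun _ _ => rfl }
      refine card_dvd_of_injective g fun c d h => ?_
      exact Subtype.ext (Subtype.ext (Subtype.ext (congrArg (fun q => ((q.1 : cC M.y) : G)) h)))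
    rw [card_eq_card_quotient_mul_card_subgroup f.ker,
      Nat.card_congr (QuotientGroup.quotientKerEquivRange f).toEquiv]
    have hr := Subgroup.card_subgroup_dvd_card f.range
    rw [m22.card_centralizer_involution ht2] at hr
    exact (Nat.mul_dvd_mul hr hk).trans (by norm_num)
  have hX : Nat.card (Cy.map M.mq) ∣ 72 := by
    have e := card_eq_card_quotient_mul_card_subgroup (M.mq.domRestrict Cy).ker
    rw [Nat.card_congr (QuotientGroup.quotientKerEquivRange (M.mq.domRestrict Cy)).toEquiv,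
      MonoidHom.domRestrict_range,
      show (M.mq.domRestrict Cy).ker = M.coreH.subgroupOf Cy by
        ext c; rw [MonoidHom.mem_ker, mem_subgroupOf]; exact QuotientGroup.eq_one_iff _] at e
    have hker : Nat.card (M.coreH.subgroupOf Cy) = 2 ^ 5 := by
      rw [← hE5]
      refine Nat.card_congr
        { toFun := fun c => ⟨((c.1 : cC M.z) : G), M.mem_coreH.1 c.2, mem_subgroupOf.1 c.1.2⟩
          invFun := fun a => ⟨⟨⟨a, M.core_le a.2.1⟩, mem_subgroupOf.2 a.2.2⟩, M.mem_coreH.2 a.2.1⟩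
          left_inv := fun _ => rfl
          right_inv := fun _ => rfl }
    rw [hker] at e
    rw [e] at hcard
    exact Nat.dvd_of_mul_dvd_mul_right (by norm_num) (show _ * 2 ^ 5 ∣ 72 * 2 ^ 5 by simpa using hcard)
  set X := Cy.map M.mq with hXdef
  have hXc : X = centralizer {M.yq} := M.map_cC (v := M.yH) M.y_order
  -- `K` centralises the Sylow subgroup `⟨x, y⟩`
  have hxX : M.xq ∈ X := hXc ▸ mem_centralizer_singleton_iff.2 M.xq_comm.eq
  have hyX : M.yq ∈ X := hXc ▸ mem_centralizer_singleton_iff.2 rfl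
  have hVX : M.vImg ≤ X := sup_le (zpowers_le.2 hxX) (zpowers_le.2 hyX)
  have hV9 : Nat.card M.vImg = 9 := M.card_vImg hchar
  have h3 : ∀ {A : Subgroup M.Qt}, A ≤ X → ¬ 27 ∣ Nat.card A := fun hA h27 => by
    have := h27.trans ((card_dvd_of_le hA).trans hX)
    norm_num at this
  let P : Sylow 3 X := Sylow.ofCard (M.vImg.subgroupOf X) (by
    rw [Nat.card_congr (subgroupOfEquivOfLe hVX).toEquiv, hV9]
    have h9 : 9 ∣ Nat.card X := hV9 ▸ card_dvd_of_le hVX
    obtain ⟨m, hm⟩ := h9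
    have hm3 : ¬ 3 ∣ m := fun h => h3 le_rfl (by rw [hm]; exact Nat.mul_dvd_mul_left 9 h)
    rw [CfsgLib.MathieuBlocks.factorization_eq_of Nat.prime_three (v := 2) (m := m) (by rw [hm]; norm_num) hm3]
    norm_num)
  set Kq := (K.subgroupOf (cC M.z)).map M.mq with hKq
  have hKX : Kq ≤ X := map_mono (fun k hk => mem_subgroupOf.2 (hKy (mem_subgroupOf.1 hk)))
  have hKz : K ≤ cC M.z := hKx.trans M.le_cen_z
  have hKcomm : ∀ k ∈ Kq, Commute k M.xq ∧ Commute k M.yq := by
    rintro _ ⟨k, hk, rfl⟩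
    have hk' := mem_subgroupOf.1 hk
    exact ⟨(show Commute k M.xH from Subtype.ext (mem_cC.1 (hKx hk')).eq).map M.mq,
      (show Commute k M.yH from Subtype.ext (mem_cC.1 (hKy hk')).eq).map M.mq⟩
  have hK4 : 4 ∣ Nat.card Kq := by
    have e := card_eq_card_quotient_mul_card_subgroup (M.mq.domRestrict (K.subgroupOf (cC M.z))).ker
    rw [Nat.card_congr (QuotientGroup.quotientKerEquivRange (M.mq.domRestrict (K.subgroupOf (cC M.z)))).toEquiv,
      MonoidHom.domRestrict_range, Nat.card_congr (subgroupOfEquivOfLe hKz).toEquiv, hK8] at e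
    set k := Nat.card (M.mq.domRestrict (K.subgroupOf (cC M.z))).ker
    have hk2 : k ≤ 2 := by
      have hz2 : Nat.card (zpowers M.z) = 2 := by rw [Nat.card_zpowers, M.hz]
      rw [← hz2]
      refine Nat.card_le_card_of_injective
        (fun c => ⟨((c.1 : cC M.z) : G), M.fixed_x
          (M.mem_coreH.1 ((QuotientGroup.eq_one_iff _).1 (MonoidHom.mem_ker.1 c.2)))
          (mem_cC.1 (hKx (mem_subgroupOf.1 c.1.2)))⟩) fun c d h => ?_
      exact Subtype.ext (Subtype.ext (Subtype.ext (congrArg (fun q : zpowers M.z => (q : G)) h)))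
    have hk1 : 1 ≤ k := Nat.card_pos
    interval_cases k <;> rw [hKq] <;> omega
  -- the Sylow subgroup is normal
  have hnormal : (P : Subgroup X).Normal := by
    have hN : ((M.vImg ⊔ Kq).subgroupOf X) ≤ normalizer ((P : Subgroup X) : Set X) := by
      have hle : M.vImg ⊔ Kq ≤ normalizer (M.vImg : Set M.Qt) := by
        refine sup_le le_normalizer (le_trans ?_ (centralizer_le_normalizer _))
        rw [vImg, le_centralizer_iff, sup_le_iff]
        constructor <;> rw [zpowers_le, mem_centralizer_iff] <;> intro k hk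
        exacts [(hKcomm k hk).1.eq, (hKcomm k hk).2.eq]
      rintro ⟨a, ha⟩ hmem
      show _ ∈ normalizer ((M.vImg.subgroupOf X : Subgroup X) : Set X)
      rw [mem_normalizer_iff]
      intro b
      simp only [mem_subgroupOf]
      exact mem_normalizer_iff.1 (hle (mem_subgroupOf.1 hmem)) b
    have h36 : 36 ∣ Nat.card (normalizer ((P : Subgroup X) : Set X)) := by
      refine dvd_trans ?_ (card_dvd_of_le hN)
      rw [Nat.card_congr (subgroupOfEquivOfLe (sup_le hVX hKX)).toEquiv]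
      exact Nat.Coprime.mul_dvd_of_dvd_of_dvd (by norm_num : Nat.Coprime 9 4)
        (hV9 ▸ card_dvd_of_le le_sup_left) (hK4.trans (card_dvd_of_le le_sup_right))
    have hidx := Subgroup.card_mul_index (normalizer ((P : Subgroup X) : Set X))
    have hmod : Nat.card (Sylow 3 X) ≡ 1 [MOD 3] := card_sylow_modEq_one 3 X
    rw [P.card_eq_index_normalizer] at hmod
    obtain ⟨c, hc⟩ := h36
    obtain ⟨d, hd⟩ := hX
    set i := (normalizer ((P : Subgroup X) : Set X)).index
    have hi2 : i ∣ 2 := ⟨c * d, Nat.eq_of_mul_eq_mul_left (by norm_num : 0 < 36) (by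
      calc 36 * 2 = 72 := by norm_num
        _ = Nat.card X * d := hd
        _ = 36 * c * i * d := by rw [← hidx, hc]
        _ = 36 * (i * (c * d)) := by ring)⟩
    have hi1 : i = 1 := by
      change i ≡ 1 [MOD 3] at hmod
      rcases (Nat.dvd_prime Nat.prime_two).1 hi2 with e | e
      · exact e
      · rw [e] at hmod
        exact absurd hmod (by decide)
    exact normalizer_eq_top_iff.1 (index_eq_one.1 hi1)
  intro q hq
  rw [← hXc] at hq
  have hmem := hnormal.conj_mem ⟨M.xq, hxX⟩ (mem_subgroupOf.2 (mem_sup_left (mem_zpowers _))) ⟨q, hq⟩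
  exact M.mem_norX (M.eq_zpowers_of_mem_vImg hchar (mem_subgroupOf.1 hmem) rfl)

end Setup

end CfsgLib.J4Cover
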